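import Cfsg.Agent.Lib.Signalizer74.Setting

/-!
# Completeness of solvable signalizer functors from the absence of minimal counterexamples
-/

set_option autoImplicit false
set_option linter.style.haveILetI false
set_option linter.unusedSectionVars false

namespace CfsgLib.Signalizer74

open Subgroup CfsgLib.Signalizer
open scoped Pointwise commutatorElement

universe u

variable {p : ℕ} [hp : Fact p.Prime]

open scoped Classical in
/-- The sum of the orders of the values. -/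
noncomputable def weight {G : Type u} [Group G] [Finite G] (A : Subgroup G) (θ : G → Subgroup G) : ℕ :=
  ∑ a ∈ (A : Set G).toFinite.toFinset, if a = 1 then 0 else Nat.card (θ a)

theorem weight_lt {G : Type u} [Group G] [Finite G] {A : Subgroup G} {θ θ' : G → Subgroup G}
    (hle : ∀ a ∈ A, a ≠ 1 → θ' a ≤ θ a) (hne : ∃ a ∈ A, a ≠ 1 ∧ θ' a ≠ θ a) :
    weight A θ' < weight A θ := by
  classical
  refine Finset.sum_lt_sum (fun a ha => ?_) ?_
  · rw [Set.Finite.mem_toFinset] at ha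
    split_ifs with h1
    · exact le_rfl
    · exact card_le_of_le (hle a ha h1)
  · obtain ⟨a, ha, ha1, hne⟩ := hne
    refine ⟨a, (Set.Finite.mem_toFinset _).mpr ha, ?_⟩
    rw [if_neg ha1, if_neg ha1]
    exact lt_of_le_of_ne (card_le_of_le (hle a ha ha1)) fun e =>
      hne (eq_of_le_of_card_ge (hle a ha ha1) e.ge)

/-- Pass to `N(X) / X` for a member `X` normalized by all values. -/
theorem complete_of_quotient {G : Type u} [Group G] [Finite G] {A : Subgroup G}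
    {θ : G → Subgroup G} (hA : Cfsg.IsElementaryAbelian p A) (hA3 : Nat.card A = p ^ 3)
    (hθ : Cfsg.IsSolvableSignalizerFunctor p A θ) {X : Subgroup G}
    (hX : X ∈ Cfsg.signalizerFamily p A θ) (hX1 : X ≠ ⊥)
    (hn : ∀ a ∈ A, a ≠ 1 → θ a ≤ normalizer (X : Set G))
    (ih : ∀ (H : Type u) [Group H] [Finite H] (A' : Subgroup H) (θ' : H → Subgroup H),
      Cfsg.IsElementaryAbelian p A' → Nat.card A' = p ^ 3 →
      Cfsg.IsSolvableSignalizerFunctor p A' θ' → weight A' θ' < weight A θ → Complete p A' θ') :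
    Complete p A θ := by
  classical
  have hAp := isPGroup_of_elemAb hA
  set N := normalizer (X : Set G) with hN
  have hAN : A ≤ N := member_normalized hX
  have hAX : ∀ x ∈ A, x ∈ X → x = 1 := fun x hxA hxX => by
    have h : x ∈ A ⊓ X := ⟨hxA, hxX⟩
    rwa [CfsgLib.PCore.inf_eq_bot_of_isPGroup_coprime hAp
      (CfsgLib.PCore.coprime_of_not_dvd_card hX.2.1), mem_bot] at h
  let θ' : NQ X → Subgroup (NQ X) := fun y =>
    ⨆ a : {a : ↥N // (a : G) ∈ A ∧ (a : G) ≠ 1 ∧ proj X a = y}, img X (θ ((a : ↥N) : G))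
  have hinj : ∀ a b : ↥N, (a : G) ∈ A → (b : G) ∈ A → proj X a = proj X b → a = b := by
    intro a b ha hb e
    have h1 : ((a⁻¹ * b : ↥N) : G) ∈ X := proj_eq_one.mp (by rw [map_mul, map_inv, e, inv_mul_cancel])
    have h2 : ((a⁻¹ * b : ↥N) : G) = 1 := hAX _ (A.mul_mem (A.inv_mem ha) hb) h1
    exact (inv_mul_eq_one.mp (Subtype.ext h2))
  have hθ' : ∀ a : ↥N, (a : G) ∈ A → (a : G) ≠ 1 → θ' (proj X a) = img X (θ (a : G)) := by
    intro a ha ha1
    refine le_antisymm (iSup_le fun b => ?_)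
      (le_iSup_of_le (⟨a, ha, ha1, rfl⟩ : {a' : ↥N // (a' : G) ∈ A ∧ (a' : G) ≠ 1 ∧ proj X a' = proj X a}) le_rfl)
    rw [hinj b.1 a b.2.1 ha b.2.2.2]
  set A' := img X A
  have hmemA : ∀ y ∈ A', y ≠ 1 → ∃ a : ↥N, (a : G) ∈ A ∧ (a : G) ≠ 1 ∧ proj X a = y := by
    intro y hy hy1
    obtain ⟨a, ha, rfl⟩ := mem_img.mp hy
    exact ⟨a, ha, fun e => hy1 (by rw [show a = 1 from Subtype.ext e, map_one]), rfl⟩
  have hA' : Cfsg.IsElementaryAbelian p A' := by
    refine ⟨⟨⟨fun x y => Subtype.ext ?_⟩⟩, ?_⟩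
    · obtain ⟨a, ha, e⟩ := mem_img.mp x.2
      obtain ⟨b, hb, e'⟩ := mem_img.mp y.2
      show (x : NQ X) * y = y * x
      rw [← e, ← e', ← map_mul, ← map_mul]
      exact congrArg _ (Subtype.ext (commute_of_mem hA ha hb))
    · intro y hy
      obtain ⟨a, ha, rfl⟩ := mem_img.mp hy
      rw [← map_pow, show a ^ p = 1 from Subtype.ext (by simpa using hA.2 _ ha), map_one]
  have hcardA : Nat.card A' = p ^ 3 := by
    rw [← hA3, ← Nat.card_congr (subgroupOfEquivOfLe hAN).toEquiv]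
    refine (Nat.card_congr (Equiv.ofBijective
      (fun a : A.subgroupOf N => (⟨proj X a, mem_map_of_mem _ a.2⟩ : A')) ⟨fun a b e => ?_, fun y => ?_⟩)).symm
    · exact Subtype.ext (hinj a b a.2 b.2 (congrArg Subtype.val e))
    · obtain ⟨a, ha, e⟩ := y.2
      exact ⟨⟨a, ha⟩, Subtype.ext e⟩
  have hcent : ∀ (H : Subgroup G) (a : ↥N), (a : G) ∈ A → H ≤ N → A ≤ normalizer (H : Set G) →
      ¬ p ∣ Nat.card H → img X (H ⊓ centralizer {(a : G)}) = img X H ⊓ centralizer {proj X a} := by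
    intro H a ha hH hAH hHp
    have hz : zpowers (a : G) ≤ A := zpowers_le.mpr ha
    have h := img_inf_centralizer (O := X) hH (hz.trans hAN) (hz.trans hAH)
      (coprime_card_of_isPGroup (hAp.to_le hz) hHp) (Or.inl (isSolvable_of_isPGroup (hAp.to_le hz)))
    have hz' : img X (zpowers (a : G)) = zpowers (proj X a) := by
      rw [img, ← MonoidHom.map_zpowers]
      congr 1
      apply map_injective (subtype_injective _)
      rw [map_subtype_subgroupOf (hz.trans hAN), MonoidHom.map_zpowers]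
      rfl
    rwa [hz', centralizer_zpowers', centralizer_zpowers'] at h
  have hsig : Cfsg.IsSolvableSignalizerFunctor p A' θ' := by
    refine ⟨⟨fun y hy hy1 => ?_, fun y hy hy1 => ?_, fun y hy hy1 b hb x hx => ?_,
      fun y hy hy1 z hz hz1 => ?_⟩, fun y hy hy1 => ?_⟩ <;>
      obtain ⟨a, ha, ha1, rfl⟩ := hmemA y hy hy1
    · rw [hθ' a ha ha1]
      intro w hw
      obtain ⟨v, hv, rfl⟩ := mem_img.mp hw
      refine mem_centralizer_singleton_iff.mpr ?_
      rw [← map_mul, ← map_mul]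
      exact congrArg _ (Subtype.ext (mem_centralizer_singleton_iff.mp (hθ.1.1 _ ha ha1 hv)))
    · rw [hθ' a ha ha1]
      exact fun h => hθ.1.2.1 _ ha ha1 (h.trans (card_img_dvd (hn _ ha ha1)))
    · rw [hθ' a ha ha1] at hx ⊢
      exact CfsgLib.Coprime.mem_normalizer_conj
        ((le_normalizer_img (le_normalizer_of_conj (hθ.1.2.2.1 _ ha ha1))) hb) hx
    · obtain ⟨b, hb, hb1, rfl⟩ := hmemA z hz hz1
      rw [hθ' a ha ha1, hθ' b hb hb1, ← hcent _ b hb (hn _ ha ha1)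
        (le_normalizer_of_conj (hθ.1.2.2.1 _ ha ha1)) (hθ.1.2.1 _ ha ha1)]
      exact img_mono (hθ.1.2.2.2 _ ha ha1 _ hb hb1)
    · rw [hθ' a ha ha1]
      exact isSolvable_img (hθ.2 _ ha ha1)
  have hlt : weight A' θ' < weight A θ := by
    obtain ⟨a0, ha0, ha01, hne⟩ : ∃ a ∈ A, a ≠ 1 ∧ θ a ⊓ X ≠ ⊥ := by
      by_contra hcon
      push Not at hcon
      exact hX1 (eq_bot_iff.mpr (member_le hA hA3.ge hX fun a ha ha1 => by
        rw [← hcon a ha ha1]
        exact le_inf (hX.2.2.2 a ha ha1) inf_le_left))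
    have hsum : weight A' θ' = ∑ a ∈ (A : Set G).toFinite.toFinset,
        if a = 1 then 0 else Nat.card (img X (θ a)) := by
      symm
      refine Finset.sum_bij (fun a ha => proj X ⟨a, hAN ((Set.Finite.mem_toFinset _).mp ha)⟩)
        (fun a ha => (Set.Finite.mem_toFinset _).mpr (proj_mem_img ((Set.Finite.mem_toFinset _).mp ha)))
        (fun a ha b hb e => congrArg Subtype.val (hinj _ _ ((Set.Finite.mem_toFinset _).mp ha)
          ((Set.Finite.mem_toFinset _).mp hb) e))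
        (fun y hy => ?_) (fun a ha => ?_)
      · obtain ⟨a, ha, rfl⟩ := mem_img.mp ((Set.Finite.mem_toFinset _).mp hy)
        exact ⟨a, (Set.Finite.mem_toFinset _).mpr ha, rfl⟩
      · have haA := (Set.Finite.mem_toFinset _).mp ha
        by_cases ha1 : a = 1
        · have e : (⟨a, hAN haA⟩ : ↥N) = 1 := Subtype.ext ha1
          rw [if_pos ha1, e, map_one, if_pos rfl]
        · have h1 : proj X ⟨a, hAN haA⟩ ≠ 1 := fun e => ha1 (hAX a haA (proj_eq_one.mp e))
          rw [if_neg ha1, if_neg h1, hθ' ⟨a, hAN haA⟩ haA ha1]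
    rw [hsum]
    refine Finset.sum_lt_sum (fun a ha => ?_) ⟨a0, (Set.Finite.mem_toFinset _).mpr ha0, ?_⟩
    · rw [Set.Finite.mem_toFinset] at ha
      split_ifs with ha1
      · exact le_rfl
      · exact Nat.le_of_dvd Nat.card_pos (card_img_dvd (hn a ha ha1))
    · rw [if_neg ha01, if_neg ha01]
      exact card_img_lt (hn a0 ha0 ha01) hne
  obtain ⟨W', hW', hle'⟩ := ih (NQ X) A' θ' hA' hcardA hsig hlt
  set W := pre X W'
  have hWp : ¬ p ∣ Nat.card W := by
    rw [card_pre, hp.out.dvd_mul]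
    exact fun h => h.elim hX.2.1 hW'.2.1
  have hWA : A ≤ normalizer (W : Set G) :=
    le_normalizer_pre hAN (le_normalizer_of_conj hW'.2.2.1)
  refine ⟨W, ⟨isSolvable_pre hX.1 hW'.1, hWp, conj_mem_of_le_normalizer hWA, fun a ha ha1 => ?_⟩,
    fun a ha ha1 => le_pre_of_img_le (hn a ha ha1) ?_⟩
  · intro w hw
    have hw1 : proj X ⟨w, pre_le hw.1⟩ ∈ img X W ⊓ centralizer {proj X ⟨a, hAN ha⟩} := by
      rw [← hcent W ⟨a, hAN ha⟩ ha pre_le hWA hWp]
      exact proj_mem_img hw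
    rw [img_pre] at hw1
    have h1 : proj X (⟨a, hAN ha⟩ : ↥N) ≠ 1 := fun e => ha1 (hAX a ha (proj_eq_one.mp e))
    have h2 := hW'.2.2.2 _ (proj_mem_img ha) h1 hw1
    rw [hθ' ⟨a, hAN ha⟩ ha ha1] at h2
    obtain ⟨v, hv, e⟩ := mem_img.mp h2
    have h3 : w ∈ X ⊔ θ a := by
      have h4 : ((⟨w, pre_le hw.1⟩ * v⁻¹ : ↥N) : G) ∈ X :=
        proj_eq_one.mp (by rw [map_mul, map_inv, ← e, mul_inv_cancel])
      simpa using mul_mem_sup h4 hv
    exact (sup_mem_family hA hX (mem_family_theta hθ ha ha1) (hn a ha ha1)).2.2.2 a ha ha1 ⟨h3, hw.2⟩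
  · rw [← hθ' ⟨a, hAN ha⟩ ha ha1]
    exact hle' _ (proj_mem_img ha) fun e => ha1 (hAX a ha (proj_eq_one.mp e))

/-- A functor is complete if there are no minimal incomplete ones. -/
theorem complete_of_no_minimal
    (hno : ∀ (H : Type u) [Group H] [Finite H] (A : Subgroup H) (θ : H → Subgroup H), ¬ Minimal p A θ)
    (n : ℕ) : ∀ (G : Type u) [Group G] [Finite G] (A : Subgroup G) (θ : G → Subgroup G),
    Cfsg.IsElementaryAbelian p A → Nat.card A = p ^ 3 → Cfsg.IsSolvableSignalizerFunctor p A θ →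
    weight A θ = n → Complete p A θ := by
  induction n using Nat.strong_induction_on with
  | _ n ih =>
  intro G _ _ A θ hA hA3 hθ hn
  by_contra hnc
  refine hno G A θ ⟨hA, hA3, hθ, hnc, fun θ' hθ' hle hne => ?_, fun X hX hX1 => ?_⟩
  · exact ih _ (hn ▸ weight_lt hle hne) G A θ' hA hA3 hθ' rfl
  · by_contra hcon
    push Not at hcon
    exact hnc (complete_of_quotient hA hA3 hθ hX hX1 hcon
      fun H _ _ A' θ' h1 h2 h3 h4 => ih _ (hn ▸ h4) H A' θ' h1 h2 h3 rfl)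

/-- The completion for an operator group of order at least `p ^ 3`. -/
theorem completion_of_no_minimal
    (hno : ∀ (H : Type u) [Group H] [Finite H] (A : Subgroup H) (θ : H → Subgroup H), ¬ Minimal p A θ)
    {G : Type u} [Group G] [Finite G] {A : Subgroup G} {θ : G → Subgroup G}
    (hA : Cfsg.IsElementaryAbelian p A) (hA3 : p ^ 3 ≤ Nat.card A)
    (hθ : Cfsg.IsSolvableSignalizerFunctor p A θ) :
    let W := ⨆ a : {a : G // a ∈ A ∧ a ≠ 1}, θ (a : G)
    W ∈ Cfsg.signalizerFamily p A θ ∧ ∀ a ∈ A, a ≠ 1 → W ⊓ centralizer {a} = θ a := by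
  intro W
  obtain ⟨k, hk⟩ := IsPGroup.iff_card.mp (isPGroup_of_elemAb hA)
  have hk3 : 3 ≤ k := (Nat.pow_le_pow_iff_right hp.out.one_lt).mp (hk ▸ hA3)
  obtain ⟨K, hK⟩ := Sylow.exists_subgroup_card_pow_prime (G := A) p (n := 3)
    (hk ▸ pow_dvd_pow p hk3)
  set B := K.map A.subtype
  have hBA : B ≤ A := map_subtype_le _
  have hB : Cfsg.IsElementaryAbelian p B := isElementaryAbelian_of_le hA hBA
  have hB3 : Nat.card B = p ^ 3 := by rw [card_subtype, hK]
  have hθB : Cfsg.IsSolvableSignalizerFunctor p B θ :=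
    ⟨⟨fun a ha => hθ.1.1 a (hBA ha), fun a ha => hθ.1.2.1 a (hBA ha),
      fun a ha ha1 b hb => hθ.1.2.2.1 a (hBA ha) ha1 b (hBA hb),
      fun a ha ha1 b hb => hθ.1.2.2.2 a (hBA ha) ha1 b (hBA hb)⟩, fun a ha => hθ.2 a (hBA ha)⟩
  obtain ⟨W0, hW0, hle0⟩ := complete_of_no_minimal hno _ G B θ hB hB3 hθB rfl
  have hWW0 : W ≤ W0 := by
    refine iSup_le fun a => le_of_inf_centralizer_le hB hB3.ge (hθ.1.2.1 a a.2.1 a.2.2)
      (le_normalizer_of_conj fun b hb => hθ.1.2.2.1 a a.2.1 a.2.2 b (hBA hb)) fun b hb hb1 => ?_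
    exact (hθ.1.2.2.2 a a.2.1 a.2.2 b (hBA hb) hb1).trans (hle0 b hb hb1)
  have hWA : A ≤ normalizer (W : Set G) :=
    (le_iInf fun a : {a : G // a ∈ A ∧ a ≠ 1} => le_normalizer_of_conj (hθ.1.2.2.1 a a.2.1 a.2.2)).trans
      (iInf_normalizer_le_normalizer_iSup _)
  have hWp : ¬ p ∣ Nat.card W := not_dvd_of_le hWW0 hW0.2.1
  have hfix : ∀ a ∈ A, a ≠ 1 → W ⊓ centralizer {a} ≤ θ a := fun a ha ha1 =>
    le_of_inf_centralizer_le hB hB3.ge (not_dvd_of_le inf_le_left hWp)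
      (hBA.trans (CfsgLib.Signalizer74.le_normalizer_inf hWA
        (conj_mem_centralizer hA (Set.singleton_subset_iff.mpr ha)))) fun b hb hb1 => by
      intro x hx
      exact hθ.1.2.2.2 b (hBA hb) hb1 a ha ha1 ⟨hW0.2.2.2 b hb hb1 ⟨hWW0 hx.1.1, hx.2⟩, hx.1.2⟩
  refine ⟨⟨isSolvable_of_le hWW0 hW0.1, hWp, conj_mem_of_le_normalizer hWA, hfix⟩,
    fun a ha ha1 => le_antisymm (hfix a ha ha1) (le_inf ?_ (hθ.1.1 a ha ha1))⟩
  exact le_iSup (fun b : {b : G // b ∈ A ∧ b ≠ 1} => θ (b : G)) ⟨a, ha, ha1⟩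

end CfsgLib.Signalizer74
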