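import Cfsg.Agent.Lib.Signalizer74.ThreeIIPair
import Cfsg.Agent.Lib.Signalizer74.Two.Big
import Cfsg.Agent.Lib.Signalizer74.Two.Char
import Cfsg.Agent.Lib.Signalizer74.Reduction

/-!
# Solvable signalizer functors are complete
-/

set_option autoImplicit false
set_option linter.style.haveILetI false
set_option linter.unusedSectionVars false

universe u

namespace CfsgLib.Signalizer74

open Subgroup CfsgLib.Signalizer
open scoped Pointwise commutatorElement

namespace Minimal

variable {G : Type*} [Group G] [Finite G] {p q r : ℕ} [hp : Fact p.Prime] {A : Subgroup G}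
  {θ : G → Subgroup G} (h : Minimal p A θ)
include h

/-- A single prime is impossible: the maximal members are conjugate under their intersection. -/
theorem false_of_one (hq : q.Prime) (h1 : ∀ t ∈ primes A θ, t = q) : False := by
  haveI := Fact.mk hq
  have hmax : ∀ M, IsMax p A θ M → IsMaxQMember p q A θ M := fun M hM =>
    ⟨hM.1, IsPGroup.of_card (Nat.eq_prime_pow_of_unique_prime_dvd Nat.card_pos.ne'
      fun {t} ht hd => h1 t (h.prime_mem ht hM.1 hd)), fun R hR _ hle => hM.2.2 R hR hle⟩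
  obtain ⟨M, hM, -⟩ := h.exists_max_ge h.inf_member le_normalizer
  obtain ⟨a, ha, ha1, hna⟩ := h.not_all_le hM.1
  obtain ⟨L, hL, hle⟩ := h.exists_max_ge_theta ha ha1
  obtain ⟨c, hc, hcM⟩ := transitivity h.elem h.pow_le h.sig (hmax L hL) (hmax M hM)
  refine hna (hle.trans (le_trans (fun x hx => ?_) hcM.le))
  refine ⟨c⁻¹ * x * c, L.mul_mem (L.mul_mem (L.inv_mem (hL.2.1 hc)) hx) (hL.2.1 hc), ?_⟩
  simp [mul_assoc]

/-- Two primes are impossible. -/
theorem false_of_two (d : TwoPrimes A θ q r) : False := by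
  by_cases hm : ∃ M, IsMax p A θ M ∧ core q M ≠ ⊥ ∧ core r M ≠ ⊥
  · obtain ⟨M, hM, h1, h2⟩ := hm
    exact h.false_of_mixed d ⟨hM, h1, h2⟩
  · refine h.false_of_char d fun H hH => ?_
    by_contra hcon
    rw [not_or] at hcon
    exact hm ⟨H, hH, hcon.1, hcon.2⟩

/-- There is no minimal incomplete solvable signalizer functor. -/
theorem absurd_minimal : False := by
  by_cases h3 : ThreePrimes A θ
  · exact h.false_of_three_primes h3
  simp only [ThreePrimes] at h3
  push Not at h3
  obtain ⟨a, b, hab⟩ := h3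
  by_cases h1 : ∃ q : ℕ, q.Prime ∧ ∀ t ∈ primes A θ, t = q
  · obtain ⟨q, hq, hq'⟩ := h1
    exact h.false_of_one hq hq'
  push Not at h1
  obtain ⟨q, hq, -⟩ := h1 2 Nat.prime_two
  obtain ⟨r, hr, hrq⟩ := h1 q hq.1
  refine h.false_of_two (q := q) (r := r) ⟨hq, hr, hrq.symm, fun t ht => ?_⟩
  have key : ∀ x ∈ primes A θ, x = a ∨ x = b := fun x hx =>
    or_iff_not_imp_left.mpr fun hxa => hab x hx hxa
  rcases key t ht with e1 | e1 <;> rcases key q hq with e2 | e2 <;> rcases key r hr with e3 | e3 <;>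
    simp_all

end Minimal

theorem completion {G : Type u} [Group G] [Finite G] {p : ℕ} [Fact p.Prime] {A : Subgroup G}
    {θ : G → Subgroup G} (hA : Cfsg.IsElementaryAbelian p A) (hA3 : p ^ 3 ≤ Nat.card A)
    (hθ : Cfsg.IsSolvableSignalizerFunctor p A θ) :
    let W := ⨆ a : {a : G // a ∈ A ∧ a ≠ 1}, θ (a : G)
    W ∈ Cfsg.signalizerFamily p A θ ∧ ∀ a ∈ A, a ≠ 1 → W ⊓ centralizer {a} = θ a :=
  completion_of_no_minimal (fun _ _ _ _ _ h => h.absurd_minimal) hA hA3 hθ

end CfsgLib.Signalizer74
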