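import Cfsg.Agent.Lib.Signalizer74.Quot
import Cfsg.Agent.Lib.Coprime.HyperplaneGeneration
import Cfsg.Agent.Lib.InvChar.SolvableTwo
import Cfsg.Agent.Lib.PGroup.Frattini
import Cfsg.Agent.Lib.Solvable.Fitting
import Cfsg.Agent.Lib.Structure.Subnormal

/-!
# Criteria for lying in cores of solvable `p'`-subgroups with coprime operators
-/

set_option autoImplicit false
set_option linter.style.haveILetI false
set_option linter.unusedSectionVars false

namespace CfsgLib.Signalizer74

open Subgroup
open scoped Pointwise commutatorElement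

variable {G : Type*} [Group G]

/-- `O_q(H)` inside `G`. -/
def core (q : ℕ) (H : Subgroup G) : Subgroup G := (Cfsg.pCore q H).map H.subtype

/-- `O_{q'}(H)` inside `G`. -/
def core' (q : ℕ) (H : Subgroup G) : Subgroup G := (Cfsg.pPrimeCore q H).map H.subtype

variable [Finite G] {p q r : ℕ} {H K L N O S U V : Subgroup G}

theorem core_le : core q H ≤ H := map_subtype_le _

theorem core'_le : core' q H ≤ H := map_subtype_le _

theorem normalizer_le_normalizer_core :
    normalizer (H : Set G) ≤ normalizer (core q H : Set G) := by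
  haveI := CfsgLib.Fitting.pCore_characteristic (G := H) q
  exact CfsgLib.Structure.normalizer_le_normalizer_map_subtype H _

theorem normalizer_le_normalizer_core' :
    normalizer (H : Set G) ≤ normalizer (core' q H : Set G) :=
  CfsgLib.Structure.normalizer_le_normalizer_map_subtype H _

theorem le_normalizer_core : H ≤ normalizer (core q H : Set G) :=
  le_normalizer.trans normalizer_le_normalizer_core

theorem le_normalizer_core' : H ≤ normalizer (core' q H : Set G) :=
  le_normalizer.trans normalizer_le_normalizer_core'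

theorem centralizer_zpowers' (x : G) :
    centralizer (zpowers x : Set G) = centralizer ({x} : Set G) := by
  rw [zpowers_eq_closure, centralizer_closure]

theorem le_normalizer_commutator (h₁ : S ≤ normalizer (H : Set G))
    (h₂ : S ≤ normalizer (K : Set G)) : S ≤ normalizer ((⁅H, K⁆ : Subgroup G) : Set G) := by
  intro s hs
  rw [mem_normalizer_iff_map_conj_eq, map_commutator, mem_normalizer_iff_map_conj_eq.mp (h₁ hs),
    mem_normalizer_iff_map_conj_eq.mp (h₂ hs)]

theorem normalizer_le_normalizer_centralizer' :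
    normalizer (H : Set G) ≤ normalizer ((centralizer (H : Set G) : Subgroup G) : Set G) := by
  intro s hs
  refine CfsgLib.Coprime.mem_normalizer_of_forall_conj fun x hx => mem_centralizer_iff.mpr fun y hy => ?_
  have h1 := mem_centralizer_iff.mp hx (s⁻¹ * y * s) (CfsgLib.Coprime.mem_normalizer_conj' hs hy)
  calc y * (s * x * s⁻¹) = s * (s⁻¹ * y * s * x) * s⁻¹ := by group
    _ = _ := by rw [h1]; group

theorem le_normalizer_inf (h₁ : S ≤ normalizer (H : Set G))
    (h₂ : S ≤ normalizer (K : Set G)) : S ≤ normalizer ((H ⊓ K : Subgroup G) : Set G) :=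
  (le_inf h₁ h₂).trans inf_normalizer_le_normalizer_inf

theorem isPGroup_core : IsPGroup q (core q H) := CfsgLib.PCore.pCore_isPGroup.map _

theorem not_dvd_core' [Fact q.Prime] : ¬ q ∣ Nat.card (core' q H) := by
  rw [core', card_subtype]; exact CfsgLib.PCore.not_dvd_card_pPrimeCore

theorem le_core (hN : N ≤ H) (hn : H ≤ normalizer (N : Set G)) (hq : IsPGroup q N) :
    N ≤ core q H := by
  have h := CfsgLib.PCore.le_pCore ((normal_subgroupOf_iff_le_normalizer hN).mpr hn)
    (hq.comap_of_injective H.subtype H.subtype_injective)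
  exact (map_subgroupOf_eq_of_le hN).ge.trans (map_mono h)

theorem le_core' [Fact q.Prime] (hN : N ≤ H) (hn : H ≤ normalizer (N : Set G))
    (hq : ¬ q ∣ Nat.card N) : N ≤ core' q H := by
  have h := CfsgLib.PCore.le_pPrimeCore_of_not_dvd (p := q)
    ((normal_subgroupOf_iff_le_normalizer hN).mpr hn)
    (by rwa [Nat.card_congr (subgroupOfEquivOfLe hN).toEquiv])
  exact (map_subgroupOf_eq_of_le hN).ge.trans (map_mono h)

theorem core_inf_le (hK : K ≤ H) : core q H ⊓ K ≤ core q K :=
  le_core inf_le_right (le_normalizer_inf (hK.trans le_normalizer_core) le_normalizer)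
    (isPGroup_core.to_le inf_le_left)

theorem core'_inf_le [Fact q.Prime] (hK : K ≤ H) : core' q H ⊓ K ≤ core' q K :=
  le_core' inf_le_right (le_normalizer_inf (hK.trans le_normalizer_core') le_normalizer)
    fun h => not_dvd_core' (h.trans (card_dvd_of_le inf_le_left))

theorem not_dvd_of_isPGroup [Fact q.Prime] [Fact r.Prime] (hH : IsPGroup r H)
    (hqr : q ≠ r) : ¬ q ∣ Nat.card H := by
  obtain ⟨n, hn⟩ := IsPGroup.iff_card.mp hH
  rw [hn]
  exact fun h => hqr ((Nat.prime_dvd_prime_iff_eq (Fact.out : q.Prime) Fact.out).mp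
    ((Fact.out : q.Prime).dvd_of_dvd_pow h))

theorem coprime_of_isPGroup [Fact q.Prime] (hV : IsPGroup q V) (hU : ¬ q ∣ Nat.card U) :
    (Nat.card U).Coprime (Nat.card V) := by
  obtain ⟨n, hn⟩ := IsPGroup.iff_card.mp hV
  rw [hn]
  exact (((Fact.out : q.Prime).coprime_iff_not_dvd.mpr hU).symm).pow_right n

theorem isSolvable_pGroup [Fact q.Prime] (hV : IsPGroup q V) : Group.IsSolvable V :=
  haveI := hV.isNilpotent
  inferInstance

/-- The centralizer of all cores of a solvable group lies in their join. -/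
theorem mem_iSup_core (hHs : Group.IsSolvable H) {x : G} (hx : x ∈ H)
    (h : ∀ r : ℕ, r.Prime → x ∈ centralizer (core r H : Set G)) :
    x ∈ ⨆ r : Nat.Primes, core (r : ℕ) H := by
  haveI := hHs
  have hc : (⟨x, hx⟩ : H) ∈ centralizer (Cfsg.fittingSubgroup H : Set H) := by
    have h1 : Cfsg.fittingSubgroup H ≤ centralizer ({⟨x, hx⟩} : Set H) := by
      rw [CfsgLib.Fitting.fitting_eq_iSup_pCore]
      refine iSup_le fun r y hy => mem_centralizer_singleton_iff.mpr (Subtype.ext ?_)
      exact mem_centralizer_iff.mp (h r (Nat.prime_of_mem_primeFactors r.2)) (y : G) (mem_map_of_mem _ hy)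
    exact mem_centralizer_iff.mpr fun y hy => mem_centralizer_singleton_iff.mp (h1 hy)
  haveI := hHs
  have h2 := CfsgLib.Fitting.centralizer_fitting_le hc
  rw [CfsgLib.Fitting.fitting_eq_iSup_pCore] at h2
  have h3 := mem_map_of_mem H.subtype h2
  rw [Subgroup.map_iSup] at h3
  refine SetLike.le_def.mp (iSup_le ?_) h3
  intro r
  exact le_iSup_of_le (⟨r.1, Nat.prime_of_mem_primeFactors r.2⟩ : Nat.Primes) le_rfl

theorem inf_centralizer_core_le [Fact q.Prime] (hHs : Group.IsSolvable H)
    (hone : ∀ r : ℕ, r.Prime → r ≠ q → core r H = ⊥) :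
    H ⊓ centralizer (core q H : Set G) ≤ core q H := by
  rintro x ⟨hx, hxc⟩
  refine (iSup_le fun r => ?_ : (⨆ r : Nat.Primes, core (r : ℕ) H) ≤ core q H)
    (mem_iSup_core hHs hx fun r hr => ?_)
  · by_cases hrq : (r : ℕ) = q
    · rw [hrq]
    · rw [hone r r.2 hrq]; exact bot_le
  · by_cases hrq : r = q
    · rw [hrq]; exact hxc
    · rw [hone r hr hrq]
      exact mem_centralizer_iff.mpr fun y hy => by
        rw [SetLike.mem_coe, mem_bot] at hy
        simp [hy]

theorem inf_centralizer_core_le' [Fact q.Prime] (hHs : Group.IsSolvable H)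
    (hO : core' q H = ⊥) : H ⊓ centralizer (core q H : Set G) ≤ core q H := by
  rintro x ⟨hx, hxc⟩
  haveI := hHs
  have h0 : Cfsg.pPrimeCore q H = ⊥ := (map_eq_bot_iff_of_injective _ H.subtype_injective).mp hO
  have hc : (⟨x, hx⟩ : H) ∈ centralizer (Cfsg.pCore q H : Set H) :=
    mem_centralizer_iff.mpr fun y hy => Subtype.ext
      (mem_centralizer_iff.mp hxc (y : G) (mem_map_of_mem _ hy))
  exact ⟨_, CfsgLib.InvChar.centralizer_pCore_le h0 hc, rfl⟩

theorem core'_img_eq_bot [Fact q.Prime] : core' q (img (core' q L) L) = ⊥ := by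
  set O := core' q L with hO
  set W := core' q (img O L) with hW
  have hLN : L ≤ normalizer (O : Set G) := le_normalizer_core'
  have hle : pre O W ≤ L := by
    intro x hx
    obtain ⟨z, hz, e⟩ := mem_img.mp (core'_le ((mem_pre (x := ⟨x, pre_le hx⟩)).mp hx))
    have h1 : ((z⁻¹ * ⟨x, pre_le hx⟩ : ↥(normalizer (O : Set G))) : G) ∈ O :=
      proj_eq_one.mp (by rw [map_mul, map_inv, e, inv_mul_cancel])
    simpa using L.mul_mem hz (core'_le h1)
  have hd : ¬ q ∣ Nat.card (pre O W) := by
    rw [card_pre, (Fact.out : q.Prime).dvd_mul]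
    exact fun h => h.elim not_dvd_core' not_dvd_core'
  have h2 : pre O W ≤ O :=
    le_core' hle (le_normalizer_pre hLN (le_normalizer_core'.trans' le_rfl)) hd
  rw [eq_bot_iff, ← img_pre (W := W)]
  exact (img_mono h2).trans (img_self O).le

theorem le_core'_of_img {X : Subgroup G} [Fact q.Prime] (hX : X ≤ L)
    (h : img (core' q L) X = ⊥) : X ≤ core' q L :=
  (img_eq_bot (hX.trans le_normalizer_core')).mp h

theorem le_of_le_sup_commutator [Fact r.Prime] (hK : IsPGroup r K)
    (h : K ≤ ⁅K, K⁆ ⊔ (K ⊓ S)) : K ≤ S := by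
  have e : (K ⊓ S).subgroupOf K ⊔ frattini K = ⊤ := by
    refine top_le_iff.mp (le_trans ?_ (sup_le_sup_left (CfsgLib.PGroup.commutator_le_frattini hK) _))
    refine (map_le_map_iff_of_injective K.subtype_injective).mp ?_
    rw [← MonoidHom.range_eq_map, range_subtype, Subgroup.map_sup, subgroupOf_map_subtype,
      _root_.commutator_def, map_commutator, ← MonoidHom.range_eq_map, range_subtype, sup_comm]
    exact h.trans (sup_le_sup_left (le_inf le_rfl inf_le_left) _)
  have h1 := frattini_nongenerating e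
  rw [subgroupOf_eq_top] at h1
  exact h1.trans inf_le_right

theorem commutator_lt [Fact r.Prime] (hV : IsPGroup r V) (hne : V ≠ ⊥) : ⁅V, V⁆ < V :=
  CfsgLib.Coprime.commutator_lt_of_isPGroup hV hV le_normalizer hne

theorem isMulCommutative_img_derived (hV : V ≤ normalizer ((⁅V, V⁆ : Subgroup G) : Set G)) :
    IsMulCommutative (img ⁅V, V⁆ V) := by
  refine ⟨⟨fun x y => Subtype.ext ?_⟩⟩
  have h : ⁅(x : NQ ⁅V, V⁆), (y : NQ ⁅V, V⁆)⁆ ∈ img ⁅V, V⁆ ⁅V, V⁆ := by
    rw [img_commutator hV hV]
    exact commutator_mem_commutator x.2 y.2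
  rw [img_self, mem_bot] at h
  exact commutatorElement_eq_one_iff_mul_comm.mp h

omit [Finite G] in
/-- Averaging: a group `U` with `d` fixed-point-free on it centralizing `C_V(d)` centralizes the
abelian group `V`. -/
theorem fpf_abelian [Finite U] [Finite V] [IsMulCommutative V] [hp : Fact p.Prime] {d : G}
    (hd : d ^ p = 1)
    (hdU : d ∈ normalizer (U : Set G)) (hdV : d ∈ normalizer (V : Set G))
    (hUV : U ≤ normalizer (V : Set G)) (hcop : (Nat.card U).Coprime (Nat.card V))
    (hfix : U ⊓ centralizer {d} = ⊥) (hC : U ≤ centralizer ((V ⊓ centralizer {d} : Subgroup G) : Set G)) :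
    U ≤ centralizer (V : Set G) := by
  classical
  haveI := Fintype.ofFinite U
  letI : CommGroup V :=
    { (inferInstance : Group V) with mul_comm := fun a b => (IsMulCommutative.is_comm).comm a b }
  let NV := normalizer (V : Set G)
  let cj : ↥NV → V →* V := fun g => MonoidHom.mk'
    (fun v => ⟨(g : G) * v * (g : G)⁻¹, CfsgLib.Coprime.mem_normalizer_conj g.2 v.2⟩)
    fun a b => Subtype.ext (by simp [mul_assoc])
  have cj_mul : ∀ g h v, cj (g * h) v = cj g (cj h v) := fun g h v => Subtype.ext (by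
    simp [cj, mul_assoc])
  let uN : U → ↥NV := fun u => ⟨u, hUV u.2⟩
  let D : ℕ → ↥NV := fun i => ⟨d, hdV⟩ ^ i
  have hDc : ∀ i, ((D i : ↥NV) : G) = d ^ i := fun i => by simp [D]
  let Nd : V → V := fun v => ∏ i ∈ Finset.range p, cj (D i) v
  have hNdC : ∀ v, (Nd v : G) ∈ V ⊓ centralizer {d} := by
    intro v
    refine ⟨(Nd v).2, mem_centralizer_singleton_iff.mpr ?_⟩
    have h1 : cj (D 1) (Nd v) = Nd v := by
      rw [map_prod]
      have h2 : ∀ i, cj (D 1) (cj (D i) v) = cj (D (i + 1)) v := fun i => by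
        rw [← cj_mul]; congr 2; simp [D, pow_succ']
      simp only [h2]
      have e := Finset.prod_range_succ' (fun i => cj (D i) v) p
      rw [Finset.prod_range_succ] at e
      have hp0 : cj (D p) v = cj (D 0) v := by
        congr 2
        exact Subtype.ext (by rw [hDc, hDc, hd, pow_zero])
      rw [hp0] at e
      exact (mul_right_cancel e).symm
    have h3 : d * (Nd v : G) * d⁻¹ = (Nd v : G) := by
      have := congrArg Subtype.val h1
      simpa [cj, D] using this
    exact (mul_inv_eq_iff_eq_mul.mp h3).symm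
  have hfixN : ∀ (u : U) v, cj (uN u) (Nd v) = Nd v := fun u v => Subtype.ext (by
    show (u : G) * (Nd v : G) * (u : G)⁻¹ = (Nd v : G)
    rw [mul_inv_eq_iff_eq_mul]
    exact (mem_centralizer_iff.mp (hC u.2) _ (hNdC v)).symm)
  intro w hw
  refine mem_centralizer_iff.mpr fun x hx => ?_
  set v : V := ⟨x, hx⟩
  set S := fun v : V => ∏ u : U, cj (uN u) v with hS
  have hSfix : ∀ (z : U) v, cj (uN z) (S v) = S v := by
    intro z v
    rw [hS, map_prod]
    refine Fintype.prod_equiv (Equiv.mulLeft z) _ _ fun u => ?_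
    rw [← cj_mul]; rfl
  -- the key identity
  have key : (∏ u : U, Nd (cj (uN u) v)) =
      v ^ Nat.card U * ∏ i ∈ Finset.range p \ {0}, S (cj (D i) v) := by
    have h0 : (∏ u : U, Nd (cj (uN u) v)) =
        ∏ u : U, cj (uN u⁻¹) (Nd (cj (uN u) v)) :=
      Finset.prod_congr rfl fun u _ => (hfixN _ _).symm
    rw [h0]
    simp only [Nd, map_prod]
    rw [Finset.prod_comm, ← Finset.mul_prod_erase (Finset.range p) _
      (Finset.mem_range.mpr hp.out.pos), Finset.sdiff_singleton_eq_erase]
    congr 1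
    · rw [Nat.card_eq_fintype_card, ← Finset.card_univ, ← Finset.prod_const]
      refine Finset.prod_congr rfl fun u _ => ?_
      rw [← cj_mul, ← cj_mul]
      refine Subtype.ext ?_
      simp [cj, uN, D]
    · refine Finset.prod_congr rfl fun i hi => ?_
      obtain ⟨hi0, hip⟩ := Finset.mem_erase.mp hi
      rw [Finset.mem_range] at hip
      have hnd : ∀ u : U, (u : G)⁻¹ * (d ^ i * u * (d ^ i)⁻¹) ∈ U := fun u =>
        mul_mem (inv_mem u.2) (CfsgLib.Coprime.mem_normalizer_conj (pow_mem hdU i) u.2)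
      let φ : U → U := fun u => ⟨_, hnd u⟩
      have hinj : Function.Injective φ := by
        intro u u' h
        have h1 : (u : G)⁻¹ * (d ^ i * u * (d ^ i)⁻¹) = (u' : G)⁻¹ * (d ^ i * u' * (d ^ i)⁻¹) :=
          congrArg Subtype.val h
        have h2 : Commute (d ^ i) ((u' : G) * (u : G)⁻¹) := by
          show d ^ i * ((u' : G) * (u : G)⁻¹) = (u' : G) * (u : G)⁻¹ * d ^ i
          have h3 := congrArg (fun z => (u' : G) * z * (d ^ i * (u : G)⁻¹)) h1
          simp only [mul_assoc, mul_inv_cancel_left, inv_mul_cancel_left, mul_inv_cancel,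
            mul_one] at h3 ⊢
          exact h3.symm
        have hcd : Commute d ((u' : G) * (u : G)⁻¹) := by
          have hcop' : i.Coprime p :=
            (hp.out.coprime_iff_not_dvd.mpr (Nat.not_dvd_of_pos_of_lt (Nat.pos_of_ne_zero hi0) hip)).symm
          obtain ⟨j, hj⟩ := exists_pow_eq_self_of_coprime (x := d)
            (hcop'.coprime_dvd_right (orderOf_dvd_of_pow_eq_one hd))
          rw [← hj]
          exact h2.pow_left j
        have h4 : (u' : G) * (u : G)⁻¹ ∈ U ⊓ centralizer {d} :=
          mem_inf.mpr ⟨U.mul_mem u'.2 (U.inv_mem u.2), mem_centralizer_singleton_iff.mpr hcd.eq.symm⟩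
        rw [hfix, mem_bot, mul_inv_eq_one] at h4
        exact Subtype.ext h4.symm
      refine Fintype.prod_bijective φ (Finite.injective_iff_bijective.mp hinj) _ _ fun u => ?_
      rw [← cj_mul, ← cj_mul, ← cj_mul]
      refine Subtype.ext ?_
      simp [cj, uN, φ, hDc, mul_assoc]
  have hfixed : cj (uN ⟨w, hw⟩) (v ^ Nat.card U) = v ^ Nat.card U := by
    rw [← mul_inv_eq_iff_eq_mul] at key
    rw [← key, map_mul, map_inv, map_prod, map_prod]
    congr 1
    · exact Finset.prod_congr rfl fun u _ => hfixN _ _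
    · congr 1
      exact Finset.prod_congr rfl fun i _ => hSfix _ _
  rw [map_pow] at hfixed
  have h5 : cj (uN ⟨w, hw⟩) v = v := (powCoprime hcop.symm).injective hfixed
  have h6 : w * x * w⁻¹ = x := congrArg Subtype.val h5
  exact (mul_inv_eq_iff_eq_mul.mp h6).symm

variable [hp : Fact p.Prime] [hr : Fact r.Prime]

theorem fpf_centralizes {d : G} (hV : IsPGroup r V) (hd : d ^ p = 1) (hVp : ¬ p ∣ Nat.card V)
    (hUp : ¬ p ∣ Nat.card U) (hUr : ¬ r ∣ Nat.card U) (hdU : d ∈ normalizer (U : Set G))
    (hdV : d ∈ normalizer (V : Set G)) (hUV : U ≤ normalizer (V : Set G))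
    (hfix : U ⊓ centralizer {d} = ⊥)
    (hC : U ≤ centralizer ((V ⊓ centralizer {d} : Subgroup G) : Set G)) :
    U ≤ centralizer (V : Set G) := by
  induction V using (wellFounded_lt (α := Subgroup G)).induction with
  | _ V ih =>
  by_cases hne : V = ⊥
  · subst hne
    exact fun w _ => mem_centralizer_iff.mpr fun x hx => by
      rw [SetLike.mem_coe, mem_bot] at hx; simp [hx]
  set D := ⁅V, V⁆ with hDdef
  have hDV : D < V := commutator_lt hV hne
  have hUD : U ≤ normalizer (D : Set G) := le_normalizer_commutator hUV hUV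
  have hdVz : zpowers d ≤ normalizer (V : Set G) := zpowers_le.mpr hdV
  have hdUz : zpowers d ≤ normalizer (U : Set G) := zpowers_le.mpr hdU
  have hdD : zpowers d ≤ normalizer (D : Set G) := le_normalizer_commutator hdVz hdVz
  have hVD : V ≤ normalizer (D : Set G) := le_normalizer_commutator le_normalizer le_normalizer
  have hUD' : U ≤ centralizer (D : Set G) := ih D hDV (hV.to_le hDV.le)
    (fun h => hVp (h.trans (card_dvd_of_le hDV.le))) (hdD (mem_zpowers d)) hUD
    (hC.trans (centralizer_le fun x hx => ⟨hDV.le hx.1, hx.2⟩))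
  have hS : IsPGroup p (zpowers d) :=
    IsPGroup.of_card_dvd_pow (n := 1) (by rw [Nat.card_zpowers, pow_one]; exact orderOf_dvd_of_pow_eq_one hd)
  haveI := isMulCommutative_img_derived hVD
  have key := fpf_abelian (p := p) (U := img D U) (V := img D V)
    (d := proj D ⟨d, hdD (mem_zpowers d)⟩)
    (by rw [← map_pow, show (⟨d, hdD (mem_zpowers d)⟩ : ↥(normalizer (D : Set G))) ^ p = 1 from
      Subtype.ext (by simpa using hd), map_one])
    ((le_normalizer_img hdUz) (proj_mem_img (mem_zpowers d)))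
    ((le_normalizer_img hdVz) (proj_mem_img (mem_zpowers d)))
    (le_normalizer_img hUV)
    (((coprime_of_isPGroup hV hUr).coprime_dvd_left (card_img_dvd hUD)).coprime_dvd_right
      (card_img_dvd hVD))
  have hz : img D (zpowers d) = zpowers (proj D ⟨d, hdD (mem_zpowers d)⟩) := by
    rw [img, ← MonoidHom.map_zpowers]
    congr 1
    apply map_injective (subtype_injective _)
    rw [map_subtype_subgroupOf hdD, MonoidHom.map_zpowers]
    rfl
  have hcent : ∀ {X : Subgroup G}, X ≤ normalizer (D : Set G) → zpowers d ≤ normalizer (X : Set G) →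
      ¬ p ∣ Nat.card X → img D X ⊓ centralizer {proj D ⟨d, hdD (mem_zpowers d)⟩} =
        img D (X ⊓ centralizer {d}) := by
    intro X hX hdX hXp
    have h := img_inf_centralizer hX hdD hdX (coprime_of_isPGroup hS hXp).symm
      (Or.inl (isSolvable_pGroup hS))
    rw [hz, centralizer_zpowers', centralizer_zpowers'] at h
    exact h.symm
  rw [hcent hUD hdUz hUp, hcent hVD hdVz hVp, hfix] at key
  have key' := key (eq_bot_iff.mpr ((img_mono bot_le).trans (img_self D).le))
    (le_centralizer_img hC)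
  refine CfsgLib.Coprime.le_centralizer_of_trivial_on_series U V hUV (coprime_of_isPGroup hV hUr)
    (Or.inr (isSolvable_pGroup hV)) D hDV.le hUD' fun a ha k hk => ?_
  refine (proj_eq_one (x := (⟨_, mul_mem (inv_mem (hVD hk))
    (mul_mem (mul_mem (hUD ha) (hVD hk)) (inv_mem (hUD ha)))⟩ : ↥(normalizer (D : Set G))))).mp ?_
  have h := mem_centralizer_iff.mp (key' (proj_mem_img (x := ⟨a, hUD ha⟩) ha)) _
    (proj_mem_img (x := ⟨k, hVD hk⟩) hk)
  show proj D (⟨k, hVD hk⟩⁻¹ * (⟨a, hUD ha⟩ * ⟨k, hVD hk⟩ * ⟨a, hUD ha⟩⁻¹)) = 1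
  rw [map_mul, map_mul, map_mul, map_inv, map_inv, ← h, mul_inv_cancel_right, inv_mul_cancel]

/-- `U` on which `d` is fixed-point-free with `⁅U, C_L(d)⁆` an `r'`-group lies in `O_{r'}(L)`. -/
theorem le_core'_of_fpf {d : G} (hd : d ^ p = 1) (hdL : d ∈ normalizer (L : Set G))
    (hdU : d ∈ normalizer (U : Set G)) (hL : ¬ p ∣ Nat.card L) (hLs : Group.IsSolvable L)
    (hU : U ≤ L) (hUr : ¬ r ∣ Nat.card U) (hfix : U ⊓ centralizer {d} = ⊥)
    (hcomm : ¬ r ∣ Nat.card ↥⁅U, L ⊓ centralizer {d}⁆) : U ≤ core' r L := by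
  set O := core' r L with hO
  have hLN : L ≤ normalizer (O : Set G) := le_normalizer_core'
  have hUN : U ≤ normalizer (O : Set G) := hU.trans hLN
  have hzN : zpowers d ≤ normalizer (O : Set G) :=
    zpowers_le.mpr (normalizer_le_normalizer_core' hdL)
  have hS : IsPGroup p (zpowers d) :=
    IsPGroup.of_card_dvd_pow (n := 1) (by rw [Nat.card_zpowers, pow_one]; exact orderOf_dvd_of_pow_eq_one hd)
  set d' := proj O ⟨d, hzN (mem_zpowers d)⟩
  have hz : img O (zpowers d) = zpowers d' := by
    rw [img, ← MonoidHom.map_zpowers]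
    congr 1
    apply map_injective (subtype_injective _)
    rw [map_subtype_subgroupOf hzN, MonoidHom.map_zpowers]
    rfl
  have hcent : ∀ {X : Subgroup G}, X ≤ L → zpowers d ≤ normalizer (X : Set G) →
      img O X ⊓ centralizer {d'} = img O (X ⊓ centralizer {d}) := by
    intro X hX hdX
    have h := img_inf_centralizer (hX.trans hLN) hzN hdX
      (coprime_of_isPGroup hS (fun h => hL (h.trans (card_dvd_of_le hX)))).symm
      (Or.inl (isSolvable_pGroup hS))
    rw [hz, centralizer_zpowers', centralizer_zpowers'] at h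
    exact h.symm
  set Q := core r (img O L)
  have hQL : Q ≤ img O L := core_le
  have hU'L : img O U ≤ img O L := img_mono hU
  have hUr' : ¬ r ∣ Nat.card (img O U) := fun h => hUr (h.trans (card_img_dvd hUN))
  have hUQn : img O U ≤ normalizer (Q : Set (NQ O)) := hU'L.trans le_normalizer_core
  have hdL' : d' ∈ normalizer (img O L : Set (NQ O)) :=
    le_normalizer_img (zpowers_le.mpr hdL) (proj_mem_img (mem_zpowers d))
  have hcentQ : img O U ≤ centralizer ((Q ⊓ centralizer {d'} : Subgroup (NQ O)) : Set (NQ O)) := by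
    intro u hu
    refine mem_centralizer_iff.mpr fun z hz => ?_
    have hz2 : z ∈ img O (L ⊓ centralizer {d}) := by
      rw [← hcent le_rfl (zpowers_le.mpr hdL)]
      exact ⟨hQL hz.1, hz.2⟩
    have h1 : ⁅u, z⁆ ∈ Q := by
      rw [commutatorElement_def]
      exact mul_mem (CfsgLib.Coprime.mem_normalizer_conj (hUQn hu) hz.1) (inv_mem hz.1)
    have h2 : ⁅u, z⁆ ∈ img O ⁅U, L ⊓ centralizer {d}⁆ := by
      rw [img_commutator hUN (inf_le_left.trans hLN)]
      exact commutator_mem_commutator hu hz2
    have hd2 : ¬ r ∣ Nat.card (img O ⁅U, L ⊓ centralizer {d}⁆) := fun h =>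
      hcomm (h.trans (card_img_dvd ((commutator_mono hU inf_le_left).trans
        ((commutator_le_self L).trans hLN))))
    have h3 : ⁅u, z⁆ ∈ Q ⊓ img O ⁅U, L ⊓ centralizer {d}⁆ := ⟨h1, h2⟩
    rw [CfsgLib.PCore.inf_eq_bot_of_isPGroup_coprime isPGroup_core
      (CfsgLib.PCore.coprime_of_not_dvd_card hd2), mem_bot] at h3
    exact (commutatorElement_eq_one_iff_mul_comm.mp h3).symm
  have hUQ : img O U ≤ centralizer (Q : Set (NQ O)) := fpf_centralizes (p := p) isPGroup_core
    (by rw [← map_pow, show (⟨d, hzN (mem_zpowers d)⟩ : ↥(normalizer (O : Set G))) ^ p = 1 from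
      Subtype.ext (by simpa using hd), map_one])
    (fun h => hL ((h.trans (card_dvd_of_le hQL)).trans (card_img_dvd hLN)))
    (fun h => hL ((h.trans (card_img_dvd hUN)).trans (card_dvd_of_le hU))) hUr'
    (le_normalizer_img (zpowers_le.mpr hdU) (proj_mem_img (mem_zpowers d)))
    (normalizer_le_normalizer_core hdL') hUQn
    (by rw [hcent hU (zpowers_le.mpr hdU), hfix]; exact eq_bot_iff.mpr ((img_mono bot_le).trans (img_self O).le))
    hcentQ
  refine le_core'_of_img hU (CfsgLib.PCore.eq_bot_of_isPGroup_coprime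
    (isPGroup_core.to_le ((le_inf hU'L hUQ).trans
      (inf_centralizer_core_le' (isSolvable_img hLs) core'_img_eq_bot)))
    (CfsgLib.PCore.coprime_of_not_dvd_card hUr'))

end CfsgLib.Signalizer74
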