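import Cfsg.Agent.Lib.Signalizer74.Pivot

/-!
# No minimal incomplete functor with at least four primes
-/

set_option autoImplicit false
set_option linter.style.haveILetI false
set_option linter.unusedSectionVars false

namespace CfsgLib.Signalizer74

open Subgroup CfsgLib.Signalizer
open scoped Pointwise commutatorElement

variable {G : Type*} [Group G] [Finite G] {p q : ℕ} [hp : Fact p.Prime] {A : Subgroup G}
  {θ : G → Subgroup G}

namespace Minimal

variable (h : Minimal p A θ)
include h

theorem false_of_four (h4 : ∀ a b c : ℕ, ∃ t ∈ primes A θ, t ≠ a ∧ t ≠ b ∧ t ≠ c) : False := by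
  have h3 : ThreePrimes A θ := fun a b => by
    obtain ⟨t, ht, hta, htb, -⟩ := h4 a b b
    exact ⟨t, ht, hta, htb⟩
  obtain ⟨q, M, hP⟩ := h.exists_pivot h3
  haveI := fact_of_mem hP.mem
  set E := kernelAt p A θ q with hE
  have htri : ∀ w r, IsTop p {q, w, r} A θ (Top p A θ {q, w, r}) := fun w r => by
    obtain ⟨t, ht, h1, h2, h3'⟩ := h4 q w r
    exact h.top_isTop ht fun e => by rcases e with e | e | e <;> contradiction
  have hEtri : ∀ w r, E ≤ core q (Top p A θ {q, w, r}) := fun w r => by
    refine le_trans (le_inf le_rfl ?_) (h.kernelAt_inf_le h3 hP.mem (htri w r).1 (htri w r).2.1)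
    exact (htri w r).le_of_isPGroup (Set.mem_insert _ _) (h.kernelAt_member h3 q) (h.kernelAt_tinv h3 q)
      (h.kernelAt_isPGroup h3 q)
  have hlayer : ∀ w r, core q (Top p A θ {q, w, r}) ≤ layer p A θ q r := by
    intro w r
    have hU := h.pair_isTop h3 q r
    refine le_core (hU.le_of_isPGroup (Set.mem_insert _ _) (h.core_member (htri w r).1)
      (h.inf_le_normalizer_core (htri w r).2.1) isPGroup_core) ?_ isPGroup_core
    refine (hU.mono (htri w r) ?_).trans le_normalizer_core
    rintro x (rfl | rfl) <;> simp
  have hpair : ∀ w, Top p A θ {q, w} ≤ M := by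
    intro w
    refine hP.absorbs _ (h.pair_isTop h3 q w).1 fun k hk =>
      CfsgLib.Coprime.mem_normalizer_of_forall_conj fun x hx => mem_iInf.mpr fun r => ?_
    refine hlayer w r (CfsgLib.Coprime.mem_normalizer_conj (le_normalizer_core ?_) (hEtri w r hx))
    refine (h.pair_isTop h3 q w).mono (htri w r) ?_ hk
    rintro x (rfl | rfl) <;> simp
  have hcore : core q M ≤ E := by
    refine le_iInf fun r => ?_
    have hU := h.pair_isTop h3 q r
    exact le_core (hU.le_of_isPGroup (Set.mem_insert _ _) (h.core_member hP.max.1)
      (h.inf_le_normalizer_core (hP.max.2.1.trans le_normalizer)) isPGroup_core)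
      ((hpair r).trans le_normalizer_core) isPGroup_core
  have hother : ∀ w ∈ primes A θ, w ≠ q → core w M ≤ kernelAt p A θ w := by
    intro w hw hwq
    haveI := fact_of_mem hw
    have hWm := h.core_member (r := w) hP.max.1
    have hWT := h.inf_le_normalizer_core (r := w) (hP.max.2.1.trans le_normalizer)
    refine le_iInf fun r => ?_
    have hU := h.pair_isTop h3 w r
    have hWU : core w M ≤ Top p A θ {w, (r : ℕ)} :=
      hU.le_of_isPGroup (Set.mem_insert _ _) hWm hWT isPGroup_core
    by_cases hrq : (r : ℕ) = q
    · refine le_core hWU (le_trans ?_ le_normalizer_core) isPGroup_core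
      rw [hrq, Set.pair_comm]
      exact hpair w
    set H := Top p A θ {q, w, (r : ℕ)}
    have hH := htri w r
    have hUH : Top p A θ {w, (r : ℕ)} ≤ H := hU.mono hH fun x hx => Set.mem_insert_of_mem _ hx
    have hWc : core w M ≤ centralizer (E : Set G) :=
      (commutator_eq_bot_iff_le_centralizer.mp (commutator_core_eq_bot hwq)).trans
        (centralizer_le hP.le_core)
    have hWV : core w M ≤ core' q H :=
      le_core'_of_normalizer_le hH.1.1 (h.kernelAt_isPGroup h3 q) ((hEtri w r).trans core_le)
        (hWU.trans hUH) (not_dvd_of_isPGroup isPGroup_core hwq.symm)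
        (hWc.trans (centralizer_le_normalizer _))
        ((hP.absorbs _ (member_inf hH.1 ((member_normalized (h.kernelAt_member h3 q)).trans le_normalizer))
          inf_le_right).trans le_normalizer_core)
    set V := core' q H
    have hEV : E ≤ centralizer (V : Set G) := by
      refine (hEtri w r).trans (le_centralizer_of_inf_eq_bot (core_le.trans le_normalizer_core')
        (core'_le.trans le_normalizer_core) ?_)
      exact CfsgLib.PCore.inf_eq_bot_of_isPGroup_coprime isPGroup_core
        (CfsgLib.PCore.coprime_of_not_dvd_card not_dvd_core')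
    have hVM : V ≤ M := hP.absorbs _ (h.core'_member hH.1)
      ((le_centralizer_iff.mp hEV).trans (centralizer_le_normalizer _))
    have hVU : V ≤ Top p A θ {w, (r : ℕ)} := by
      refine hU.2.2.2 V (h.core'_member hH.1) (hH.2.1.trans normalizer_le_normalizer_core') ?_
      intro x hx hd
      rcases hH.2.2.1 x hx (hd.trans (card_dvd_of_le core'_le)) with e | e
      · exact absurd (e ▸ hd) not_dvd_core'
      · exact e
    refine le_trans (le_core hWV (hVM.trans le_normalizer_core) isPGroup_core) ?_
    exact le_core (core_le.trans hVU)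
      ((hUH.trans le_normalizer_core').trans normalizer_le_normalizer_core) isPGroup_core
  obtain ⟨D, hD, hbad⟩ := h.exists_bad h3 hP
  obtain ⟨c, hcD, hc1, hEc, -, -, -⟩ := h.bad_plane h3 hP hD hbad
  refine h.false_of_core_le h3 hP hD hbad hcD hc1 hEc hcore fun w hw hwq => ?_
  refine le_trans (CfsgLib.Coprime.commutator_le_of_normalizes ?_) (hother w hw hwq)
  exact ((zpowers_le.mpr (hD.1 hcD)).trans (member_normalized hP.max.1)).trans normalizer_le_normalizer_core

end Minimal

end CfsgLib.Signalizer74
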