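import Cfsg.Agent.Lib.Signalizer74.Layers
import Cfsg.Agent.Lib.Hall.Converse

/-!
# Some intersection of layers is nontrivial
-/

set_option autoImplicit false
set_option linter.style.haveILetI false
set_option linter.unusedSectionVars false
set_option linter.deprecated false

namespace CfsgLib.Signalizer74

open Subgroup CfsgLib.Signalizer
open scoped Pointwise commutatorElement

universe u

variable {G : Type u} [Group G] [Finite G] {p q r x y z w : ℕ} [hp : Fact p.Prime] {A : Subgroup G}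
  {θ : G → Subgroup G}

namespace Minimal

variable (h : Minimal p A θ)
include h

theorem core_eq_bot {σ : Set ℕ} {X : Subgroup G} [Fact w.Prime]
    (hX : ∀ d : ℕ, d.Prime → d ∣ Nat.card X → d ∈ σ) (hw : w ∉ σ) : core w X = ⊥ := by
  refine CfsgLib.PCore.eq_bot_of_isPGroup_coprime isPGroup_core (CfsgLib.PCore.coprime_of_not_dvd_card ?_)
  exact fun hd => hw (hX w Fact.out (hd.trans (card_dvd_of_le core_le)))

theorem outer_isTop (hx : x ∈ primes A θ) :
    IsTop p (primes A θ \ {x}) A θ (Top p A θ (primes A θ \ {x})) :=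
  h.top_isTop hx fun e => e.2 rfl

theorem outer_member (hx : x ∈ primes A θ) :
    outer p A θ x q ∈ Cfsg.signalizerFamily p A θ :=
  h.core_member (h.outer_isTop hx).1

theorem outer_normalized (hx : x ∈ primes A θ) (hw : w ∈ primes A θ) (hwx : w ≠ x) :
    Top p A θ {w} ≤ normalizer (outer p A θ x q : Set G) := by
  obtain hU := h.top_isTop (σ := {w}) hx (fun e => hwx (Set.mem_singleton_iff.mp e).symm)
  exact (hU.mono (h.outer_isTop hx) (Set.singleton_subset_iff.mpr ⟨hw, hwx⟩)).trans le_normalizer_core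

variable (h3 : ThreePrimes A θ)
include h3

theorem outer_le_single (hq : q ∈ primes A θ) (hx : x ∈ primes A θ) :
    outer p A θ x q ≤ Top p A θ {q} :=
  haveI := fact_of_mem hq
  (h.single_isTop h3 q).le_of_isPGroup rfl (h.outer_member hx)
    (h.inf_le_normalizer_core (h.outer_isTop hx).2.1) isPGroup_core

theorem outer_le_layer (hq : q ∈ primes A θ) (hx : x ∈ primes A θ) (hz : z ∈ primes A θ)
    (hxq : x ≠ q) (hzx : z ≠ x) : outer p A θ x q ≤ layer p A θ q z := by
  refine le_core ((h.outer_le_single h3 hq hx).trans (h.single_le_pair h3 q z)) ?_ isPGroup_core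
  refine ((h.pair_isTop h3 q z).mono (h.outer_isTop hx) ?_).trans le_normalizer_core
  rintro d (rfl | rfl)
  · exact ⟨hq, fun e => hxq (Set.mem_singleton_iff.mp e).symm⟩
  · exact ⟨hz, fun e => hzx (Set.mem_singleton_iff.mp e)⟩

variable (hall : ∀ q ∈ primes A θ, kernelAt p A θ q = ⊥)
include hall

theorem outer_inf_outer (hq : q ∈ primes A θ) (hx : x ∈ primes A θ) (hy : y ∈ primes A θ)
    (hxq : x ≠ q) (hyq : y ≠ q) (hxy : x ≠ y) : outer p A θ x q ⊓ outer p A θ y q = ⊥ := by
  rw [eq_bot_iff, ← hall q hq]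
  refine le_iInf fun z => ?_
  by_cases hzx : (z : ℕ) = x
  · exact inf_le_right.trans (h.outer_le_layer h3 hq hy z.2.1 hyq (hzx ▸ hxy))
  · exact inf_le_left.trans (h.outer_le_layer h3 hq hx z.2.1 hxq hzx)

theorem outer_le_centralizer_same (hq : q ∈ primes A θ) (hx : x ∈ primes A θ) (hy : y ∈ primes A θ)
    (hxq : x ≠ q) (hyq : y ≠ q) (hxy : x ≠ y) :
    outer p A θ x q ≤ centralizer (outer p A θ y q : Set G) :=
  le_centralizer_of_inf_eq_bot
    ((h.outer_le_single h3 hq hx).trans (h.outer_normalized hy hq hyq.symm))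
    ((h.outer_le_single h3 hq hy).trans (h.outer_normalized hx hq hxq.symm))
    (h.outer_inf_outer h3 hall hq hx hy hxq hyq hxy)

theorem outer_le_centralizer_outer (hq : q ∈ primes A θ) (hx : x ∈ primes A θ)
    (hy : y ∈ primes A θ) (hw : w ∈ primes A θ) (hxq : x ≠ q) (hyw : y ≠ w) (hwx : w ≠ x)
    (hyq : y ≠ q) (hxy : x ≠ y) :
    outer p A θ x q ≤ centralizer (outer p A θ y w : Set G) := by
  by_cases hwq : w = q
  · subst hwq
    exact h.outer_le_centralizer_same h3 hall hw hx hy hxq hyw hxy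
  haveI := fact_of_mem hq
  haveI := fact_of_mem hw
  exact le_centralizer_of_normalizes (Ne.symm hwq) isPGroup_core isPGroup_core
    ((h.outer_le_single h3 hq hx).trans (h.outer_normalized hy hq hyq.symm))
    ((h.outer_le_single h3 hw hy).trans (h.outer_normalized hx hw hwx))

/-- An element of `O_q(U_{π-x})` centralizes all cores of `U_{π-z}` except perhaps the `x`-core. -/
theorem outer_le_centralizer_core (hq : q ∈ primes A θ) (hx : x ∈ primes A θ)
    (hz : z ∈ primes A θ) (hxq : x ≠ q) (hzq : z ≠ q) (hxz : x ≠ z) {s : ℕ} (hs : s.Prime)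
    (hsx : s ≠ x) :
    outer p A θ x q ≤ centralizer (core s (Top p A θ (primes A θ \ {z})) : Set G) := by
  haveI := Fact.mk hs
  by_cases hsm : s ∈ primes A θ \ {z}
  · exact h.outer_le_centralizer_outer h3 hall hq hx hz hsm.1 hxq
      (fun e => hsm.2 (Set.mem_singleton_iff.mpr e.symm)) hsx hzq hxz
  · rw [h.core_eq_bot (h.outer_isTop hz).2.2.1 hsm]
    exact fun a _ => mem_centralizer_iff.mpr fun b hb => by
      rw [SetLike.mem_coe, mem_bot] at hb
      simp [hb]

theorem outer_eq_bot_of_centralizes (hq : q ∈ primes A θ) (hx : x ∈ primes A θ)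
    (hz : z ∈ primes A θ) (hxq : x ≠ q) (hzq : z ≠ q) (hxz : x ≠ z) {a : G}
    (ha : a ∈ outer p A θ x q)
    (hc : a ∈ centralizer (core x (Top p A θ (primes A θ \ {z})) : Set G)) : a = 1 := by
  haveI := fact_of_mem hq
  have hU := h.outer_isTop (θ := θ) hz
  have haX : a ∈ Top p A θ (primes A θ \ {z}) :=
    (h.single_isTop h3 q).mono hU (Set.singleton_subset_iff.mpr
      ⟨hq, fun e => hzq (Set.mem_singleton_iff.mp e).symm⟩) (h.outer_le_single h3 hq hx ha)
  have h1 : a ∈ outer p A θ z q := by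
    refine mem_core_of_centralizes hU.1.1 haX isPGroup_core ha fun s hs => ?_
    by_cases hsx : s = x
    · exact hsx ▸ hc
    · exact h.outer_le_centralizer_core h3 hall hq hx hz hxq hzq hxz hs hsx ha
  have h2 : a ∈ outer p A θ x q ⊓ outer p A θ z q := ⟨ha, h1⟩
  rwa [h.outer_inf_outer h3 hall hq hx hz hxq hzq hxz, mem_bot] at h2

/-- With at least four primes all outer cores are trivial. -/
theorem outer_eq_bot_of_four (h4 : ∀ a b c : ℕ, ∃ t ∈ primes A θ, t ≠ a ∧ t ≠ b ∧ t ≠ c)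
    (hq : q ∈ primes A θ) (hr : r ∈ primes A θ) (hrq : r ≠ q) : outer p A θ r q = ⊥ := by
  obtain ⟨z, hz, hzq, hzr⟩ := h3 q r
  obtain ⟨z', hz', hz'q, hz'r, hz'z⟩ := h4 q r z
  haveI := fact_of_mem hq
  haveI := fact_of_mem hr
  rw [eq_bot_iff]
  intro a ha
  refine mem_bot.mpr (h.outer_eq_bot_of_centralizes h3 hall hq hr hz hrq hzq hzr.symm ha
    (mem_centralizer_iff.mpr fun b hb => ?_))
  replace hb : b ∈ outer p A θ z r := hb
  set X := Top p A θ (primes A θ \ {z'})
  have hU := h.outer_isTop (θ := θ) hz'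
  have haX : a ∈ X := (h.single_isTop h3 q).mono hU (Set.singleton_subset_iff.mpr
      ⟨hq, fun e => hz'q (Set.mem_singleton_iff.mp e).symm⟩) (h.outer_le_single h3 hq hr ha)
  have hbX : b ∈ X := (h.single_isTop h3 r).mono hU (Set.singleton_subset_iff.mpr
      ⟨hr, fun e => hz'r (Set.mem_singleton_iff.mp e).symm⟩) (h.outer_le_single h3 hr hz hb)
  have hmem : ⁅a, b⁆ ∈ outer p A θ z r := by
    rw [commutatorElement_def]
    exact mul_mem (CfsgLib.Coprime.mem_normalizer_conj
      (h.outer_normalized hz hq hzq.symm (h.outer_le_single h3 hq hr ha)) hb) (inv_mem hb)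
  have h1 : ⁅a, b⁆ ∈ outer p A θ z' r := by
    refine mem_core_of_centralizes hU.1.1 ?_ isPGroup_core hmem fun s hs => ?_
    · rw [commutatorElement_def]
      exact mul_mem (mul_mem (mul_mem haX hbX) (inv_mem haX)) (inv_mem hbX)
    by_cases hsr : s = r
    · subst hsr
      exact commutatorElement_mem_centralizer (le_normalizer_core haX)
        (h.outer_le_centralizer_core h3 hall hr hz hz' hzr hz'r hz'z.symm hs hzr.symm hb)
    · rw [← commutatorElement_inv]
      exact inv_mem (commutatorElement_mem_centralizer (le_normalizer_core hbX)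
        (h.outer_le_centralizer_core h3 hall hq hr hz' hrq hz'q hz'r.symm hs hsr ha))
  have h2 : ⁅a, b⁆ ∈ outer p A θ z r ⊓ outer p A θ z' r := ⟨hmem, h1⟩
  rw [h.outer_inf_outer h3 hall hr hz hz' hzr hz'r hz'z.symm, mem_bot] at h2
  exact (commutatorElement_eq_one_iff_mul_comm.mp h2).symm

omit hall in
theorem exists_outer_ne_bot : ∃ x q : ℕ, x ∈ primes A θ ∧ q ∈ primes A θ ∧ x ≠ q ∧
    outer p A θ x q ≠ ⊥ := by
  obtain ⟨a, ha, ha1, -⟩ := h.not_all_le (bot_mem_family (p := p) A θ)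
  obtain ⟨M, hM, -⟩ := h.exists_max_ge_theta ha ha1
  obtain ⟨s, hs, hsπ, hne⟩ := h.exists_core_ne_bot hM
  haveI := Fact.mk hs
  obtain ⟨x, hx, hxs, -⟩ := h3 s s
  set U := Top p A θ (primes A θ \ {x})
  have hU := h.outer_isTop (θ := θ) hx
  have hle : core s M ≤ U := hU.le_of_isPGroup
    ⟨hsπ, fun e => hxs (Set.mem_singleton_iff.mp e).symm⟩ (h.core_member hM.1)
    (h.inf_le_normalizer_core (hM.2.1.trans le_normalizer)) isPGroup_core
  haveI := hU.1.1
  haveI : Nontrivial U := U.nontrivial_iff_ne_bot.mpr fun e => hne (eq_bot_iff.mpr (e ▸ hle))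
  obtain ⟨q, hq, hd, hq1⟩ := CfsgLib.Fitting.exists_pCore_ne_bot (G := U)
  have hqm := hU.2.2.1 q hq hd
  exact ⟨x, q, hx, hqm.1, fun e => hqm.2 (Set.mem_singleton_iff.mpr e.symm),
    fun e => hq1 ((map_eq_bot_iff_of_injective _ U.subtype_injective).mp e)⟩

/-- The cycle case with three primes. -/
theorem outer_eq_bot_of_three (hq : q ∈ primes A θ) (hr : r ∈ primes A θ) (hu : z ∈ primes A θ)
    (hrq : r ≠ q) (hzq : z ≠ q) (hzr : z ≠ r)
    (honly : ∀ t ∈ primes A θ, t = q ∨ t = r ∨ t = z) : outer p A θ r q = ⊥ := by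
  haveI := fact_of_mem hq
  haveI := fact_of_mem hr
  haveI := fact_of_mem hu
  set H := outer p A θ r q with hH
  set Kr := outer p A θ z r with hKr
  set Ku := outer p A θ q z with hKu
  have mH := h.outer_member (θ := θ) (q := q) hr
  have mKr := h.outer_member (θ := θ) (q := r) hu
  have mKu := h.outer_member (θ := θ) (q := z) hq
  have n1 : H ≤ normalizer (Kr : Set G) :=
    (h.outer_le_single h3 hq hr).trans (h.outer_normalized hu hq hzq.symm)
  have n2 : Kr ≤ normalizer (Ku : Set G) :=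
    (h.outer_le_single h3 hr hu).trans (h.outer_normalized hq hr hrq)
  have n3 : Ku ≤ normalizer (H : Set G) :=
    (h.outer_le_single h3 hu hq).trans (h.outer_normalized hr hu hzr)
  have mK : Ku ⊔ Kr ∈ Cfsg.signalizerFamily p A θ := sup_mem_family h.elem mKu mKr n2
  have m1 : Kr ⊔ H ∈ Cfsg.signalizerFamily p A θ := sup_mem_family h.elem mKr mH n1
  have m3 : H ⊔ Ku ∈ Cfsg.signalizerFamily p A θ := sup_mem_family h.elem mH mKu n3
  set K := Ku ⊔ Kr with hK
  set W := H ⊔ K with hW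
  have hKset : ∀ k ∈ K, ∃ b ∈ Kr, ∃ c ∈ Ku, k = b * c := by
    intro k hk
    have hk' : k ∈ ((Kr ⊔ Ku : Subgroup G) : Set G) := by rwa [SetLike.mem_coe, sup_comm]
    rw [coe_mul_of_left_le_normalizer_right Kr Ku n2, Set.mem_mul] at hk'
    obtain ⟨b, hb, c, hc, e⟩ := hk'
    exact ⟨b, hb, c, hc, e.symm⟩
  -- `W` is the product `H * K`
  have hsw : ∀ k ∈ K, ∀ a ∈ H, ∃ a' ∈ H, ∃ k' ∈ K, k * a = a' * k' := by
    intro k hk a ha
    obtain ⟨b, hb, c, hc, rfl⟩ := hKset k hk
    have ha' : c * a * c⁻¹ ∈ H := CfsgLib.Coprime.mem_normalizer_conj (n3 hc) ha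
    exact ⟨c * a * c⁻¹, ha', (c * a * c⁻¹)⁻¹ * b * (c * a * c⁻¹) * c,
      K.mul_mem (mem_sup_right (CfsgLib.Coprime.mem_normalizer_conj' (n1 ha') hb)) (mem_sup_left hc),
      by group⟩
  have hWset : ∀ v ∈ W, ∃ a ∈ H, ∃ k ∈ K, v = a * k := by
    intro v hv
    rw [hW, sup_eq_closure] at hv
    refine closure_induction ?_ ⟨1, one_mem _, 1, one_mem _, (mul_one 1).symm⟩ ?_ ?_ hv
    · rintro v (hv | hv)
      · exact ⟨v, hv, 1, one_mem _, (mul_one v).symm⟩
      · exact ⟨1, one_mem _, v, hv, (one_mul v).symm⟩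
    · rintro v v' - - ⟨a, ha, k, hk, rfl⟩ ⟨a', ha', k', hk', rfl⟩
      obtain ⟨a'', ha'', k'', hk'', e⟩ := hsw k hk a' ha'
      exact ⟨a * a'', mul_mem ha ha'', k'' * k', mul_mem hk'' hk', by
        rw [mul_assoc, ← mul_assoc k, e]; group⟩
    · rintro v - ⟨a, ha, k, hk, rfl⟩
      obtain ⟨a', ha', k', hk', e⟩ := hsw k⁻¹ (inv_mem hk) a⁻¹ (inv_mem ha)
      exact ⟨a', ha', k', hk', by rw [← e]; group⟩
  have hnotKu : ¬ q ∣ Nat.card Ku := not_dvd_of_isPGroup isPGroup_core hzq.symm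
  have hnotKr : ¬ q ∣ Nat.card Kr := not_dvd_of_isPGroup isPGroup_core hrq.symm
  have hcK : Nat.card K = Nat.card Ku * Nat.card Kr := by
    rw [hK, sup_comm, CfsgLib.Coprime.card_sup_of_disjoint n2 (inf_eq_bot_of_coprime
      (coprime_of_isPGroup (isPGroup_core : IsPGroup r Kr)
        (not_dvd_of_isPGroup isPGroup_core hzr.symm))), mul_comm]
  have hqK : ¬ q ∣ Nat.card K := by
    rw [hcK, (Fact.out : q.Prime).dvd_mul]
    exact fun e => e.elim hnotKu hnotKr
  have hHK : H ⊓ K = ⊥ :=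
    CfsgLib.PCore.inf_eq_bot_of_isPGroup_coprime isPGroup_core (CfsgLib.PCore.coprime_of_not_dvd_card hqK)
  have huniq : ∀ a ∈ H, ∀ a' ∈ H, ∀ k ∈ K, ∀ k' ∈ K, a * k = a' * k' → a = a' ∧ k = k' := by
    intro a ha a' ha' k hk k' hk' e
    have e2 : a'⁻¹ * a = k' * k⁻¹ := by
      rw [eq_mul_inv_iff_mul_eq, mul_assoc, e, inv_mul_cancel_left]
    have h1 : a'⁻¹ * a ∈ H ⊓ K :=
      mem_inf.mpr ⟨H.mul_mem (H.inv_mem ha') ha, e2 ▸ K.mul_mem hk' (K.inv_mem hk)⟩
    rw [hHK, mem_bot, inv_mul_eq_one] at h1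
    subst h1
    exact ⟨rfl, mul_left_cancel e⟩
  have hcW : Nat.card W = Nat.card H * Nat.card K := by
    rw [← Nat.card_prod]
    refine (Nat.card_congr (Equiv.ofBijective
      (fun v : H × K => (⟨v.1 * v.2, mul_mem (mem_sup_left v.1.2) (mem_sup_right v.2.2)⟩ : W))
      ⟨fun v v' e => ?_, fun v => ?_⟩)).symm
    · obtain ⟨e1, e2⟩ := huniq _ v.1.2 _ v'.1.2 _ v.2.2 _ v'.2.2 (congrArg Subtype.val e)
      exact Prod.ext (Subtype.ext e1) (Subtype.ext e2)
    · obtain ⟨a, ha, k, hk, e⟩ := hWset v v.2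
      exact ⟨(⟨a, ha⟩, ⟨k, hk⟩), Subtype.ext e.symm⟩
  have hWA : A ≤ normalizer (W : Set G) := (le_inf (member_normalized mH) (member_normalized mK)).trans
    (normalizer_inf_normalizer_le_normalizer_sup _ _)
  have hWp : ¬ p ∣ Nat.card W := by
    rw [hcW, hp.out.dvd_mul]
    exact fun e => e.elim mH.2.1 mK.2.1
  have hWs : Group.IsSolvable W := by
    have l1 : Kr ⊔ H ≤ W := sup_le (le_sup_of_le_right le_sup_right) le_sup_left
    have l2 : K ≤ W := le_sup_right
    have l3 : H ⊔ Ku ≤ W := sup_le le_sup_left (le_sup_of_le_right le_sup_left)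
    refine CfsgLib.Hall.Converse.isSolvable_of_three ((Kr ⊔ H).subgroupOf W) (K.subgroupOf W)
      ((H ⊔ Ku).subgroupOf W) ?_ ?_ ?_ (fun g => ?_) (fun g => ?_) ?_
    · exact @Group.isSolvable_of_isSolvable_injective _ _ _ _ (subgroupOfEquivOfLe l1).toMonoidHom
        (subgroupOfEquivOfLe l1).injective m1.1
    · exact @Group.isSolvable_of_isSolvable_injective _ _ _ _ (subgroupOfEquivOfLe l2).toMonoidHom
        (subgroupOfEquivOfLe l2).injective mK.1
    · exact @Group.isSolvable_of_isSolvable_injective _ _ _ _ (subgroupOfEquivOfLe l3).toMonoidHom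
        (subgroupOfEquivOfLe l3).injective m3.1
    · obtain ⟨a, ha, k, hk, e⟩ := hWset g g.2
      exact ⟨⟨a, mem_sup_left ha⟩, mem_subgroupOf.mpr (mem_sup_right ha), ⟨k, l2 hk⟩, hk, Subtype.ext e⟩
    · obtain ⟨a, ha, k, hk, e⟩ := hWset g g.2
      obtain ⟨b, hb, c, hc, rfl⟩ := hKset k hk
      exact ⟨⟨a * b, l1 (mul_mem (mem_sup_right ha) (mem_sup_left hb))⟩,
        mul_mem (mem_sup_right ha) (mem_sup_left hb), ⟨c, l3 (mem_sup_right hc)⟩, mem_sup_right hc,
        Subtype.ext (by rw [e]; simp [mul_assoc])⟩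
    · have i2 : (K.subgroupOf W).index = Nat.card H := by
        have e := (K.subgroupOf W).card_mul_index
        rw [CfsgLib.Coprime.card_subgroupOf l2, hcW, mul_comm (Nat.card H)] at e
        exact Nat.eq_of_mul_eq_mul_left Nat.card_pos e
      have i3 : ((H ⊔ Ku).subgroupOf W).index = Nat.card Kr := by
        have c3 : Nat.card ↥(H ⊔ Ku) = Nat.card H * Nat.card Ku := by
          rw [sup_comm, CfsgLib.Coprime.card_sup_of_disjoint n3 (inf_eq_bot_of_coprime
            (coprime_of_isPGroup (isPGroup_core : IsPGroup q H) hnotKu).symm), mul_comm]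
        have e := ((H ⊔ Ku).subgroupOf W).card_mul_index
        rw [CfsgLib.Coprime.card_subgroupOf l3, hcW, hcK, c3, ← mul_assoc] at e
        exact Nat.eq_of_mul_eq_mul_left (mul_pos Nat.card_pos Nat.card_pos) e
      rw [i2, i3]
      exact (coprime_of_isPGroup (isPGroup_core : IsPGroup r Kr)
        (not_dvd_of_isPGroup isPGroup_core hrq))
  have hWm : W ∈ Cfsg.signalizerFamily p A θ := by
    refine ⟨hWs, hWp, conj_mem_of_le_normalizer hWA, fun b hb hb1 v hv => ?_⟩
    obtain ⟨a, ha, k, hk, rfl⟩ := hWset v hv.1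
    have e := mem_centralizer_singleton_iff.mp hv.2
    obtain ⟨e1, e2⟩ := huniq (b * a * b⁻¹)
      (CfsgLib.Coprime.mem_normalizer_conj (member_normalized mH hb) ha) a ha (b * k * b⁻¹)
      (CfsgLib.Coprime.mem_normalizer_conj (member_normalized mK hb) hk) k hk (by
        calc b * a * b⁻¹ * (b * k * b⁻¹) = b * (a * k) * b⁻¹ := by group
          _ = _ := by rw [← e, mul_inv_cancel_right])
    refine mul_mem (mH.2.2.2 b hb hb1 ⟨ha, mem_centralizer_singleton_iff.mpr ?_⟩)
      (mK.2.2.2 b hb hb1 ⟨hk, mem_centralizer_singleton_iff.mpr ?_⟩)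
    · exact (mul_inv_eq_iff_eq_mul.mp e1).symm
    · exact (mul_inv_eq_iff_eq_mul.mp e2).symm
  by_contra hne
  haveI := hWs
  haveI : Nontrivial W := W.nontrivial_iff_ne_bot.mpr fun e => hne (eq_bot_iff.mpr (e ▸ le_sup_left))
  obtain ⟨s, hs, hd, hcore⟩ := CfsgLib.Fitting.exists_pCore_ne_bot (G := W)
  apply hcore
  rw [← map_eq_bot_iff_of_injective _ W.subtype_injective]
  have hsπ : s = q ∨ s = r ∨ s = z := honly s (h.prime_mem hs hWm hd)
  -- the rotations
  have key : ∀ {a b c : ℕ}, a ∈ primes A θ → b ∈ primes A θ → c ∈ primes A θ →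
      b ≠ a → c ≠ a → c ≠ b → outer p A θ b a ≤ W → outer p A θ c b ≤ W →
      ¬ a ∣ Nat.card W / Nat.card (outer p A θ b a) → Nat.card (outer p A θ b a) ∣ Nat.card W →
      (∀ t ∈ primes A θ, t = a ∨ t = b ∨ t = c) → core a W = ⊥ := by
    intro a b c ha hb hc hba hca hcb hlA hlB hsyl hdv hon
    haveI := fact_of_mem ha
    haveI := fact_of_mem hb
    set P := outer p A θ b a
    have hP : core a W ≤ P := by
      have hsup : IsPGroup a ↥(core a W ⊔ P) :=
        IsPGroup.to_sup_of_normal_left' isPGroup_core isPGroup_core (hlA.trans le_normalizer_core)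
      obtain ⟨m, hm⟩ := hdv
      have hdiv := card_dvd_of_le (sup_le core_le hlA : core a W ⊔ P ≤ W)
      rw [hm, Nat.mul_div_cancel_left _ Nat.card_pos] at hsyl
      rw [hm] at hdiv
      obtain ⟨k, hk⟩ := IsPGroup.iff_card.mp hsup
      have hcop : (Nat.card ↥(core a W ⊔ P)).Coprime m := by
        rw [hk]; exact ((Fact.out : a.Prime).coprime_iff_not_dvd.mpr hsyl).pow_left k
      exact le_sup_left.trans (eq_of_le_of_card_ge le_sup_right
        (Nat.le_of_dvd Nat.card_pos (hcop.dvd_of_dvd_mul_right hdiv))).ge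
    rw [eq_bot_iff]
    intro v hv
    refine mem_bot.mpr (h.outer_eq_bot_of_centralizes h3 hall ha hb hc hba hca hcb.symm (hP hv) ?_)
    have hn : outer p A θ b a ≤ normalizer (outer p A θ c b : Set G) :=
      (h.outer_le_single h3 ha hb).trans (h.outer_normalized hc ha hca.symm)
    exact le_centralizer_of_normalizes hba.symm isPGroup_core isPGroup_core (hP.trans hn)
      (hlB.trans le_normalizer_core) hv
  rcases hsπ with rfl | rfl | rfl
  · refine key hq hr hu hrq hzq hzr le_sup_left (le_sup_of_le_right le_sup_right) ?_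
      ⟨_, hcW⟩ honly
    rw [hcW, Nat.mul_div_cancel_left _ Nat.card_pos]
    exact hqK
  · refine key hr hu hq hzr hrq.symm hzq.symm (le_sup_of_le_right le_sup_right)
      (le_sup_of_le_right le_sup_left) ?_ ⟨Nat.card H * Nat.card Ku, by rw [hcW, hcK]; ring⟩
      (fun t ht => by rcases honly t ht with e | e | e <;> simp [e])
    rw [hcW, hcK, show Nat.card H * (Nat.card Ku * Nat.card Kr) = Nat.card Kr * (Nat.card H * Nat.card Ku) by ring,
      Nat.mul_div_cancel_left _ Nat.card_pos, hs.dvd_mul]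
    exact fun e => e.elim (not_dvd_of_isPGroup isPGroup_core hrq) (not_dvd_of_isPGroup isPGroup_core hzr.symm)
  · refine key hu hq hr hzq.symm hzr.symm hrq (le_sup_of_le_right le_sup_left) le_sup_left ?_
      ⟨Nat.card H * Nat.card Kr, by rw [hcW, hcK]; ring⟩
      (fun t ht => by rcases honly t ht with e | e | e <;> simp [e])
    rw [hcW, hcK, show Nat.card H * (Nat.card Ku * Nat.card Kr) = Nat.card Ku * (Nat.card H * Nat.card Kr) by ring,
      Nat.mul_div_cancel_left _ Nat.card_pos, hs.dvd_mul]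
    exact fun e => e.elim (not_dvd_of_isPGroup isPGroup_core hzq) (not_dvd_of_isPGroup isPGroup_core hzr)

omit hall in
theorem exists_kernelAt_ne_bot : ∃ q ∈ primes A θ, kernelAt p A θ q ≠ ⊥ := by
  by_contra hcon
  push Not at hcon
  obtain ⟨x, q, hx, hq, hxq, hne⟩ := h.exists_outer_ne_bot h3
  obtain ⟨z, hz, hzq, hzx⟩ := h3 q x
  apply hne
  by_cases honly : ∀ t ∈ primes A θ, t = q ∨ t = x ∨ t = z
  · exact h.outer_eq_bot_of_three h3 hcon hq hx hz hxq hzq hzx honly
  push Not at honly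
  obtain ⟨t, ht, htq, htx, htz⟩ := honly
  refine h.outer_eq_bot_of_four h3 hcon (fun a b c => ?_) hq hx hxq
  by_contra hc4
  push Not at hc4
  have e1 := hc4 q hq; have e2 := hc4 x hx; have e3 := hc4 z hz; have e4 := hc4 t ht
  grind

end Minimal

end CfsgLib.Signalizer74
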