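import Cfsg.Agent.Lib.Signalizer74.Setting
import Cfsg.Agent.Lib.Signalizer.Core

/-!
# The layers of a minimal incomplete functor with at least three primes
-/

set_option autoImplicit false
set_option linter.style.haveILetI false
set_option linter.unusedSectionVars false

namespace CfsgLib.Signalizer74

open Subgroup CfsgLib.Signalizer
open scoped Pointwise commutatorElement

variable {G : Type*} [Group G] [Finite G] {p q r : ℕ} [hp : Fact p.Prime] {A : Subgroup G}
  {θ : G → Subgroup G} {H S X Y M B : Subgroup G}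

theorem pre_le_of_le {O : Subgroup G} {W : Subgroup (NQ O)} (hOM : O ≤ M) (hW : W ≤ img O M) :
    pre O W ≤ M := by
  intro x hx
  obtain ⟨z, hz, e⟩ := mem_img.mp (hW ((mem_pre (x := ⟨x, pre_le hx⟩)).mp hx))
  have h1 : ((z⁻¹ * ⟨x, pre_le hx⟩ : ↥(normalizer (O : Set G))) : G) ∈ O :=
    proj_eq_one.mp (by rw [map_mul, map_inv, e, inv_mul_cancel])
  simpa using M.mul_mem hz (hOM h1)

theorem isPGroup_pre [Fact q.Prime] {O : Subgroup G} {W : Subgroup (NQ O)} (hO : IsPGroup q O)
    (hW : IsPGroup q W) : IsPGroup q (pre O W) := by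
  obtain ⟨a, ha⟩ := IsPGroup.iff_card.mp hO
  obtain ⟨b, hb⟩ := IsPGroup.iff_card.mp hW
  exact IsPGroup.of_card (n := a + b) (by rw [card_pre, ha, hb, pow_add])

theorem core_img_eq_bot [Fact q.Prime] : core q (img (core q M) M) = ⊥ := by
  have h2 : pre (core q M) (core q (img (core q M) M)) ≤ core q M :=
    le_core (pre_le_of_le core_le core_le) (le_normalizer_pre le_normalizer_core le_normalizer_core)
      (isPGroup_pre isPGroup_core isPGroup_core)
  rw [eq_bot_iff, ← img_pre (W := core q (img (core q M) M))]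
  exact (img_mono h2).trans (img_self _).le

theorem mem_core_of_mem_iSup [Fact q.Prime] {x : G} (hx : x ∈ ⨆ r : Nat.Primes, core (r : ℕ) H)
    (hS : IsPGroup q S) (hxS : x ∈ S) : x ∈ core q H := by
  have hF : (⨆ r : Nat.Primes, core (r : ℕ) H) ≤ (Cfsg.fittingSubgroup H).map H.subtype :=
    iSup_le fun r => map_mono (CfsgLib.Fitting.pCore_le_fitting r.2)
  obtain ⟨y, hy, rfl⟩ := hF hx
  set F := Cfsg.fittingSubgroup H
  have hz : IsPGroup q (zpowers (⟨y, hy⟩ : F)) := by
    obtain ⟨k, hk⟩ := hS ⟨_, hxS⟩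
    have hk' : (y : G) ^ q ^ k = 1 := by simpa using congrArg Subtype.val hk
    refine IsPGroup.of_card_dvd_pow (n := k) ?_
    rw [Nat.card_zpowers]
    exact orderOf_dvd_of_pow_eq_one (Subtype.ext (Subtype.ext (by simpa using hk')))
  obtain ⟨P, hP⟩ := hz.exists_le_sylow
  have h1 := mem_map_of_mem F.subtype (hP (mem_zpowers (⟨y, hy⟩ : F)))
  rw [CfsgLib.Fitting.sylow_fitting_eq_pCore P] at h1
  exact mem_map_of_mem H.subtype h1

theorem mem_core_of_centralizes [Fact q.Prime] (hHs : Group.IsSolvable H) {x : G} (hxH : x ∈ H)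
    (hS : IsPGroup q S) (hxS : x ∈ S)
    (h : ∀ r : ℕ, r.Prime → x ∈ centralizer (core r H : Set G)) : x ∈ core q H :=
  mem_core_of_mem_iSup (mem_iSup_core hHs hxH h) hS hxS

theorem commutator_core_eq_bot [Fact q.Prime] [Fact r.Prime] (hqr : q ≠ r) :
    ⁅core q H, core r H⁆ = ⊥ := by
  rw [eq_bot_iff, ← (IsPGroup.disjoint_of_ne q r hqr _ _ isPGroup_core isPGroup_core).eq_bot]
  exact le_inf (CfsgLib.Coprime.commutator_le_of_normalizes (core_le.trans le_normalizer_core))
    ((commutator_comm _ _).le.trans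
      (CfsgLib.Coprime.commutator_le_of_normalizes (core_le.trans le_normalizer_core)))

theorem le_centralizer_of_normalizes [Fact q.Prime] [Fact r.Prime] (hqr : q ≠ r)
    {U V : Subgroup G} (hU : IsPGroup q U) (hV : IsPGroup r V) (hUV : U ≤ normalizer (V : Set G))
    (hVU : V ≤ normalizer (U : Set G)) : U ≤ centralizer (V : Set G) := by
  refine commutator_eq_bot_iff_le_centralizer.mp (eq_bot_iff.mpr ?_)
  rw [← (IsPGroup.disjoint_of_ne q r hqr _ _ hU hV).eq_bot]
  exact le_inf (CfsgLib.Coprime.commutator_le_of_normalizes hVU)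
    ((commutator_comm U V).le.trans (CfsgLib.Coprime.commutator_le_of_normalizes hUV))

theorem le_centralizer_of_inf_eq_bot {U V : Subgroup G} (hUV : U ≤ normalizer (V : Set G))
    (hVU : V ≤ normalizer (U : Set G)) (h : U ⊓ V = ⊥) : U ≤ centralizer (V : Set G) := by
  refine commutator_eq_bot_iff_le_centralizer.mp (eq_bot_iff.mpr ?_)
  rw [← h]
  exact le_inf (CfsgLib.Coprime.commutator_le_of_normalizes hVU)
    ((commutator_comm U V).le.trans (CfsgLib.Coprime.commutator_le_of_normalizes hUV))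

theorem commutatorElement_mem_centralizer {a b : G} {C : Subgroup G}
    (ha : a ∈ normalizer (C : Set G)) (hb : b ∈ centralizer (C : Set G)) :
    ⁅a, b⁆ ∈ centralizer (C : Set G) := by
  have h1 : a * b * a⁻¹ ∈ centralizer (C : Set G) :=
    CfsgLib.Coprime.mem_normalizer_conj (normalizer_le_normalizer_centralizer' ha) hb
  exact mul_mem h1 (inv_mem hb)

/-- The largest invariant `σ`-member, when there is one. -/
def Top (p : ℕ) (A : Subgroup G) (θ : G → Subgroup G) (σ : Set ℕ) : Subgroup G :=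
  sSup {Y | Y ∈ Cfsg.signalizerFamily p A θ ∧ Cfsg.signalizerInf A θ ≤ normalizer (Y : Set G) ∧
    ∀ r : ℕ, r.Prime → r ∣ Nat.card Y → r ∈ σ}

/-- `O_q(U_{qr})`. -/
def layer (p : ℕ) (A : Subgroup G) (θ : G → Subgroup G) (q r : ℕ) : Subgroup G :=
  core q (Top p A θ {q, r})

/-- The intersection of the layers at `q`. -/
def kernelAt (p : ℕ) (A : Subgroup G) (θ : G → Subgroup G) (q : ℕ) : Subgroup G :=
  ⨅ r : {r : ℕ // r ∈ primes A θ ∧ r ≠ q}, layer p A θ q r

/-- `O_q(U_{π - x})`. -/
def outer (p : ℕ) (A : Subgroup G) (θ : G → Subgroup G) (x q : ℕ) : Subgroup G :=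
  core q (Top p A θ (primes A θ \ {x}))

/-- At least three primes. -/
def ThreePrimes (A : Subgroup G) (θ : G → Subgroup G) : Prop :=
  ∀ a b : ℕ, ∃ x ∈ primes A θ, x ≠ a ∧ x ≠ b

/-- An element of `A` whose value lies in a maximal member with a nontrivial `q`-core. -/
def IsLine (p : ℕ) (A : Subgroup G) (θ : G → Subgroup G) (q : ℕ) (a : G) : Prop :=
  ∃ M, Minimal.IsMax p A θ M ∧ θ a ≤ M ∧ core q M ≠ ⊥

theorem fact_of_mem (hq : q ∈ primes A θ) : Fact q.Prime := ⟨hq.1⟩

theorem ThreePrimes.exists_notMem (h3 : ThreePrimes A θ) (a b : ℕ) :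
    ∃ x ∈ primes A θ, x ∉ ({a, b} : Set ℕ) := by
  obtain ⟨x, hx, hxa, hxb⟩ := h3 a b
  exact ⟨x, hx, fun hxm => hxm.elim hxa fun e => hxb (Set.mem_singleton_iff.mp e)⟩

namespace Minimal

variable (h : Minimal p A θ)
include h

theorem top_isTop {σ : Set ℕ} {x : ℕ} (hx : x ∈ primes A θ) (hxσ : x ∉ σ) :
    IsTop p σ A θ (Top p A θ σ) := by
  obtain ⟨U, hU⟩ := h.exists_top hx hxσ
  have e : Top p A θ σ = U := le_antisymm (sSup_le fun Y hY => hU.2.2.2 Y hY.1 hY.2.1 hY.2.2)
    (le_sSup ⟨hU.1, hU.2.1, hU.2.2.1⟩)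
  exact e.symm ▸ hU

theorem inf_le_normalizer_core {r : ℕ} (hT : Cfsg.signalizerInf A θ ≤ normalizer (X : Set G)) :
    Cfsg.signalizerInf A θ ≤ normalizer (core r X : Set G) :=
  hT.trans normalizer_le_normalizer_core

variable (h3 : ThreePrimes A θ)
include h3

theorem pair_isTop (q r : ℕ) : IsTop p {q, r} A θ (Top p A θ {q, r}) := by
  obtain ⟨x, hx, hn⟩ := h3.exists_notMem q r
  exact h.top_isTop hx hn

theorem single_isTop (q : ℕ) : IsTop p {q} A θ (Top p A θ {q}) := by
  obtain ⟨x, hx, hxq, -⟩ := h3 q q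
  exact h.top_isTop hx (fun e => hxq (Set.mem_singleton_iff.mp e))

theorem layer_member (q r : ℕ) : layer p A θ q r ∈ Cfsg.signalizerFamily p A θ :=
  h.core_member (h.pair_isTop h3 q r).1

theorem layer_tinv (q r : ℕ) :
    Cfsg.signalizerInf A θ ≤ normalizer (layer p A θ q r : Set G) :=
  h.inf_le_normalizer_core (h.pair_isTop h3 q r).2.1

theorem layer_le_single (hq : q.Prime) (r : ℕ) : layer p A θ q r ≤ Top p A θ {q} :=
  haveI := Fact.mk hq
  (h.single_isTop h3 q).le_of_isPGroup rfl (h.layer_member h3 q r) (h.layer_tinv h3 q r) isPGroup_core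

theorem single_le_pair (q r : ℕ) : Top p A θ {q} ≤ Top p A θ {q, r} :=
  (h.single_isTop h3 q).mono (h.pair_isTop h3 q r) (Set.singleton_subset_iff.mpr (Set.mem_insert _ _))

theorem single_le_pair' (q r : ℕ) : Top p A θ {r} ≤ Top p A θ {q, r} :=
  (h.single_isTop h3 r).mono (h.pair_isTop h3 q r)
    (Set.singleton_subset_iff.mpr (Set.mem_insert_of_mem _ rfl))

theorem exists_ne (q : ℕ) : ∃ r, r ∈ primes A θ ∧ r ≠ q := by
  obtain ⟨x, hx, hxq, -⟩ := h3 q q
  exact ⟨x, hx, hxq⟩

theorem kernelAt_le_layer (hr : r ∈ primes A θ) (hrq : r ≠ q) :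
    kernelAt p A θ q ≤ layer p A θ q r :=
  iInf_le (fun r : {r : ℕ // r ∈ primes A θ ∧ r ≠ q} => layer p A θ q r) ⟨r, hr, hrq⟩

theorem kernelAt_member (q : ℕ) : kernelAt p A θ q ∈ Cfsg.signalizerFamily p A θ := by
  obtain ⟨r, hr, hrq⟩ := h.exists_ne h3 q
  exact mem_family_of_le (h.layer_member h3 q r) (h.kernelAt_le_layer h3 hr hrq)
    ((le_iInf fun s : {r : ℕ // r ∈ primes A θ ∧ r ≠ q} => member_normalized (h.layer_member h3 q s)).trans
      (iInf_normalizer_le_normalizer_iInf _))

theorem kernelAt_tinv (q : ℕ) :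
    Cfsg.signalizerInf A θ ≤ normalizer (kernelAt p A θ q : Set G) :=
  (le_iInf fun s : {r : ℕ // r ∈ primes A θ ∧ r ≠ q} => h.layer_tinv h3 q s).trans
    (iInf_normalizer_le_normalizer_iInf _)

theorem kernelAt_isPGroup (q : ℕ) : IsPGroup q (kernelAt p A θ q) := by
  obtain ⟨r, hr, hrq⟩ := h.exists_ne h3 q
  exact isPGroup_core.to_le (h.kernelAt_le_layer h3 hr hrq)

theorem kernelAt_le_single (hq : q.Prime) : kernelAt p A θ q ≤ Top p A θ {q} := by
  obtain ⟨r, hr, hrq⟩ := h.exists_ne h3 q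
  exact (h.kernelAt_le_layer h3 hr hrq).trans (h.layer_le_single h3 hq r)

theorem single_le_normalizer_kernelAt (q : ℕ) :
    Top p A θ {q} ≤ normalizer (kernelAt p A θ q : Set G) :=
  (le_iInf fun s : {r : ℕ // r ∈ primes A θ ∧ r ≠ q} =>
    (h.single_le_pair h3 q s).trans le_normalizer_core).trans (iInf_normalizer_le_normalizer_iInf _)

/-- The intersection of the layers meets an invariant member in its `q`-core. -/
theorem kernelAt_inf_le (hq : q ∈ primes A θ) (hM : M ∈ Cfsg.signalizerFamily p A θ)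
    (hT : Cfsg.signalizerInf A θ ≤ normalizer (M : Set G)) :
    kernelAt p A θ q ⊓ M ≤ core q M := by
  haveI := fact_of_mem hq
  set Y := kernelAt p A θ q ⊓ M
  set O := core q M with hO
  have hYM : Y ≤ M := inf_le_right
  have hMN : M ≤ normalizer (O : Set G) := le_normalizer_core
  have hYq : IsPGroup q Y := (h.kernelAt_isPGroup h3 q).to_le inf_le_left
  intro y hy
  have h1 : proj O ⟨y, hMN (hYM hy)⟩ ∈ core q (img O M) := by
    refine mem_core_of_centralizes (isSolvable_img hM.1) (proj_mem_img (hYM hy))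
      (isPGroup_img hYq) (proj_mem_img hy) fun s hs => ?_
    haveI := Fact.mk hs
    set L := pre O (core s (img O M))
    have hLM : L ≤ M := pre_le_of_le core_le core_le
    have hML : M ≤ normalizer (L : Set G) := le_normalizer_pre hMN le_normalizer_core
    by_cases hsq : s = q
    · -- the `q`-core of the quotient is trivial
      subst hsq
      rw [show core s (img O M) = ⊥ from core_img_eq_bot]
      exact mem_centralizer_iff.mpr fun z hz => by
        rw [SetLike.mem_coe, mem_bot] at hz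
        simp [hz]
    · have hsπ : ∀ d : ℕ, d.Prime → d ∣ Nat.card L → d ∈ ({q, s} : Set ℕ) := fun d hd hdL => by
        haveI := Fact.mk hd
        rw [card_pre] at hdL
        rcases hd.dvd_mul.mp hdL with h' | h'
        · by_contra hne
          exact not_dvd_of_isPGroup (q := d) isPGroup_core
            (fun e => hne (Set.mem_insert_iff.mpr (Or.inl e))) h'
        · by_contra hne
          exact not_dvd_of_isPGroup (q := d) isPGroup_core
            (fun e => hne (Set.mem_insert_of_mem _ (Set.mem_singleton_iff.mpr e))) h'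
      by_cases hsp : core s (img O M) = ⊥
      · rw [hsp]
        exact mem_centralizer_iff.mpr fun z hz => by
          rw [SetLike.mem_coe, mem_bot] at hz
          simp [hz]
      have hsπ' : s ∈ primes A θ := by
        refine h.prime_mem hs hM ?_
        obtain ⟨k, hk⟩ := IsPGroup.iff_card.mp (isPGroup_core (q := s) (H := img O M))
        have hk0 : k ≠ 0 := fun e => hsp (card_eq_one.mp (by rw [hk, e, pow_zero]))
        exact ((dvd_pow_self s hk0).trans (hk ▸ (card_dvd_of_le core_le))).trans (card_img_dvd hMN)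
      have hL : L ∈ Cfsg.signalizerFamily p A θ :=
        mem_family_of_le hM hLM (le_normalizer_pre ((member_normalized hM).trans normalizer_le_normalizer_core)
          ((le_normalizer_img (member_normalized hM)).trans normalizer_le_normalizer_core))
      have hLt : L ≤ Top p A θ {q, s} := (h.pair_isTop h3 q s).2.2.2 L hL
        (le_normalizer_pre (hT.trans normalizer_le_normalizer_core)
          ((le_normalizer_img hT).trans normalizer_le_normalizer_core)) hsπ
      refine mem_centralizer_iff.mpr fun z hz => ?_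
      obtain ⟨w, hw, e⟩ := mem_img.mp (core_le hz)
      rw [← e] at hz ⊢
      have hwL : (w : G) ∈ L := mem_pre.mpr hz
      have hyl : y ∈ layer p A θ q s ⊓ M :=
        ⟨h.kernelAt_le_layer h3 hsπ' hsq hy.1, hy.2⟩
      have h2 : ⁅y, (w : G)⁆ ∈ layer p A θ q s ⊓ L := by
        refine ⟨?_, ?_⟩
        · rw [commutatorElement_def, mul_assoc, mul_assoc]
          refine (layer p A θ q s).mul_mem hyl.1 ?_
          rw [← mul_assoc]
          exact CfsgLib.Coprime.mem_normalizer_conj (le_normalizer_core (hLt hwL))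
            ((layer p A θ q s).inv_mem hyl.1)
        · rw [commutatorElement_def]
          exact L.mul_mem (CfsgLib.Coprime.mem_normalizer_conj (hML hy.2) hwL) (L.inv_mem hwL)
      have h3' : layer p A θ q s ⊓ L ≤ O := by
        refine le_trans ?_ (le_core (H := M) (N := core q L) (core_le.trans hLM)
          (hML.trans normalizer_le_normalizer_core) isPGroup_core)
        exact le_core inf_le_right
          (CfsgLib.Signalizer74.le_normalizer_inf (hLt.trans le_normalizer_core) le_normalizer)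
          (isPGroup_core.to_le inf_le_left)
      have h4 : proj O ⁅(⟨y, hMN (hYM hy)⟩ : ↥(normalizer (O : Set G))), w⁆ = 1 :=
        proj_eq_one.mpr (h3' h2)
      rw [map_commutatorElement, commutatorElement_eq_one_iff_mul_comm] at h4
      exact h4.symm
  rw [show core q (img O M) = ⊥ from core_img_eq_bot, mem_bot] at h1
  exact proj_eq_one.mp h1

/-- The intersection of the layers lies in a nontrivial `q`-core of a maximal member. -/
theorem kernelAt_le_core (hq : q ∈ primes A θ) (hM : IsMax p A θ M) (hc : core q M ≠ ⊥) :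
    kernelAt p A θ q ≤ core q M := by
  haveI := fact_of_mem hq
  set E := kernelAt p A θ q
  set Q := core q M with hQdef
  have hQm := h.core_member (r := q) hM.1
  have hTM : Cfsg.signalizerInf A θ ≤ normalizer (M : Set G) := hM.2.1.trans le_normalizer
  have hQX : Q ≤ Top p A θ {q} :=
    (h.single_isTop h3 q).le_of_isPGroup rfl hQm (h.inf_le_normalizer_core hTM) isPGroup_core
  have hQE : Q ≤ normalizer (E : Set G) := hQX.trans (h.single_le_normalizer_kernelAt h3 q)
  by_contra hle
  have hS : IsPGroup q ↥(Q ⊔ E) :=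
    (h.single_isTop h3 q).isPGroup.to_le (sup_le hQX (h.kernelAt_le_single h3 hq.1))
  have hlt : Q < Q ⊔ E := lt_of_le_of_ne le_sup_left fun e => hle (le_sup_right.trans e.ge)
  refine normalizer_inf_not_le hS hlt ?_
  have hAS : A ≤ normalizer ((Q ⊔ E : Subgroup G) : Set G) :=
    (le_inf (member_normalized hQm) (member_normalized (h.kernelAt_member h3 q))).trans
      (normalizer_inf_normalizer_le_normalizer_sup _ _)
  have hmem : normalizer (Q : Set G) ⊓ (Q ⊔ E) ∈ Cfsg.signalizerFamily p A θ :=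
    mem_family_of_le (sup_mem_family h.elem (h.kernelAt_member h3 q) hQm hQE)
      (inf_le_right.trans (le_of_eq (sup_comm _ _)))
      (CfsgLib.Signalizer74.le_normalizer_inf ((member_normalized hQm).trans le_normalizer) hAS)
  have hleM := h.le_max_of_core hM hc hmem inf_le_left
  intro x hx
  have hxQE : x ∈ ((Q ⊔ E : Subgroup G) : Set G) := hx.2
  rw [coe_mul_of_left_le_normalizer_right Q E hQE, Set.mem_mul] at hxQE
  obtain ⟨a, ha, e, he, rfl⟩ := hxQE
  have heM : e ∈ M := by
    simpa using M.mul_mem (M.inv_mem (core_le ha)) (hleM hx)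
  exact Q.mul_mem ha (h.kernelAt_inf_le h3 hq hM.1 hTM ⟨he, heM⟩)

theorem IsLine.exists_max (hq : q ∈ primes A θ) {a : G} (hl : IsLine p A θ q a) :
    ∃ M, IsMax p A θ M ∧ θ a ≤ M ∧ kernelAt p A θ q ≤ core q M := by
  obtain ⟨M, hM, haM, hc⟩ := hl
  exact ⟨M, hM, haM, h.kernelAt_le_core h3 hq hM hc⟩

theorem isLine_of_fixed (hq : q ∈ primes A θ) {a : G} (ha : a ∈ A) (ha1 : a ≠ 1)
    (hfix : kernelAt p A θ q ⊓ centralizer {a} ≠ ⊥) : IsLine p A θ q a := by
  obtain ⟨M, hM, hle⟩ := h.exists_max_ge_theta ha ha1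
  refine ⟨M, hM, hle, fun e => hfix (eq_bot_iff.mpr ?_)⟩
  have h1 := h.kernelAt_inf_le h3 hq hM.1 (hM.2.1.trans le_normalizer)
  rw [e] at h1
  exact le_trans (le_inf inf_le_left
    (((h.kernelAt_member h3 q).2.2.2 a ha ha1).trans hle)) h1

/-- A subgroup of `X_q` lying in every layer criterion lies in the intersection of the layers. -/
theorem le_kernelAt (hq : q ∈ primes A θ) {K : Subgroup G}
    (hcore : ∀ r, r ∈ primes A θ → r ≠ q → K ≤ core' r (Top p A θ {q, r})) :
    K ≤ kernelAt p A θ q := by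
  refine le_iInf fun r => (hcore r r.2.1 r.2.2).trans ?_
  haveI := fact_of_mem r.2.1
  haveI := fact_of_mem hq
  have hU := h.pair_isTop h3 q r
  refine le_core core'_le le_normalizer_core' ?_
  refine IsPGroup.of_card (Nat.eq_prime_pow_of_unique_prime_dvd Nat.card_pos.ne' fun {d} hd hdvd => ?_)
  rcases Set.mem_insert_iff.mp (hU.2.2.1 d hd (hdvd.trans (card_dvd_of_le core'_le))) with e | e
  · exact e
  · exact absurd ((Set.mem_singleton_iff.mp e) ▸ hdvd) not_dvd_core'

/-- **T1.** The value at a plane with two independent lines, or with fixed points on the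
intersection of the layers, normalizes that intersection. -/
theorem thetaPlane_le_normalizer (hq : q ∈ primes A θ) (hB : IsPlane p A B)
    (hD : kernelAt p A θ q ⊓ centralizer (B : Set G) ≠ ⊥ ∨
      ∃ a b : G, a ∈ B ∧ b ∈ B ∧ a ≠ 1 ∧ b ∉ zpowers a ∧ IsLine p A θ q a ∧ IsLine p A θ q b) :
    Cfsg.signalizerInf B θ ≤ normalizer (kernelAt p A θ q : Set G) := by
  haveI := fact_of_mem hq
  set E := kernelAt p A θ q with hE
  intro m hm
  refine CfsgLib.Coprime.mem_normalizer_of_forall_conj fun e he => ?_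
  set Em := E.map (MulAut.conj m).toMonoidHom with hEm
  have hline_le : ∀ a : G, a ∈ B → a ≠ 1 → IsLine p A θ q a →
      ∃ M, IsMax p A θ M ∧ θ a ≤ M ∧ Em ≤ core q M := by
    intro a haB ha1 hl
    obtain ⟨M, hM, haM, hEM⟩ := h.exists_max_ge_theta (hB.1 haB) ha1 |>.elim fun _ _ =>
      IsLine.exists_max h h3 hq hl
    refine ⟨M, hM, haM, ?_⟩
    rintro _ ⟨x, hx, rfl⟩
    exact CfsgLib.Coprime.mem_normalizer_conj
      (le_normalizer_core (haM (signalizerInf_le haB ha1 hm))) (hEM hx)
  have hnd : ∀ {M : Subgroup G} {r : ℕ}, r ∈ primes A θ → r ≠ q → ∀ {K W : Subgroup G},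
      K ≤ core q M → W ≤ M → ¬ r ∣ Nat.card ↥⁅K, W⁆ := by
    intro M r hr hrq K W hK hW
    haveI := fact_of_mem hr
    refine not_dvd_of_isPGroup ((isPGroup_core : IsPGroup q (core q M)).to_le ?_) hrq
    exact (commutator_mono hK hW).trans
      (CfsgLib.Coprime.commutator_le_of_normalizes le_normalizer_core)
  have hX : ∀ {M : Subgroup G}, IsMax p A θ M → core q M ≤ Top p A θ {q} := fun hM =>
    (h.single_isTop h3 q).le_of_isPGroup rfl (h.core_member hM.1)
      (h.inf_le_normalizer_core (hM.2.1.trans le_normalizer)) isPGroup_core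
  suffices hmain : Em ≤ E from hmain ⟨e, he, rfl⟩
  by_cases hfix : E ⊓ centralizer (B : Set G) ≠ ⊥
  · -- every element of `B` is a line
    have hall : ∀ a ∈ B, a ≠ 1 → IsLine p A θ q a := fun a haB ha1 =>
      h.isLine_of_fixed h3 hq (hB.1 haB) ha1 fun e => hfix (eq_bot_iff.mpr
        ((inf_le_inf_left _ (centralizer_le (Set.singleton_subset_iff.mpr haB))).trans e.le))
    obtain ⟨⟨a, haB⟩, hne⟩ := (ne_bot_iff_exists_ne_one).mp (h.plane_ne_bot hB)
    have ha1 : a ≠ 1 := fun e => hne (Subtype.ext e)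
    obtain ⟨M, hM, -, hEmM⟩ := hline_le a haB ha1 (hall a haB ha1)
    refine h.le_kernelAt h3 hq fun r hr hrq => ?_
    haveI := fact_of_mem hr
    have hU := h.pair_isTop h3 q r
    refine CfsgLib.Signalizer.le_pPrimeCore_of_hyperplanes h.elem h.ne_bot hU.1.2.1 hU.1.1
      (member_normalized hU.1) ((hEmM.trans (hX hM)).trans (h.single_le_pair h3 q r))
      (not_dvd_of_isPGroup (isPGroup_core.to_le hEmM) hrq) fun B' hB' hi => ?_
    obtain ⟨⟨b, hb⟩, hbne⟩ := (ne_bot_iff_exists_ne_one).mp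
      (inf_hyperplanes_ne_bot h.elem h.pow_le hB.1 hB.2 hi)
    have hb1 : b ≠ 1 := fun e => hbne (Subtype.ext e)
    obtain ⟨M', -, hbM, hEmM'⟩ := hline_le b hb.1 hb1 (hall b hb.1 hb1)
    exact hnd hr hrq hEmM' (((inf_le_inf_left _
      (centralizer_le (Set.singleton_subset_iff.mpr hb.2))).trans
        (hU.1.2.2.2 b (hB.1 hb.1) hb1)).trans hbM)
  · push Not at hfix
    obtain ⟨a₁, a₂, ha₁, ha₂, ha₁1, ha₂1, hl₁, hl₂⟩ :=
      hD.resolve_left fun hne => hne hfix
    rw [hEm, map_le_iff_le_comap]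
    refine h.member_le_of_planes (h.kernelAt_member h3 q) fun F hF => ?_
    rw [← map_le_iff_le_comap]
    set K0 := E ⊓ centralizer (F : Set G) with hK0
    by_cases hFB : F = B
    · rw [hK0, hFB, hfix, Subgroup.map_bot]
      exact bot_le
    obtain ⟨a, haB, ha1, hl, haF⟩ : ∃ a, a ∈ B ∧ a ≠ 1 ∧ IsLine p A θ q a ∧ a ∉ F := by
      by_cases h₁ : a₁ ∈ F
      · refine ⟨a₂, ha₂, fun e => ha₂1 (e ▸ one_mem _), hl₂, fun h₂ => ha₂1 ?_⟩
        exact h.mem_zpowers_of_planes hB hF (Ne.symm hFB) ha₁ h₁ ha₁1 ha₂ h₂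
      · exact ⟨a₁, ha₁, ha₁1, hl₁, h₁⟩
    have haA := hB.1 haB
    obtain ⟨M, hM, haM, hEmM⟩ := hline_le a haB ha1 hl
    set K := K0.map (MulAut.conj m).toMonoidHom with hK
    have hKM : K ≤ core q M := (map_mono inf_le_left).trans hEmM
    have hcomm : m * a = a * m :=
      (mem_centralizer_iff.mp (h.thetaPlane_le_centralizer hB hm) a haB).symm
    have haK0 : a ∈ normalizer (K0 : Set G) :=
      CfsgLib.Signalizer74.le_normalizer_inf (member_normalized (h.kernelAt_member h3 q))
        (conj_mem_centralizer h.elem hF.1) haA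
    have haK : a ∈ normalizer (K : Set G) := by
      refine CfsgLib.Coprime.mem_normalizer_of_forall_conj ?_
      rintro _ ⟨x, hx, rfl⟩
      refine ⟨a * x * a⁻¹, CfsgLib.Coprime.mem_normalizer_conj haK0 hx, ?_⟩
      simp only [MulEquiv.coe_toMonoidHom, MulAut.conj_apply]
      calc m * (a * x * a⁻¹) * m⁻¹ = (m * a) * x * (m * a)⁻¹ := by group
        _ = (a * m) * x * (a * m)⁻¹ := by rw [hcomm]
        _ = a * (m * x * m⁻¹) * a⁻¹ := by group
    have hfixK : K ⊓ centralizer {a} = ⊥ := by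
      rw [eq_bot_iff]
      rintro _ ⟨⟨x, hx, rfl⟩, hc⟩
      simp only [MulEquiv.coe_toMonoidHom, MulAut.conj_apply] at hc ⊢
      have hxa : x ∈ centralizer ({a} : Set G) := by
        have hmc : m ∈ centralizer ({a} : Set G) := mem_centralizer_singleton_iff.mpr hcomm
        have h1 := mul_mem (mul_mem (inv_mem hmc) hc) hmc
        simpa [mul_assoc] using h1
      have hxA : x ∈ E ⊓ centralizer (A : Set G) :=
        ⟨hx.1, h.inf_centralizer_plane_le hF haA haF ⟨hx.2, hxa⟩⟩
      have hx0 : x ∈ E ⊓ centralizer (B : Set G) := ⟨hxA.1, centralizer_le hB.1 hxA.2⟩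
      rw [hfix, mem_bot] at hx0
      simp [hx0]
    refine h.le_kernelAt h3 hq fun r hr hrq => ?_
    haveI := fact_of_mem hr
    have hU := h.pair_isTop h3 q r
    exact le_core'_of_fpf (p := p) (h.elem.2 a haA) (member_normalized hU.1 haA) haK hU.1.2.1 hU.1.1
      ((hKM.trans (hX hM)).trans (h.single_le_pair h3 q r))
      (not_dvd_of_isPGroup (isPGroup_core.to_le hKM) hrq) hfixK
      (hnd hr hrq hKM ((hU.1.2.2.2 a haA ha1).trans haM))

end Minimal

end CfsgLib.Signalizer74
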