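import Cfsg.Agent.Lib.Signalizer74.KernelExists

/-!
# Planes with values outside the maximal member at a nontrivial kernel
-/

set_option autoImplicit false
set_option linter.style.haveILetI false
set_option linter.unusedSectionVars false

namespace CfsgLib.Signalizer74

open Subgroup CfsgLib.Signalizer
open scoped Pointwise commutatorElement

variable {G : Type*} [Group G] [Finite G] {p q r w : ℕ} [hp : Fact p.Prime] {A : Subgroup G}
  {θ : G → Subgroup G} {M D B Y : Subgroup G}

/-- A subgroup fixed by a coprime operator and normalized by the fixed points of `M`, centralizing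
all cores of `M` but the `q`-core, lies in the `q`-core. -/
theorem le_core_of_fixed [Fact q.Prime] {c : G} (hMs : Group.IsSolvable M)
    (hc : c ∈ normalizer (M : Set G)) (hcop : (Nat.card (zpowers c)).Coprime (Nat.card M))
    (hcq : c ∈ centralizer (core q M : Set G)) (hY : Y ≤ M) (hYq : IsPGroup q Y)
    (hYn : M ⊓ centralizer {c} ≤ normalizer (Y : Set G))
    (hYc : ∀ r : ℕ, r.Prime → r ≠ q → Y ≤ centralizer (core r M : Set G)) :
    Y ≤ core q M := by
  set N₀ := M ⊓ ⨅ r : {r : ℕ // r.Prime ∧ r ≠ q}, centralizer (core r M : Set G) with hN₀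
  have hMN₀ : M ≤ normalizer (N₀ : Set G) :=
    le_normalizer_inf le_normalizer ((le_iInf fun r : {r : ℕ // r.Prime ∧ r ≠ q} =>
      le_normalizer_core.trans normalizer_le_normalizer_centralizer').trans
        (iInf_normalizer_le_normalizer_iInf _))
  have hz : zpowers c ≤ normalizer (M : Set G) := zpowers_le.mpr hc
  have hzN₀ : zpowers c ≤ normalizer (N₀ : Set G) :=
    le_normalizer_inf hz ((le_iInf fun r : {r : ℕ // r.Prime ∧ r ≠ q} =>
      (hz.trans normalizer_le_normalizer_core).trans normalizer_le_normalizer_centralizer').trans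
        (iInf_normalizer_le_normalizer_iInf _))
  have hF : ∀ r : ℕ, r.Prime → r ≠ q → N₀ ≤ centralizer (core r M : Set G) := fun r hr hrq =>
    inf_le_right.trans (iInf_le (fun r : {r : ℕ // r.Prime ∧ r ≠ q} =>
      centralizer (core (r : ℕ) M : Set G)) ⟨r, hr, hrq⟩)
  have hcomm : ⁅N₀, zpowers c⁆ ≤ ⨆ r : Nat.Primes, core (r : ℕ) M := by
    refine commutator_le.mpr fun n hn d hd => mem_iSup_core hMs ?_ fun r hr => ?_
    · rw [commutatorElement_def, mul_assoc, mul_assoc]
      refine M.mul_mem hn.1 ?_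
      rw [← mul_assoc]
      exact CfsgLib.Coprime.mem_normalizer_conj (hz hd) (M.inv_mem hn.1)
    · by_cases hrq : r = q
      · exact hrq ▸ commutatorElement_mem_centralizer (le_normalizer_core hn.1) (zpowers_le.mpr hcq hd)
      · rw [← commutatorElement_inv]
        exact inv_mem (commutatorElement_mem_centralizer
          ((hz.trans normalizer_le_normalizer_core) hd) (hF r hr hrq hn))
  set Z := Y ⊔ core q M
  have hYn' : Y ≤ normalizer (core q M : Set G) := hY.trans le_normalizer_core
  have hZq : IsPGroup q Z := IsPGroup.to_sup_of_normal_right' hYq isPGroup_core hYn'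
  have hZN : Z ≤ M := sup_le hY core_le
  have hYN₀ : Y ≤ N₀ := le_inf hY (le_iInf fun r => hYc r r.2.1 r.2.2)
  have hnorm : N₀ ≤ normalizer (Z : Set G) := by
    conv_lhs => rw [← CfsgLib.Coprime.commutator_sup_centralizer (zpowers c) N₀ hzN₀
      (hcop.coprime_dvd_right (card_dvd_of_le inf_le_left)) (Or.inr (isSolvable_of_le inf_le_left hMs))]
    refine sup_le (hcomm.trans (iSup_le fun r => ?_)) ?_
    · by_cases hrq : (r : ℕ) = q
      · rw [hrq]
        exact le_sup_right.trans le_normalizer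
      · refine le_trans ?_ (Subgroup.centralizer_le_normalizer _)
        refine le_centralizer_iff.mp (sup_le (hYc r r.2 hrq) ?_)
        haveI : Fact (r : ℕ).Prime := ⟨r.2⟩
        exact commutator_eq_bot_iff_le_centralizer.mp (commutator_core_eq_bot (Ne.symm hrq))
    · rw [centralizer_zpowers']
      exact (le_inf (inf_le_inf_right _ inf_le_left |>.trans hYn)
        ((inf_le_left.trans inf_le_left).trans le_normalizer_core)).trans
        (normalizer_inf_normalizer_le_normalizer_sup _ _)
  have h1 : Y ≤ core q N₀ := (le_inf le_sup_left hYN₀).trans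
    (le_core (H := N₀) inf_le_right (le_normalizer_inf hnorm le_normalizer) (hZq.to_le inf_le_left))
  exact h1.trans (le_core (core_le.trans inf_le_left) (hMN₀.trans normalizer_le_normalizer_core)
    isPGroup_core)

namespace Minimal

variable (h : Minimal p A θ)
include h

omit h in
/-- A prime with nontrivial kernel and a maximal member containing its normalizer. -/
structure Pivot (p : ℕ) (A : Subgroup G) (θ : G → Subgroup G) (q : ℕ) (M : Subgroup G) : Prop where
  mem : q ∈ primes A θ
  ne_bot : kernelAt p A θ q ≠ ⊥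
  max : IsMax p A θ M
  le_core : kernelAt p A θ q ≤ core q M
  absorbs : ∀ Y ∈ Cfsg.signalizerFamily p A θ, Y ≤ normalizer (kernelAt p A θ q : Set G) → Y ≤ M

theorem plane_mem_ne_bot (hD : IsPlane p A D) : ∃ a ∈ D, a ≠ 1 := by
  obtain ⟨⟨a, ha⟩, hne⟩ := (ne_bot_iff_exists_ne_one).mp (h.plane_ne_bot hD)
  exact ⟨a, ha, fun e => hne (Subtype.ext e)⟩

variable (h3 : ThreePrimes A θ)
include h3

theorem exists_pivot : ∃ q M, Pivot p A θ q M := by
  obtain ⟨q, hq, hne⟩ := h.exists_kernelAt_ne_bot h3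
  haveI := fact_of_mem hq
  have hE := h.kernelAt_member h3 q
  obtain ⟨W, hW, hle⟩ := h.exists_normalizer_completion hE hne
  have hTW : Cfsg.signalizerInf A θ ≤ W := hle _ h.inf_member (h.kernelAt_tinv h3 q)
  obtain ⟨M, hM, hWM⟩ := h.exists_max_ge hW (hTW.trans le_normalizer)
  refine ⟨q, M, hq, hne, hM, ?_, fun Y hY hYn => (hle Y hY hYn).trans hWM⟩
  exact le_trans (le_inf le_rfl ((hle _ hE le_normalizer).trans hWM))
    (h.kernelAt_inf_le h3 hq hM.1 (hM.2.1.trans le_normalizer))

/-- A plane whose value does not normalize a kernel has a single line, centralizing the kernel. -/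
theorem kernel_plane (hw : w ∈ primes A θ) (hD : IsPlane p A D)
    (hn : ¬ Cfsg.signalizerInf D θ ≤ normalizer (kernelAt p A θ w : Set G)) :
    ∃ c ∈ D, c ≠ 1 ∧ kernelAt p A θ w ≤ centralizer {c} ∧ IsLine p A θ w c ∧
      (∀ b ∈ D, IsLine p A θ w b → b ∈ zpowers c) ∧
      kernelAt p A θ w ⊓ centralizer (D : Set G) = ⊥ := by
  set E := kernelAt p A θ w
  have hfix : E ⊓ centralizer (D : Set G) = ⊥ := by
    by_contra hne
    exact hn (h.thetaPlane_le_normalizer h3 hw hD (Or.inl hne))
  have huniq : ∀ a ∈ D, a ≠ 1 → IsLine p A θ w a → ∀ b ∈ D, IsLine p A θ w b → b ∈ zpowers a := by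
    intro a ha ha1 hla b hb hlb
    by_contra hnb
    exact hn (h.thetaPlane_le_normalizer h3 hw hD (Or.inr ⟨a, b, ha, hb, ha1, hnb, hla, hlb⟩))
  have hweight : ∀ F, IsPlane p A F → E ⊓ centralizer (F : Set G) ≠ ⊥ →
      ∀ a, a ∈ F → a ∈ D → a ≠ 1 → IsLine p A θ w a := fun F hF hne a haF haD ha1 =>
    h.isLine_of_fixed h3 hw (hD.1 haD) ha1 fun e => hne (eq_bot_iff.mpr
      ((inf_le_inf_left _ (centralizer_le (Set.singleton_subset_iff.mpr haF))).trans e.le))
  obtain ⟨F, hF, hFne⟩ : ∃ F, IsPlane p A F ∧ E ⊓ centralizer (F : Set G) ≠ ⊥ := by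
    by_contra hcon
    push Not at hcon
    have hE : E = ⊥ := eq_bot_iff.mpr
      (h.member_le_of_planes (h.kernelAt_member h3 w) fun B hB => (hcon B hB).le)
    exact hn ((le_top).trans_eq (normalizer_eq_top_iff.mpr (hE ▸ inferInstance)).symm)
  obtain ⟨⟨c, hc⟩, hcne⟩ := (ne_bot_iff_exists_ne_one).mp
    (inf_hyperplanes_ne_bot h.elem h.pow_le hD.1 hD.2 hF.2)
  have hc1 : c ≠ 1 := fun e => hcne (Subtype.ext e)
  have hlc := hweight F hF hFne c hc.2 hc.1 hc1
  refine ⟨c, hc.1, hc1, h.member_le_of_planes (h.kernelAt_member h3 w) fun B hB => ?_, hlc,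
    huniq c hc.1 hc1 hlc, hfix⟩
  by_cases hBne : E ⊓ centralizer (B : Set G) = ⊥
  · rw [hBne]; exact bot_le
  obtain ⟨⟨b, hb⟩, hbne⟩ := (ne_bot_iff_exists_ne_one).mp
    (inf_hyperplanes_ne_bot h.elem h.pow_le hD.1 hD.2 hB.2)
  have hb1 : b ≠ 1 := fun e => hbne (Subtype.ext e)
  have hlb := hweight B hB hBne b hb.2 hb.1 hb1
  exact inf_le_right.trans (centralizer_le (Set.singleton_subset_iff.mpr
    ((zpowers_le.mpr hb.2) (huniq b hb.1 hb1 hlb c hc.1 hlc))))

variable {q : ℕ} (hP : Pivot p A θ q M)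
include hP

theorem single_le_pivot : Top p A θ {q} ≤ M :=
  hP.absorbs _ (h.single_isTop h3 q).1 (h.single_le_normalizer_kernelAt h3 q)

theorem thetaPlane_le_pivot (hD : IsPlane p A D)
    (hn : Cfsg.signalizerInf D θ ≤ normalizer (kernelAt p A θ q : Set G)) :
    Cfsg.signalizerInf D θ ≤ M :=
  hP.absorbs _ (h.thetaPlane_member hD) hn

theorem bad_plane (hD : IsPlane p A D) (hbad : ¬ Cfsg.signalizerInf D θ ≤ M) :
    ∃ c ∈ D, c ≠ 1 ∧ kernelAt p A θ q ≤ centralizer {c} ∧ IsLine p A θ q c ∧
      (∀ b ∈ D, IsLine p A θ q b → b ∈ zpowers c) ∧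
      kernelAt p A θ q ⊓ centralizer (D : Set G) = ⊥ :=
  h.kernel_plane h3 hP.mem hD fun hn => hbad (h.thetaPlane_le_pivot h3 hP hD hn)

theorem exists_bad : ∃ D, IsPlane p A D ∧ ¬ Cfsg.signalizerInf D θ ≤ M :=
  h.exists_plane_not_le hP.max.1

theorem kernel_inf_centralizer_eq_bot : kernelAt p A θ q ⊓ centralizer (A : Set G) = ⊥ := by
  obtain ⟨D, hD, hbad⟩ := h.exists_bad h3 hP
  obtain ⟨c, -, -, -, -, -, hfix⟩ := h.bad_plane h3 hP hD hbad
  exact eq_bot_iff.mpr ((inf_le_inf_left _ (centralizer_le hD.1)).trans hfix.le)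

/-- **CORE.** Conjugates of the kernel by the value at a bad plane stay in `O_q(M)`. -/
theorem conj_kernel_le_core (hD : IsPlane p A D) (hbad : ¬ Cfsg.signalizerInf D θ ≤ M) {c : G}
    (hcD : c ∈ D) (hc1 : c ≠ 1) (hEc : kernelAt p A θ q ≤ centralizer {c})
    (hcq : core q M ≤ centralizer {c})
    (hw : ∀ w ∈ primes A θ, w ≠ q → ⁅core w M, zpowers c⁆ ≤ kernelAt p A θ w) {m : G}
    (hm : m ∈ Cfsg.signalizerInf D θ) :
    (kernelAt p A θ q).map (MulAut.conj m).toMonoidHom ≤ core q M := by
  haveI := fact_of_mem hP.mem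
  set E := kernelAt p A θ q with hE
  have hEm := h.kernelAt_member h3 q
  have hcA := hD.1 hcD
  have hlc : IsLine p A θ q c := h.isLine_of_fixed h3 hP.mem hcA hc1 fun e => hP.ne_bot (by
    rwa [inf_eq_left.mpr hEc] at e)
  obtain ⟨Mc, hMc, hcMc, hEMc⟩ := IsLine.exists_max h h3 hP.mem hlc
  have hEθ : E ≤ θ c := (le_inf le_rfl hEc).trans (hEm.2.2.2 c hcA hc1)
  have hmθ : m ∈ θ c := signalizerInf_le hcD hc1 hm
  set Ec := core q Mc ⊓ θ c
  have hEmθ : E.map (MulAut.conj m).toMonoidHom ≤ core q (θ c) := by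
    refine le_trans ?_ ((core_inf_le (q := q) hcMc))
    rintro _ ⟨e, he, rfl⟩
    exact ⟨CfsgLib.Coprime.mem_normalizer_conj (le_normalizer_core (hcMc hmθ)) (hEMc he),
      CfsgLib.Coprime.mem_normalizer_conj (le_normalizer hmθ) (hEθ he)⟩
  have hEcX : Ec ≤ Top p A θ {q} := inf_le_left.trans
    ((h.single_isTop h3 q).le_of_isPGroup rfl (h.core_member hMc.1)
      (h.inf_le_normalizer_core (hMc.2.1.trans le_normalizer)) isPGroup_core)
  have hEmM : E.map (MulAut.conj m).toMonoidHom ≤ M := by
    refine le_trans ?_ (hEcX.trans (h.single_le_pivot h3 hP))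
    rintro _ ⟨e, he, rfl⟩
    exact ⟨CfsgLib.Coprime.mem_normalizer_conj (le_normalizer_core (hcMc hmθ)) (hEMc he),
      CfsgLib.Coprime.mem_normalizer_conj (le_normalizer hmθ) (hEθ he)⟩
  -- the fixed part of a non-`q` core commutes with the `q`-core of `θ c`
  have hfixed : ∀ r : ℕ, r.Prime → r ≠ q →
      core q (θ c) ≤ centralizer ((core r M ⊓ centralizer {c} : Subgroup G) : Set G) := by
    intro r hr hrq
    haveI := Fact.mk hr
    have hU : core r M ⊓ centralizer {c} ≤ θ c :=
      (inf_le_inf_right _ core_le).trans (hP.max.1.2.2.2 c hcA hc1)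
    have hUE : core r M ⊓ centralizer {c} ≤ centralizer (E : Set G) :=
      inf_le_left.trans ((commutator_eq_bot_iff_le_centralizer.mp (commutator_core_eq_bot hrq)).trans
        (centralizer_le hP.le_core))
    have hU' : core r M ⊓ centralizer {c} ≤ core' q (θ c) := by
      refine le_core'_of_normalizer_le (h.theta_member hcA hc1).1 (h.kernelAt_isPGroup h3 q) hEθ hU
        (not_dvd_of_isPGroup (isPGroup_core.to_le inf_le_left) (Ne.symm hrq))
        (hUE.trans (centralizer_le_normalizer _)) ?_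
      have hN : θ c ⊓ normalizer (E : Set G) ≤ M :=
        hP.absorbs _ (member_inf (h.theta_member hcA hc1)
          ((member_normalized hEm).trans le_normalizer)) inf_le_right
      exact le_normalizer_inf (hN.trans le_normalizer_core)
        ((inf_le_left.trans (h.sig.1.1 c hcA hc1)).trans le_normalizer)
    refine le_centralizer_iff.mp (hU'.trans ?_)
    refine le_centralizer_of_inf_eq_bot (core'_le.trans le_normalizer_core)
      (core_le.trans le_normalizer_core') ?_
    rw [inf_comm]
    exact CfsgLib.PCore.inf_eq_bot_of_isPGroup_coprime isPGroup_core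
      (CfsgLib.PCore.coprime_of_not_dvd_card not_dvd_core')
  set Y := core q (θ c) ⊓ M ⊓ ⨅ r : {r : ℕ // r.Prime ∧ r ≠ q}, centralizer (core r M : Set G)
  have hYq : Y ≤ core q M := by
    refine le_core_of_fixed hP.max.1.1 (member_normalized hP.max.1 hcA)
      ((h.coprime hP.max.1).coprime_dvd_left (card_dvd_of_le (zpowers_le.mpr hcA)))
      (mem_centralizer_iff.mpr fun x hx => mem_centralizer_singleton_iff.mp (hcq hx))
      (inf_le_left.trans inf_le_right) (isPGroup_core.to_le (inf_le_left.trans inf_le_left)) ?_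
      fun r hr hrq => inf_le_right.trans (iInf_le (fun r : {r : ℕ // r.Prime ∧ r ≠ q} =>
        centralizer (core (r : ℕ) M : Set G)) ⟨r, hr, hrq⟩)
    exact le_normalizer_inf (le_normalizer_inf ((hP.max.1.2.2.2 c hcA hc1).trans le_normalizer_core)
        (inf_le_left.trans le_normalizer))
      ((le_iInf fun r : {r : ℕ // r.Prime ∧ r ≠ q} =>
        (inf_le_left.trans le_normalizer_core).trans normalizer_le_normalizer_centralizer').trans
          (iInf_normalizer_le_normalizer_iInf _))
  refine le_trans (le_inf (le_inf hEmθ hEmM) (le_iInf fun r => ?_)) hYq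
  obtain ⟨r, hr, hrq⟩ := r
  haveI := Fact.mk hr
  by_cases hrbot : core r M = ⊥
  · rw [hrbot]
    exact fun x _ => mem_centralizer_iff.mpr fun y hy => by
      rw [SetLike.mem_coe, mem_bot] at hy; simp [hy]
  have hrπ : r ∈ primes A θ := by
    obtain ⟨k, hk⟩ := IsPGroup.iff_card.mp (isPGroup_core (q := r) (H := M))
    have hk0 : k ≠ 0 := fun e => hrbot (card_eq_one.mp (by rw [hk, e, pow_zero]))
    exact h.prime_mem hr hP.max.1 ((hk ▸ dvd_pow_self r hk0).trans (card_dvd_of_le core_le))
  set R := ⁅core r M, zpowers c⁆ with hR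
  have hcn : zpowers c ≤ normalizer (core r M : Set G) :=
    ((zpowers_le.mpr hcA).trans (member_normalized hP.max.1)).trans normalizer_le_normalizer_core
  have hcop : (Nat.card (zpowers c)).Coprime (Nat.card (core r M)) :=
    (h.coprime (h.core_member hP.max.1)).coprime_dvd_left (card_dvd_of_le (zpowers_le.mpr hcA))
  have hsplit := CfsgLib.Coprime.commutator_sup_centralizer (zpowers c) (core r M) hcn hcop
    (Or.inr (isSolvable_pGroup isPGroup_core))
  rw [le_centralizer_iff]
  conv_lhs => rw [← hsplit]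
  refine sup_le ?_ (le_centralizer_iff.mp ?_)
  swap
  · rw [centralizer_zpowers']
    exact hEmθ.trans (hfixed r hr hrq)
  refine le_centralizer_iff.mp ?_
  have hRE : R ≤ kernelAt p A θ r := hw r hrπ hrq
  by_cases hgood : Cfsg.signalizerInf D θ ≤ normalizer (kernelAt p A θ r : Set G)
  · rintro _ ⟨e, he, rfl⟩
    refine mem_centralizer_iff.mpr fun x hx => ?_
    have hm' := hgood hm
    have h1 : m⁻¹ * x * m ∈ kernelAt p A θ r :=
      CfsgLib.Coprime.mem_normalizer_conj' hm' (hRE hx)
    have hcomm : Commute e (m⁻¹ * x * m) := by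
      have hle1 := h.kernelAt_le_layer h3 (q := q) hrπ hrq he
      have hle2 := h.kernelAt_le_layer h3 (q := r) hP.mem (Ne.symm hrq) h1
      have hc2 : layer p A θ q r ≤ centralizer (layer p A θ r q : Set G) := by
        have e1 : ({r, q} : Set ℕ) = {q, r} := Set.pair_comm r q
        rw [layer, layer, e1]
        exact commutator_eq_bot_iff_le_centralizer.mp (commutator_core_eq_bot (Ne.symm hrq))
      exact (mem_centralizer_iff.mp (hc2 hle1) _ hle2).symm
    simp only [MulEquiv.coe_toMonoidHom, MulAut.conj_apply]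
    calc x * (m * e * m⁻¹) = m * ((m⁻¹ * x * m) * e) * m⁻¹ := by group
      _ = m * (e * (m⁻¹ * x * m)) * m⁻¹ := by rw [hcomm.eq]
      _ = m * e * m⁻¹ * x := by group
  obtain ⟨d, hdD, hd1, hEd, -, -, -⟩ := h.kernel_plane h3 hrπ hD hgood
  have hdA := hD.1 hdD
  by_cases hdc : d ∈ zpowers c
  · -- then `c` is trivial on the commutator
    have hRc : R ≤ centralizer {c} := by
      refine hRE.trans fun x hx => mem_centralizer_singleton_iff.mpr ?_
      have hz : zpowers d = zpowers c := by
        refine eq_of_le_of_card_ge (zpowers_le.mpr hdc) ?_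
        rw [Nat.card_zpowers, Nat.card_zpowers, orderOf_eq_prime (h.elem.2 c hcA) hc1,
          orderOf_eq_prime (h.elem.2 d hdA) hd1]
      have h1 : x ∈ centralizer (zpowers d : Set G) := by
        rw [centralizer_zpowers']; exact hEd hx
      rw [hz, centralizer_zpowers'] at h1
      exact mem_centralizer_singleton_iff.mp h1
    have h2 : R = ⊥ := CfsgLib.Coprime.commutator_eq_bot_of_commutator_commutator_eq_bot (zpowers c)
      (core r M) hcn hcop (Or.inr (isSolvable_pGroup isPGroup_core))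
      (commutator_eq_bot_iff_le_centralizer.mpr (by rw [centralizer_zpowers']; exact hRc))
    rw [show ⁅core r M, zpowers c⁆ = ⊥ from h2]
    exact fun x _ => mem_centralizer_iff.mpr fun y hy => by
      rw [SetLike.mem_coe, mem_bot] at hy; simp [hy]
  -- weights of the kernel
  rw [map_le_iff_le_comap]
  refine h.member_le_of_planes hEm fun F hF => ?_
  rw [← map_le_iff_le_comap]
  set K := (E ⊓ centralizer (F : Set G)).map (MulAut.conj m).toMonoidHom
  have hdcomm : m * d = d * m :=
    (mem_centralizer_iff.mp (h.thetaPlane_le_centralizer hD hm) d hdD).symm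
  have hdK : zpowers d ≤ normalizer (K : Set G) := by
    refine zpowers_le.mpr (CfsgLib.Coprime.mem_normalizer_of_forall_conj ?_)
    rintro _ ⟨x, hx, rfl⟩
    refine ⟨d * x * d⁻¹, CfsgLib.Coprime.mem_normalizer_conj (le_normalizer_inf
      (member_normalized hEm) (conj_mem_centralizer h.elem hF.1) hdA) hx, ?_⟩
    simp only [MulEquiv.coe_toMonoidHom, MulAut.conj_apply]
    calc m * (d * x * d⁻¹) * m⁻¹ = (m * d) * x * (m * d)⁻¹ := by group
      _ = (d * m) * x * (d * m)⁻¹ := by rw [hdcomm]
      _ = d * (m * x * m⁻¹) * d⁻¹ := by group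
  by_cases hKbot : E ⊓ centralizer (F : Set G) = ⊥
  · simp only [K, hKbot, Subgroup.map_bot]
    exact bot_le
  obtain ⟨c', hc'D, hc'1, -, -, hu, hfix⟩ := h.bad_plane h3 hP hD hbad
  have hcF : c ∈ F := by
    obtain ⟨⟨b, hb⟩, hbne⟩ := (ne_bot_iff_exists_ne_one).mp
      (inf_hyperplanes_ne_bot h.elem h.pow_le hD.1 hD.2 hF.2)
    have hb1 : b ≠ 1 := fun e => hbne (Subtype.ext e)
    have hlb : IsLine p A θ q b := h.isLine_of_fixed h3 hP.mem (hD.1 hb.1) hb1 fun e => hKbot
      (eq_bot_iff.mpr ((inf_le_inf_left _ (centralizer_le (Set.singleton_subset_iff.mpr hb.2))).trans e.le))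
    have hzb : zpowers b = zpowers c' := eq_of_le_of_card_ge (zpowers_le.mpr (hu b hb.1 hlb)) (by
      rw [Nat.card_zpowers, Nat.card_zpowers, orderOf_eq_prime (h.elem.2 b (hD.1 hb.1)) hb1,
        orderOf_eq_prime (h.elem.2 c' (hD.1 hc'D)) hc'1])
    exact (zpowers_le.mpr hb.2) (hzb ▸ hu c hcD hlc)
  have hdF : d ∉ F := fun hdF => hdc (h.mem_zpowers_of_planes hD hF (fun e => hKbot (by
    rw [← e]; exact hfix)) hcD hcF hc1 hdD hdF)
  have hfixK : K ⊓ centralizer (zpowers d : Set G) = ⊥ := by
    rw [centralizer_zpowers', eq_bot_iff]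
    rintro _ ⟨⟨x, hx, rfl⟩, hxc⟩
    simp only [MulEquiv.coe_toMonoidHom, MulAut.conj_apply] at hxc ⊢
    have hmc : m ∈ centralizer ({d} : Set G) := mem_centralizer_singleton_iff.mpr hdcomm
    have hxd : x ∈ centralizer ({d} : Set G) := by
      simpa [mul_assoc] using mul_mem (mul_mem (inv_mem hmc) hxc) hmc
    have hxA : x ∈ E ⊓ centralizer (A : Set G) :=
      ⟨hx.1, h.inf_centralizer_plane_le hF hdA hdF ⟨hx.2, hxd⟩⟩
    rw [h.kernel_inf_centralizer_eq_bot h3 hP, mem_bot] at hxA
    simp [hxA]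
  have hKE : K ≤ E.map (MulAut.conj m).toMonoidHom := map_mono inf_le_left
  have hKq : IsPGroup q K := ((h.kernelAt_isPGroup h3 q).to_le inf_le_left).map _
  have hKeq : ⁅K, zpowers d⁆ = K := by
    have h1 := CfsgLib.Coprime.commutator_sup_centralizer (zpowers d) K hdK
      ((h.coprime hP.max.1).coprime_dvd_left (card_dvd_of_le (zpowers_le.mpr hdA))
        |>.coprime_dvd_right (card_dvd_of_le (hKE.trans hEmM))) (Or.inr (isSolvable_pGroup hKq))
    rwa [hfixK, sup_bot_eq] at h1
  have hKR : K ≤ normalizer (R : Set G) := by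
    refine le_normalizer_commutator ((hKE.trans hEmM).trans le_normalizer_core) ?_
    refine (le_trans ?_ (centralizer_le_normalizer _))
    rw [centralizer_zpowers']
    exact hKE.trans (hEmθ.trans (core_le.trans (h.sig.1.1 c hcA hc1)))
  rw [← hKeq]
  refine commutator_le.mpr fun k hk d' hd' => ?_
  refine commutatorElement_mem_centralizer (hKR hk) ?_
  refine (zpowers_le.mpr (mem_centralizer_iff.mpr fun x hx => ?_)) hd'
  exact mem_centralizer_singleton_iff.mp (hEd (hRE hx))

omit hP in
theorem centralizer_singleton_le_iff {c : G} {H : Subgroup G} :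
    H ≤ centralizer {c} ↔ zpowers c ≤ centralizer (H : Set G) := by
  rw [le_centralizer_iff, centralizer_zpowers']

/-- The `q`-core of the pivot is larger than the kernel at any bad plane's fixed element. -/
theorem false_of_core_le (hD : IsPlane p A D) (hbad : ¬ Cfsg.signalizerInf D θ ≤ M) {c : G}
    (hcD : c ∈ D) (hc1 : c ≠ 1) (hEc : kernelAt p A θ q ≤ centralizer {c})
    (hcore : core q M ≤ kernelAt p A θ q)
    (hw : ∀ w ∈ primes A θ, w ≠ q → ⁅core w M, zpowers c⁆ ≤ kernelAt p A θ w) : False :=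
  hbad (h.thetaPlane_le_pivot h3 hP hD fun m hm => CfsgLib.Coprime.mem_normalizer_of_forall_conj
    fun x hx => hcore (h.conj_kernel_le_core h3 hP hD hbad hcD hc1 hEc (hcore.trans hEc) hw hm
      ⟨x, hx, rfl⟩))

/-- **L1'.** No element centralizing the kernel lies in all bad planes. -/
theorem false_of_common {c : G} (hcA : c ∈ A) (hc1 : c ≠ 1)
    (hEc : kernelAt p A θ q ≤ centralizer {c})
    (hcom : ∀ B, IsPlane p A B → ¬ Cfsg.signalizerInf B θ ≤ M → c ∈ B) : False := by
  haveI := fact_of_mem hP.mem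
  have hMc : c ∈ normalizer (M : Set G) := member_normalized hP.max.1 hcA
  have hcs : ∀ w ∈ primes A θ, ⁅core w M, zpowers c⁆ ≤ kernelAt p A θ w := by
    intro w hw
    haveI := fact_of_mem hw
    have hn : zpowers c ≤ normalizer (core w M : Set G) :=
      (zpowers_le.mpr hMc).trans normalizer_le_normalizer_core
    refine h.le_kernelAt h3 hw fun r hr hrw => ?_
    haveI := fact_of_mem hr
    have hU := h.pair_isTop h3 w r
    have hKL : core w M ≤ Top p A θ {w, r} := hU.le_of_isPGroup (Set.mem_insert _ _)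
      (h.core_member hP.max.1) (h.inf_le_normalizer_core (hP.max.2.1.trans le_normalizer)) isPGroup_core
    refine commutator_le_core' h.elem (member_normalized hU.1) (member_normalized (h.core_member hP.max.1))
      h.ne_bot hU.1.2.1 hU.1.1 hKL (not_dvd_of_isPGroup isPGroup_core hrw) (zpowers_le.mpr hcA)
      fun B hB hi => ?_
    by_cases hgood : Cfsg.signalizerInf B θ ≤ M
    · refine Or.inr (not_dvd_of_isPGroup ((isPGroup_core : IsPGroup w (core w M)).to_le
        (CfsgLib.Coprime.commutator_le_of_normalizes ?_)) hrw)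
      exact ((h.inf_centralizer_le_thetaPlane ⟨hB, hi⟩ hU.1).trans hgood).trans le_normalizer_core
    · exact Or.inl (zpowers_le.mpr (hcom B ⟨hB, hi⟩ hgood))
  have hcq : core q M ≤ centralizer {c} := by
    have hn : zpowers c ≤ normalizer (core q M : Set G) :=
      (zpowers_le.mpr hMc).trans normalizer_le_normalizer_core
    have h1 : ⁅⁅core q M, zpowers c⁆, zpowers c⁆ = ⊥ := by
      rw [commutator_eq_bot_iff_le_centralizer, centralizer_zpowers']
      exact (hcs q hP.mem).trans hEc
    have h2 := CfsgLib.Coprime.commutator_eq_bot_of_commutator_commutator_eq_bot (zpowers c) (core q M) hn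
      ((h.coprime (h.core_member hP.max.1)).coprime_dvd_left (card_dvd_of_le (zpowers_le.mpr hcA)))
      (Or.inr (isSolvable_pGroup isPGroup_core)) h1
    rw [commutator_eq_bot_iff_le_centralizer, centralizer_zpowers'] at h2
    exact h2
  obtain ⟨D, hD, hbad⟩ := h.exists_bad h3 hP
  refine hbad (h.thetaPlane_le_pivot h3 hP hD fun m hm =>
    CfsgLib.Coprime.mem_normalizer_of_forall_conj fun x hx => ?_)
  set Em := (kernelAt p A θ q).map (MulAut.conj m).toMonoidHom
  suffices hle : Em ≤ kernelAt p A θ q from hle ⟨x, hx, rfl⟩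
  have hEmM : Em ≤ core q M := h.conj_kernel_le_core h3 hP hD hbad (hcom D hD hbad) hc1 hEc hcq
    (fun w hw _ => hcs w hw) hm
  have hlc : IsLine p A θ q c := h.isLine_of_fixed h3 hP.mem hcA hc1 fun e => hP.ne_bot (by
    rwa [inf_eq_left.mpr hEc] at e)
  obtain ⟨Mc, hMc', hcMc, hEMc⟩ := IsLine.exists_max h h3 hP.mem hlc
  have hEmMc : Em ≤ core q Mc := by
    rintro _ ⟨e, he, rfl⟩
    exact CfsgLib.Coprime.mem_normalizer_conj
      (le_normalizer_core (hcMc (signalizerInf_le (hcom D hD hbad) hc1 hm))) (hEMc he)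
  refine h.le_kernelAt h3 hP.mem fun r hr hrq => ?_
  haveI := fact_of_mem hr
  have hU := h.pair_isTop h3 q r
  have hEmU : Em ≤ Top p A θ {q, r} := hEmM.trans (hU.le_of_isPGroup (Set.mem_insert _ _)
    (h.core_member hP.max.1) (h.inf_le_normalizer_core (hP.max.2.1.trans le_normalizer)) isPGroup_core)
  refine CfsgLib.Signalizer.le_pPrimeCore_of_hyperplanes h.elem h.ne_bot hU.1.2.1 hU.1.1
    (member_normalized hU.1) hEmU (not_dvd_of_isPGroup (isPGroup_core.to_le hEmM) hrq) fun B hB hi => ?_
  have key : ∀ L : Subgroup G, Em ≤ core q L → Top p A θ {q, r} ⊓ centralizer (B : Set G) ≤ L →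
      ¬ r ∣ Nat.card ↥⁅Em, Top p A θ {q, r} ⊓ centralizer (B : Set G)⁆ := fun L h1 h2 =>
    not_dvd_of_isPGroup ((isPGroup_core : IsPGroup q (core q L)).to_le
      ((commutator_mono h1 h2).trans (CfsgLib.Coprime.commutator_le_of_normalizes le_normalizer_core))) hrq
  by_cases hgood : Cfsg.signalizerInf B θ ≤ M
  · exact key M hEmM ((h.inf_centralizer_le_thetaPlane ⟨hB, hi⟩ hU.1).trans hgood)
  · exact key Mc hEmMc ((h.inf_centralizer_le_thetaPlane ⟨hB, hi⟩ hU.1).trans
      ((signalizerInf_le (hcom B ⟨hB, hi⟩ hgood) hc1).trans hcMc))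

end Minimal

end CfsgLib.Signalizer74
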