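import Cfsg.Agent.Lib.Signalizer74.Crit

/-!
# Criteria through hyperplanes of the operator group
-/

set_option autoImplicit false
set_option linter.style.haveILetI false
set_option linter.unusedSectionVars false
set_option linter.deprecated false

namespace CfsgLib.Signalizer74

open Subgroup
open scoped Pointwise commutatorElement

variable {G : Type*} [Group G] [Finite G] {p r : ℕ} [hp : Fact p.Prime] [hr : Fact r.Prime]
  {A D K L P Q U : Subgroup G}

theorem isPGroup_of_elementary (hA : Cfsg.IsElementaryAbelian p A) : IsPGroup p A :=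
  fun a => ⟨1, Subtype.ext (by simpa using hA.2 a a.2)⟩

/-- If `K` centralizes `C_Q(B)` for every hyperplane `B` not containing `D ≤ A`, then `D`
centralizes `⁅Q, K⁆`. -/
theorem le_centralizer_commutator_of_planes (hA : Cfsg.IsElementaryAbelian p A) (hA1 : A ≠ ⊥)
    (hQ : IsPGroup r Q) (hQp : ¬ p ∣ Nat.card Q) (hAQ : A ≤ normalizer (Q : Set G))
    (hAK : A ≤ normalizer (K : Set G)) (hKQ : K ≤ normalizer (Q : Set G))
    (hKr : ¬ r ∣ Nat.card K)
    (hC : ∀ B : Subgroup G, B ≤ A → B.relIndex A = p →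
      D ≤ B ∨ K ≤ centralizer ((Q ⊓ centralizer (B : Set G) : Subgroup G) : Set G)) :
    D ≤ centralizer ((⁅Q, K⁆ : Subgroup G) : Set G) := by
  induction Q using (wellFounded_lt (α := Subgroup G)).induction with
  | _ Q ih =>
  have hQs := isSolvable_pGroup hQ
  have hcop := coprime_of_isPGroup hQ hKr
  have hle : ⁅Q, K⁆ ≤ Q := CfsgLib.Coprime.commutator_le_of_normalizes hKQ
  rcases hle.lt_or_eq with hlt | heq
  · rw [← CfsgLib.Coprime.commutator_commutator_eq K Q hKQ hcop (Or.inr hQs)]
    exact ih _ hlt (hQ.to_le hle) (fun h => hQp (h.trans (card_dvd_of_le hle)))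
      (le_normalizer_commutator hAQ hAK) (CfsgLib.Coprime.le_normalizer_commutator_right Q K)
      fun B hB hi => (hC B hB hi).imp id fun h => h.trans (centralizer_le fun x hx => ⟨hle hx.1, hx.2⟩)
  rw [heq, le_centralizer_iff]
  set V := ⁅Q, Q⁆ with hV
  have hQV : Q ≤ normalizer (V : Set G) := le_normalizer_commutator le_normalizer le_normalizer
  have hKV : K ≤ normalizer (V : Set G) := le_normalizer_commutator hKQ hKQ
  have hCK : Q ⊓ centralizer (K : Set G) ≤ V := by
    refine (img_eq_bot (inf_le_left.trans hQV)).mp (eq_bot_iff.mpr ?_)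
    haveI := isMulCommutative_img_derived hQV
    have hc : (Nat.card (img V K)).Coprime (Nat.card (img V Q)) :=
      (hcop.coprime_dvd_left (card_img_dvd hKV)).coprime_dvd_right (card_img_dvd hQV)
    have h1 : img V (Q ⊓ centralizer (K : Set G)) ≤
        ⁅img V Q, img V K⁆ ⊓ centralizer (img V K : Set (NQ V)) := by
      rw [← img_commutator hQV hKV, heq]
      exact le_inf (img_mono inf_le_left) (le_centralizer_img inf_le_right)
    exact h1.trans (CfsgLib.Coprime.commutator_inf_centralizer_eq_bot (img V K) (img V Q)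
      (le_normalizer_img hKQ) hc).le
  refine le_of_le_sup_commutator hQ ?_
  conv_lhs => rw [← CfsgLib.Coprime39.eq_hyperCent hA hA1
    (CfsgLib.PCore.coprime_of_not_dvd_card hQp) hAQ]
  refine iSup_le fun B => ?_
  rcases hC B.1 B.2.1 B.2.2 with h | h
  · exact le_sup_of_le_right (le_inf inf_le_left (inf_le_right.trans (centralizer_le h)))
  · exact le_sup_of_le_left ((le_inf inf_le_left (le_centralizer_iff.mp h)).trans hCK)

/-- Dual form: `⁅K, D⁆` centralizes `Q`. -/
theorem commutator_le_centralizer_of_planes (hA : Cfsg.IsElementaryAbelian p A) (hA1 : A ≠ ⊥)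
    (hQ : IsPGroup r Q) (hQp : ¬ p ∣ Nat.card Q) (hAQ : A ≤ normalizer (Q : Set G))
    (hAK : A ≤ normalizer (K : Set G)) (hKQ : K ≤ normalizer (Q : Set G))
    (hKr : ¬ r ∣ Nat.card K) (hD : D ≤ A)
    (hC : ∀ B : Subgroup G, B ≤ A → B.relIndex A = p →
      D ≤ B ∨ K ≤ centralizer ((Q ⊓ centralizer (B : Set G) : Subgroup G) : Set G)) :
    ⁅K, D⁆ ≤ centralizer (Q : Set G) := by
  have h := le_centralizer_commutator_of_planes hA hA1 hQ hQp hAQ hAK hKQ hKr hC
  rw [le_centralizer_iff]
  conv_lhs => rw [← CfsgLib.Coprime.commutator_sup_centralizer K Q hKQ (coprime_of_isPGroup hQ hKr)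
    (Or.inr (isSolvable_pGroup hQ))]
  refine sup_le ?_ ?_
  · refine le_centralizer_iff.mp (commutator_le.mpr fun k hk d hd => mem_centralizer_iff.mpr fun x hx => ?_)
    have hk' := CfsgLib.Coprime.le_normalizer_commutator_right Q K hk
    have h1 : ∀ y ∈ ⁅Q, K⁆, d * y * d⁻¹ = y := fun y hy => by
      rw [← mem_centralizer_iff.mp (h hd) y hy, mul_inv_cancel_right]
    have h2 : d⁻¹ * x * d = x := by
      rw [mul_assoc, mem_centralizer_iff.mp (h hd) x hx, ← mul_assoc, inv_mul_cancel, one_mul]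
    have h3 : k⁻¹ * x * k ∈ ⁅Q, K⁆ := by
      simpa using (mem_normalizer_iff.mp (inv_mem hk') x).mp hx
    have e : ⁅k, d⁆ * x * ⁅k, d⁆⁻¹ = k * (d * (k⁻¹ * (d⁻¹ * x * d) * k) * d⁻¹) * k⁻¹ := by
      simp only [commutatorElement_def]; group
    have h4 : ⁅k, d⁆ * x * ⁅k, d⁆⁻¹ = x := by
      rw [e, h2, h1 _ h3]; group
    exact (mul_inv_eq_iff_eq_mul.mp h4).symm
  · refine le_centralizer_iff.mp (commutator_le.mpr fun k hk d hd => mem_centralizer_iff.mpr fun x hx => ?_)
    have hk1 : ∀ y ∈ Q ⊓ centralizer (K : Set G), k * y * k⁻¹ = y := fun y hy => by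
      rw [mem_centralizer_iff.mp hy.2 k hk, mul_inv_cancel_right]
    have hd1 : d⁻¹ * x * d ∈ Q ⊓ centralizer (K : Set G) := by
      have hn : A ≤ normalizer ((Q ⊓ centralizer (K : Set G) : Subgroup G) : Set G) :=
        le_normalizer_inf hAQ (hAK.trans normalizer_le_normalizer_centralizer')
      simpa using (mem_normalizer_iff.mp (inv_mem (hn (hD hd))) x).mp hx
    have h2 : k⁻¹ * x * k = x := by
      have := hk1 x hx
      conv_lhs => rw [← this]
      group
    have e : ⁅k, d⁆ * x * ⁅k, d⁆⁻¹ = k * (d * (k⁻¹ * (d⁻¹ * x * d) * k) * d⁻¹) * k⁻¹ := by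
      simp only [commutatorElement_def]; group
    have h3 : k⁻¹ * (d⁻¹ * x * d) * k = d⁻¹ * x * d := by
      have := hk1 _ hd1
      conv_lhs => rw [← this]
      group
    have h4 : ⁅k, d⁆ * x * ⁅k, d⁆⁻¹ = x := by
      rw [e, h3]
      have h5 : d * (d⁻¹ * x * d) * d⁻¹ = x := by group
      rw [h5, hk1 x hx]
    exact (mul_inv_eq_iff_eq_mul.mp h4).symm

/-- `⁅K, D⁆ ≤ O_{r'}(L)` if `⁅K, C_L(B)⁆` is an `r'`-group for hyperplanes `B` not containing `D`. -/
theorem commutator_le_core' (hA : Cfsg.IsElementaryAbelian p A) (hAL : A ≤ normalizer (L : Set G))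
    (hAK : A ≤ normalizer (K : Set G)) (hA1 : A ≠ ⊥) (hL : ¬ p ∣ Nat.card L)
    (hLs : Group.IsSolvable L) (hK : K ≤ L) (hKr : ¬ r ∣ Nat.card K) (hD : D ≤ A)
    (hC : ∀ B : Subgroup G, B ≤ A → B.relIndex A = p →
      D ≤ B ∨ ¬ r ∣ Nat.card ↥⁅K, L ⊓ centralizer (B : Set G)⁆) :
    ⁅K, D⁆ ≤ core' r L := by
  set O := core' r L with hO
  have hLN : L ≤ normalizer (O : Set G) := le_normalizer_core'
  have hAN : A ≤ normalizer (O : Set G) := hAL.trans normalizer_le_normalizer_core'
  have hKN : K ≤ normalizer (O : Set G) := hK.trans hLN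
  have hAO : A ⊓ O = ⊥ := CfsgLib.PCore.inf_eq_bot_of_isPGroup_coprime (isPGroup_of_elementary hA)
    (CfsgLib.PCore.coprime_of_not_dvd_card fun h => hL (h.trans (card_dvd_of_le core'_le)))
  set A' := img O A
  have hA' : Cfsg.IsElementaryAbelian p A' := by
    refine ⟨⟨⟨fun x y => Subtype.ext ?_⟩⟩, ?_⟩
    · obtain ⟨a, ha, e⟩ := mem_img.mp x.2
      obtain ⟨b, hb, e'⟩ := mem_img.mp y.2
      show (x : NQ O) * y = y * x
      rw [← e, ← e', ← map_mul, ← map_mul]
      exact congrArg _ (Subtype.ext (show (a : G) * b = b * a from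
        congrArg Subtype.val (hA.1.is_comm.comm (⟨_, ha⟩ : A) ⟨_, hb⟩)))
    · intro y hy
      obtain ⟨a, ha, rfl⟩ := mem_img.mp hy
      rw [← map_pow, show a ^ p = 1 from Subtype.ext (by simpa using hA.2 _ ha), map_one]
  have hA'1 : A' ≠ ⊥ := fun h => hA1 (eq_bot_iff.mpr fun a ha =>
    hAO ▸ ⟨ha, (img_eq_bot hAN).mp h ha⟩)
  set Q := core r (img O L)
  have hQL : Q ≤ img O L := core_le
  have hKQn : img O K ≤ normalizer (Q : Set (NQ O)) := (img_mono hK).trans le_normalizer_core
  have hKr' : ¬ r ∣ Nat.card (img O K) := fun h => hKr (h.trans (card_img_dvd hKN))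
  have hcl : ⁅img O K, img O D⁆ ≤ centralizer (Q : Set (NQ O)) := by
    refine commutator_le_centralizer_of_planes hA' hA'1 isPGroup_core
      (fun h => hL ((h.trans (card_dvd_of_le hQL)).trans (card_img_dvd hLN)))
      ((le_normalizer_img hAL).trans normalizer_le_normalizer_core)
      (le_normalizer_img hAK) hKQn hKr' (img_mono hD) fun B' hB' hi => ?_
    set B := A ⊓ pre O B' with hBdef
    have hmap : img O B = B' := by
      refine le_antisymm ((img_mono inf_le_right).trans img_pre.le) fun y hy => ?_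
      obtain ⟨a, ha, rfl⟩ := mem_img.mp (hB' hy)
      exact proj_mem_img (mem_inf.mpr ⟨ha, mem_pre.mpr hy⟩)
    have hBi : B.relIndex A = p := by
      rw [hBdef, inf_relIndex_left, pre, ← map_subtype_subgroupOf hAN,
        relIndex_map_map_of_injective _ _ (subtype_injective _), relIndex_comap]
      exact hi
    rcases hC B inf_le_left hBi with h | h
    · exact Or.inl (hmap ▸ img_mono h)
    · refine Or.inr fun k hk => mem_centralizer_iff.mpr fun z hz => ?_
      have hB2 : img O (L ⊓ centralizer (B : Set G)) = img O L ⊓ centralizer (B' : Set (NQ O)) := by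
        rw [img_inf_centralizer hLN (inf_le_left.trans hAN) (inf_le_left.trans hAL)
          (coprime_of_isPGroup ((isPGroup_of_elementary hA).to_le inf_le_left) hL).symm
          (Or.inr hLs), hmap]
      have hz2 : z ∈ img O (L ⊓ centralizer (B : Set G)) := hB2 ▸ ⟨hQL hz.1, hz.2⟩
      have h1 : ⁅k, z⁆ ∈ Q := by
        rw [commutatorElement_def]
        exact mul_mem (CfsgLib.Coprime.mem_normalizer_conj (hKQn hk) hz.1) (inv_mem hz.1)
      have h2 : ⁅k, z⁆ ∈ img O ⁅K, L ⊓ centralizer (B : Set G)⁆ := by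
        rw [img_commutator hKN (inf_le_left.trans hLN)]
        exact commutator_mem_commutator hk hz2
      have hd2 : ¬ r ∣ Nat.card (img O ⁅K, L ⊓ centralizer (B : Set G)⁆) := fun h' =>
        h (h'.trans (card_img_dvd ((commutator_mono hK inf_le_left).trans
          ((commutator_le_self L).trans hLN))))
      have h3 : ⁅k, z⁆ ∈ Q ⊓ img O ⁅K, L ⊓ centralizer (B : Set G)⁆ := ⟨h1, h2⟩
      rw [CfsgLib.PCore.inf_eq_bot_of_isPGroup_coprime isPGroup_core
        (CfsgLib.PCore.coprime_of_not_dvd_card hd2), mem_bot] at h3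
      exact (commutatorElement_eq_one_iff_mul_comm.mp h3).symm
  have hKD : ⁅K, D⁆ ≤ K := CfsgLib.Coprime.commutator_le_of_normalizes (hD.trans hAK)
  refine le_core'_of_img (hKD.trans hK) (CfsgLib.PCore.eq_bot_of_isPGroup_coprime (isPGroup_core.to_le
    ((le_inf (img_mono (hKD.trans hK)) ((img_commutator hKN (hD.trans hAN)).le.trans hcl)).trans
      (inf_centralizer_core_le' (isSolvable_img hLs) core'_img_eq_bot)))
    (CfsgLib.PCore.coprime_of_not_dvd_card fun h => hKr' (h.trans (card_dvd_of_le (img_mono hKD)))))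

omit hp in
/-- In a solvable group, an `r'`-subgroup normalized by `N(P)`, `P` an `r`-subgroup it normalizes,
lies in the `r'`-core. -/
theorem le_core'_of_normalizer_le (hLs : Group.IsSolvable L) (hP : IsPGroup r P) (hPL : P ≤ L)
    (hU : U ≤ L) (hUr : ¬ r ∣ Nat.card U) (hUP : U ≤ normalizer (P : Set G))
    (hn : L ⊓ normalizer (P : Set G) ≤ normalizer (U : Set G)) : U ≤ core' r L := by
  set O := core' r L with hO
  have hLN : L ≤ normalizer (O : Set G) := le_normalizer_core'
  have hPU : P ≤ normalizer (U : Set G) := (le_inf hPL le_normalizer).trans hn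
  have hcop := coprime_of_isPGroup hP hUr
  have hPUc : P ≤ centralizer (U : Set G) := by
    refine commutator_eq_bot_iff_le_centralizer.mp (eq_bot_iff.mpr ?_)
    rw [← inf_eq_bot_of_coprime hcop.symm]
    exact le_inf (CfsgLib.Coprime.commutator_le_of_normalizes hUP)
      (commutator_comm P U ▸ CfsgLib.Coprime.commutator_le_of_normalizes hPU)
  set Q := core r (img O L)
  have hQL : Q ≤ img O L := core_le
  have hPN : P ≤ normalizer (O : Set G) := hPL.trans hLN
  have hcent : Q ⊓ centralizer (img O P : Set (NQ O)) ≤ centralizer (img O U : Set (NQ O)) := by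
    rintro z ⟨hzQ, hzc⟩
    obtain ⟨x, hx, rfl⟩ := mem_img.mp (hQL hzQ)
    -- the conjugate of `P` by `x` lies in `P ⊔ O`
    have hU' : MulAut.conj (x : G) • P ≤ P ⊔ O := by
      refine CfsgLib.Coprime.conj_smul_le.mpr fun a ha => ?_
      have h1 := mem_centralizer_iff.mp hzc _ (proj_mem_img (x := ⟨a, hPN ha⟩) ha)
      have h2 : ((⟨a, hPN ha⟩⁻¹ * (x * ⟨a, hPN ha⟩ * x⁻¹) : ↥(normalizer (O : Set G))) : G) ∈ O :=
        proj_eq_one.mp (by
          rw [map_mul, map_mul, map_mul, map_inv, map_inv, ← h1, mul_inv_cancel_right, inv_mul_cancel])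
      have h3 := mul_mem_sup ha h2
      simpa [mul_assoc] using h3
    obtain ⟨o, ho, hle⟩ := CfsgLib.Coprime.exists_conj_le_of_coprime P O hPN
      (coprime_of_isPGroup hP not_dvd_core').symm (MulAut.conj (x : G) • P) hU'
      (by rw [CfsgLib.Coprime.card_conj_smul]; exact (coprime_of_isPGroup hP not_dvd_core').symm)
      (Or.inl (by
        have e := equivSMul (MulAut.conj (x : G)) P
        exact @Group.isSolvable_of_surjective _ _ _ _ e.toMonoidHom e.surjective (isSolvable_pGroup hP)))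
    rw [← mul_smul, ← map_mul] at hle
    set y : ↥(normalizer (O : Set G)) := ⟨o, le_normalizer ho⟩ * x
    have hy : (y : G) ∈ L ⊓ normalizer (P : Set G) := by
      refine ⟨L.mul_mem (core'_le ho) hx, CfsgLib.Coprime.mem_normalizer_of_forall_conj fun a ha => ?_⟩
      exact CfsgLib.Coprime.conj_smul_le.mp hle a ha
    have hxy : proj O x = proj O y := by
      rw [map_mul, proj_eq_one.mpr (show ((⟨o, le_normalizer ho⟩ : ↥(normalizer (O : Set G))) : G) ∈ O
        from ho), one_mul]
    rw [hxy] at hzQ ⊢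
    refine mem_centralizer_iff.mpr fun w hw => ?_
    obtain ⟨u, hu, rfl⟩ := mem_img.mp hw
    have h5 : ⁅proj O u, proj O y⁆ ∈ Q := by
      rw [commutatorElement_def]
      refine mul_mem (CfsgLib.Coprime.mem_normalizer_conj ?_ hzQ) (inv_mem hzQ)
      exact le_normalizer_core (proj_mem_img (hU hu))
    have h6 : ⁅proj O u, proj O y⁆ ∈ img O U := by
      rw [← map_commutatorElement]
      refine proj_mem_img ?_
      simp only [commutatorElement_def, coe_mul, coe_inv, mul_assoc]
      refine U.mul_mem hu ?_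
      rw [← mul_assoc]
      exact CfsgLib.Coprime.mem_normalizer_conj (hn hy) (U.inv_mem hu)
    have h7 : ⁅proj O u, proj O y⁆ ∈ Q ⊓ img O U := ⟨h5, h6⟩
    rw [CfsgLib.PCore.inf_eq_bot_of_isPGroup_coprime isPGroup_core
      (CfsgLib.PCore.coprime_of_not_dvd_card fun h => hUr (h.trans (card_img_dvd (hU.trans hLN)))),
      mem_bot] at h7
    exact commutatorElement_eq_one_iff_mul_comm.mp h7
  have hUQ : img O U ≤ centralizer (Q : Set (NQ O)) :=
    CfsgLib.Coprime.pq_lemma r (img O P) (img O U) (isPGroup_img hP)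
      (CfsgLib.PCore.coprime_of_not_dvd_card fun h => hUr (h.trans (card_img_dvd (hU.trans hLN))))
      (le_centralizer_img hPUc) Q isPGroup_core
      ((img_mono hPL).trans le_normalizer_core) ((img_mono hU).trans le_normalizer_core) hcent
  exact le_core'_of_img hU (CfsgLib.PCore.eq_bot_of_isPGroup_coprime
    (isPGroup_core.to_le ((le_inf (img_mono hU) hUQ).trans
      (inf_centralizer_core_le' (isSolvable_img hLs) core'_img_eq_bot)))
    (CfsgLib.PCore.coprime_of_not_dvd_card fun h => hUr (h.trans (card_img_dvd (hU.trans hLN)))))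

end CfsgLib.Signalizer74
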