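import Cfsg.Agent.Lib.Coprime.Commutator
import Cfsg.Agent.Lib.Coprime.Action
import Cfsg.Agent.Lib.PCore.Basic
import Cfsg.Prelude.Def_Transfer

/-!
# Sections: images in `N(O) / O`
-/

set_option autoImplicit false
set_option linter.style.haveILetI false

namespace CfsgLib.Signalizer74

open Subgroup
open scoped Pointwise commutatorElement

variable {G : Type*} [Group G]

/-- The group `N(O) / O`. -/
abbrev NQ (O : Subgroup G) : Type _ :=
  ↥(normalizer (O : Set G)) ⧸ O.subgroupOf (normalizer (O : Set G))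

/-- The projection onto `N(O) / O`. -/
abbrev proj (O : Subgroup G) : ↥(normalizer (O : Set G)) →* NQ O :=
  QuotientGroup.mk' (O.subgroupOf (normalizer (O : Set G)))

/-- The image of `H ∩ N(O)` in `N(O) / O`. -/
def img (O H : Subgroup G) : Subgroup (NQ O) :=
  (H.subgroupOf (normalizer (O : Set G))).map (proj O)

/-- The preimage in `G` of a subgroup of `N(O) / O`. -/
def pre (O : Subgroup G) (W : Subgroup (NQ O)) : Subgroup G :=
  (W.comap (proj O)).map (normalizer (O : Set G)).subtype

variable {O H K S B : Subgroup G}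

theorem proj_surjective (O : Subgroup G) : Function.Surjective (proj O) :=
  QuotientGroup.mk'_surjective _

theorem proj_eq_one {x : ↥(normalizer (O : Set G))} : proj O x = 1 ↔ (x : G) ∈ O := by
  rw [QuotientGroup.mk'_apply, QuotientGroup.eq_one_iff, mem_subgroupOf]

theorem proj_mem_img {x : ↥(normalizer (O : Set G))} (hx : (x : G) ∈ H) : proj O x ∈ img O H :=
  mem_map_of_mem _ (mem_subgroupOf.mpr hx)

theorem mem_img {y : NQ O} : y ∈ img O H ↔
    ∃ x : ↥(normalizer (O : Set G)), (x : G) ∈ H ∧ proj O x = y :=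
  ⟨fun ⟨x, hx, e⟩ => ⟨x, hx, e⟩, fun ⟨x, hx, e⟩ => ⟨x, hx, e⟩⟩

theorem img_mono (h : H ≤ K) : img O H ≤ img O K :=
  map_mono fun _ hx => mem_subgroupOf.mpr (h (mem_subgroupOf.mp hx))


theorem img_self (O : Subgroup G) : img O O = ⊥ := by
  rw [eq_bot_iff]
  rintro y hy
  obtain ⟨x, hx, rfl⟩ := mem_img.mp hy
  exact mem_bot.mpr (proj_eq_one.mpr hx)

theorem img_eq_bot (hH : H ≤ normalizer (O : Set G)) : img O H = ⊥ ↔ H ≤ O := by
  refine ⟨fun h x hx => ?_, fun h => eq_bot_iff.mpr ((img_mono h).trans (img_self O).le)⟩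
  exact proj_eq_one.mp (mem_bot.mp (h ▸ proj_mem_img (x := ⟨x, hH hx⟩) hx))

theorem card_img_dvd (hH : H ≤ normalizer (O : Set G)) : Nat.card (img O H) ∣ Nat.card H :=
  (card_map_dvd _ _).trans (Nat.card_congr (subgroupOfEquivOfLe hH).toEquiv).dvd

theorem card_img_lt [Finite G] (hH : H ≤ normalizer (O : Set G)) (hne : H ⊓ O ≠ ⊥) :
    Nat.card (img O H) < Nat.card H := by
  obtain ⟨⟨x, hxH, hxO⟩, hx⟩ := (ne_bot_iff_exists_ne_one).mp hne
  refine lt_of_le_of_ne (Nat.le_of_dvd Nat.card_pos (card_img_dvd hH)) fun h => hx ?_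
  rw [← Nat.card_congr (subgroupOfEquivOfLe hH).toEquiv] at h
  have hinj := ((Nat.bijective_iff_surjective_and_card
    (fun z : H.subgroupOf (normalizer (O : Set G)) => (⟨proj O z, mem_map_of_mem _ z.2⟩ : img O H))).mpr
    ⟨fun y => by
      obtain ⟨z, hz, e⟩ := y.2
      exact ⟨⟨z, hz⟩, Subtype.ext e⟩, h.symm⟩).1
  have e := @hinj ⟨⟨x, hH hxH⟩, hxH⟩ 1 (Subtype.ext (by
    show proj O ⟨x, hH hxH⟩ = proj O 1
    rw [map_one, proj_eq_one]; exact hxO))
  exact Subtype.ext (congrArg (Subtype.val ∘ Subtype.val) e)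

theorem isPGroup_img {r : ℕ} (hH : IsPGroup r H) : IsPGroup r (img O H) := by
  refine (hH.comap_of_injective _ (subtype_injective _)).map _

theorem isSolvable_img (hH : Group.IsSolvable H) : Group.IsSolvable (img O H) := by
  haveI : Group.IsSolvable (H.subgroupOf (normalizer (O : Set G))) :=
    @Group.isSolvable_of_isSolvable_injective _ _ _ _
      (((normalizer (O : Set G)).subtype.comp (H.subgroupOf _).subtype).codRestrict H fun x => x.2)
      (fun x y h => Subtype.ext (Subtype.ext (congrArg (fun z : H => (z : G)) h))) hH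
  exact Group.isSolvable_of_surjective ((proj O).subgroupMap_surjective _)

theorem le_normalizer_img (hS : S ≤ normalizer (H : Set G)) :
    img O S ≤ normalizer (img O H : Set (NQ O)) := by
  refine (map_mono (fun x hx => ?_)).trans (le_normalizer_map (proj O))
  exact (mem_normalizer_iff.mpr fun y => by
    simp only [mem_subgroupOf, coe_mul, coe_inv]
    exact mem_normalizer_iff.mp (hS hx) _)

theorem le_centralizer_img (hS : S ≤ centralizer (H : Set G)) :
    img O S ≤ centralizer (img O H : Set (NQ O)) := by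
  intro y hy
  obtain ⟨x, hx, rfl⟩ := mem_img.mp hy
  refine mem_centralizer_iff.mpr fun z hz => ?_
  obtain ⟨w, hw, rfl⟩ := mem_img.mp hz
  rw [← map_mul, ← map_mul]
  exact congrArg _ (Subtype.ext (mem_centralizer_iff.mp (hS hx) w hw))

theorem map_subtype_subgroupOf (hH : H ≤ S) : (H.subgroupOf S).map S.subtype = H :=
  map_subgroupOf_eq_of_le hH

theorem img_commutator (hH : H ≤ normalizer (O : Set G)) (hK : K ≤ normalizer (O : Set G)) :
    img O ⁅H, K⁆ = ⁅img O H, img O K⁆ := by
  rw [img, img, img, ← map_commutator]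
  congr 1
  apply map_injective (subtype_injective (normalizer (O : Set G)))
  rw [map_commutator, map_subtype_subgroupOf hH, map_subtype_subgroupOf hK,
    map_subtype_subgroupOf (commutator_le.mpr fun a ha b hb => ?_)]
  rw [commutatorElement_def]
  exact mul_mem (mul_mem (mul_mem (hH ha) (hK hb)) (inv_mem (hH ha))) (inv_mem (hK hb))

/-- Centralizers of coprime operators pass to the section. -/
theorem img_inf_centralizer [Finite G] (hH : H ≤ normalizer (O : Set G))
    (hB : B ≤ normalizer (O : Set G)) (hBH : B ≤ normalizer (H : Set G))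
    (hcop : (Nat.card B).Coprime (Nat.card H))
    (hsolv : Group.IsSolvable B ∨ Group.IsSolvable H) :
    img O (H ⊓ centralizer (B : Set G)) = img O H ⊓ centralizer (img O B : Set (NQ O)) := by
  set N := normalizer (O : Set G)
  rw [img, img, img, ← CfsgLib.Coprime.map_inf_centralizer (proj O) (B.subgroupOf N) (H.subgroupOf N)]
  · congr 1
    ext x
    simp only [mem_subgroupOf, mem_inf, mem_centralizer_iff, SetLike.mem_coe]
    refine and_congr_right fun _ => ⟨fun h b hb => Subtype.ext (h b hb), fun h b hb => ?_⟩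
    exact congrArg Subtype.val (h ⟨b, hB hb⟩ hb)
  · exact fun x hx => mem_normalizer_iff.mpr fun y => by
      simp only [mem_subgroupOf, coe_mul, coe_inv]
      exact mem_normalizer_iff.mp (hBH hx) _
  · rw [Nat.card_congr (subgroupOfEquivOfLe hB).toEquiv, Nat.card_congr (subgroupOfEquivOfLe hH).toEquiv]
    exact hcop
  · exact hsolv.imp
      (fun h => @Group.isSolvable_of_isSolvable_injective _ _ _ _
        (subgroupOfEquivOfLe hB).toMonoidHom (subgroupOfEquivOfLe hB).injective h)
      (fun h => @Group.isSolvable_of_isSolvable_injective _ _ _ _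
        (subgroupOfEquivOfLe hH).toMonoidHom (subgroupOfEquivOfLe hH).injective h)

variable {W : Subgroup (NQ O)}

theorem pre_le : pre O W ≤ normalizer (O : Set G) := map_subtype_le _

theorem le_pre : O ≤ pre O W := fun x hx =>
  ⟨⟨x, le_normalizer hx⟩, mem_comap.mpr (by rw [proj_eq_one.mpr (by exact hx)]; exact one_mem _), rfl⟩

theorem mem_pre {x : ↥(normalizer (O : Set G))} : (x : G) ∈ pre O W ↔ proj O x ∈ W :=
  ⟨fun ⟨y, hy, e⟩ => by rw [← Subtype.ext e]; exact hy, fun h => ⟨x, h, rfl⟩⟩

theorem img_pre : img O (pre O W) = W := by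
  ext y
  obtain ⟨x, rfl⟩ := proj_surjective O y
  refine ⟨fun h => ?_, fun h => proj_mem_img (mem_pre.mpr h)⟩
  obtain ⟨z, hz, e⟩ := mem_img.mp h
  rw [← e]
  exact mem_pre.mp hz

theorem le_pre_of_img_le (hH : H ≤ normalizer (O : Set G)) (h : img O H ≤ W) : H ≤ pre O W :=
  fun x hx => (mem_pre (x := ⟨x, hH hx⟩)).mpr (h (proj_mem_img hx))

theorem card_pre [Finite G] : Nat.card (pre O W) = Nat.card O * Nat.card W := by
  rw [pre, card_map_of_injective (subtype_injective _), CfsgLib.PCore.card_comap_mk',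
    Nat.card_congr (subgroupOfEquivOfLe (le_normalizer (H := O))).toEquiv]

theorem le_normalizer_pre (hS : S ≤ normalizer (O : Set G))
    (h : img O S ≤ normalizer (W : Set (NQ O))) : S ≤ normalizer (pre O W : Set G) := by
  intro s hs
  refine mem_normalizer_iff.mpr fun y => ?_
  have key : ∀ t : G, t ∈ S → ∀ z ∈ pre O W, t * z * t⁻¹ ∈ pre O W := by
    intro t ht z hz
    have h1 := (mem_pre (x := (⟨z, pre_le hz⟩ : ↥(normalizer (O : Set G))))).mp hz
    have h2 := (mem_normalizer_iff.mp (h (proj_mem_img (x := ⟨t, hS ht⟩) ht)) _).mp h1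
    rw [← map_inv, ← map_mul, ← map_mul] at h2
    exact mem_pre.mpr h2
  refine ⟨key s hs y, fun hy => ?_⟩
  have := key s⁻¹ (inv_mem hs) _ hy
  rwa [inv_inv, mul_assoc, mul_assoc, inv_mul_cancel, mul_one, inv_mul_cancel_left] at this

theorem isSolvable_pre [Finite G] (hO : Group.IsSolvable O) (hW : Group.IsSolvable W) :
    Group.IsSolvable (pre O W) := by
  let f : ↥(W.comap (proj O)) →* W :=
    ((proj O).comp (W.comap (proj O)).subtype).codRestrict W fun x => x.2
  haveI : Group.IsSolvable (W.comap (proj O)) :=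
    Group.isSolvable_of_ker_le_range
      ((inclusion (le_normalizer (H := O))).codRestrict (W.comap (proj O)) fun x =>
        mem_comap.mpr (by rw [proj_eq_one.mpr x.2]; exact one_mem _))
      f (by
        intro x hx
        have hx' : proj O (x : ↥(normalizer (O : Set G))) = 1 := congrArg Subtype.val hx
        exact ⟨⟨_, proj_eq_one.mp hx'⟩, Subtype.ext (Subtype.ext rfl)⟩)
  exact Group.isSolvable_of_surjective ((normalizer (O : Set G)).subtype.subgroupMap_surjective _)

end CfsgLib.Signalizer74
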