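import Cfsg.Agent.Lib.Signalizer74.Planes
import Cfsg.Agent.Lib.Signalizer.Transitivity
import Cfsg.Agent.S3745

/-!
# A minimal incomplete solvable signalizer functor
-/

set_option autoImplicit false
set_option linter.style.haveILetI false
set_option linter.unusedSectionVars false

namespace CfsgLib.Signalizer74

open Subgroup CfsgLib.Signalizer
open scoped Pointwise commutatorElement

variable {G : Type*} [Group G] [Finite G] {p q : ℕ} [hp : Fact p.Prime] {A : Subgroup G}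
  {θ : G → Subgroup G}

/-- A member of the family contains every value of the functor. -/
def Complete (p : ℕ) (A : Subgroup G) (θ : G → Subgroup G) : Prop :=
  ∃ W ∈ Cfsg.signalizerFamily p A θ, ∀ a ∈ A, a ≠ 1 → θ a ≤ W

/-- The properties of an incomplete functor of minimal weight. -/
structure Minimal (p : ℕ) (A : Subgroup G) (θ : G → Subgroup G) : Prop where
  elem : Cfsg.IsElementaryAbelian p A
  card : Nat.card A = p ^ 3
  sig : Cfsg.IsSolvableSignalizerFunctor p A θ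
  notComplete : ¬ Complete p A θ
  sub : ∀ θ' : G → Subgroup G, Cfsg.IsSolvableSignalizerFunctor p A θ' →
    (∀ a ∈ A, a ≠ 1 → θ' a ≤ θ a) → (∃ a ∈ A, a ≠ 1 ∧ θ' a ≠ θ a) → Complete p A θ'
  normalized : ∀ X ∈ Cfsg.signalizerFamily p A θ, X ≠ ⊥ →
    ∃ a ∈ A, a ≠ 1 ∧ ¬ θ a ≤ normalizer (X : Set G)

/-- The primes of the functor. -/
def primes (A : Subgroup G) (θ : G → Subgroup G) : Set ℕ :=
  {r | r.Prime ∧ ∃ a ∈ A, a ≠ 1 ∧ r ∣ Nat.card (θ a)}

variable {X Y S W : Subgroup G}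

theorem member_normalized (hX : X ∈ Cfsg.signalizerFamily p A θ) : A ≤ normalizer (X : Set G) :=
  le_normalizer_of_conj hX.2.2.1

theorem member_not_dvd (hX : X ∈ Cfsg.signalizerFamily p A θ) : ¬ p ∣ Nat.card X := hX.2.1

theorem member_solvable (hX : X ∈ Cfsg.signalizerFamily p A θ) : Group.IsSolvable X := hX.1

theorem member_inf (hX : X ∈ Cfsg.signalizerFamily p A θ) (hS : A ≤ normalizer (S : Set G)) :
    X ⊓ S ∈ Cfsg.signalizerFamily p A θ :=
  mem_family_of_le hX inf_le_left (CfsgLib.Signalizer74.le_normalizer_inf (member_normalized hX) hS)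

/-- A `p'`-subgroup with operators `A` is inside `W` when its fixed parts are. -/
theorem le_of_inf_centralizer_le (hA : Cfsg.IsElementaryAbelian p A) (hA3 : p ^ 3 ≤ Nat.card A)
    (hY : ¬ p ∣ Nat.card Y) (hAY : A ≤ normalizer (Y : Set G))
    (h : ∀ a ∈ A, a ≠ 1 → Y ⊓ centralizer {a} ≤ W) : Y ≤ W := by
  have hA1 : A ≠ ⊥ := ne_bot_of_pow_le hA3 (by norm_num)
  rw [← CfsgLib.Coprime39.eq_hyperCent hA hA1 (CfsgLib.PCore.coprime_of_not_dvd_card hY) hAY]
  refine iSup_le fun B => ?_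
  obtain ⟨⟨a, ha⟩, hne⟩ := (ne_bot_iff_exists_ne_one).mp (show (B : Subgroup G) ≠ ⊥ by
    intro hB
    have h1 := B.2.2
    rw [hB, relIndex_bot_left] at h1
    have h3 := hp.out.two_le
    rw [h1] at hA3
    have h4 : 4 ≤ p * p := Nat.mul_le_mul h3 h3
    have h5 : p ^ 3 = p * p * p := by ring
    nlinarith)
  exact (inf_le_inf_left _ (centralizer_le (Set.singleton_subset_iff.mpr ha))).trans
    (h a (B.2.1 ha) fun e => hne (Subtype.ext e))

theorem member_le (hA : Cfsg.IsElementaryAbelian p A) (hA3 : p ^ 3 ≤ Nat.card A)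
    (hY : Y ∈ Cfsg.signalizerFamily p A θ) (h : ∀ a ∈ A, a ≠ 1 → Y ⊓ centralizer {a} ≤ W) :
    Y ≤ W :=
  le_of_inf_centralizer_le hA hA3 hY.2.1 (member_normalized hY) h

/-- A member whose fixed parts have orders prime to `r` has order prime to `r`. -/
theorem not_dvd_member (hA : Cfsg.IsElementaryAbelian p A) (hA3 : p ^ 3 ≤ Nat.card A) {r : ℕ}
    [Fact r.Prime] (hY : Y ∈ Cfsg.signalizerFamily p A θ)
    (h : ∀ a ∈ A, a ≠ 1 → ¬ r ∣ Nat.card ↥(Y ⊓ centralizer {a})) : ¬ r ∣ Nat.card Y := by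
  intro hr
  obtain ⟨P, hP⟩ := CfsgLib.Coprime.exists_invariant_sylow A Y (member_normalized hY)
    (coprime_card_of_isPGroup (isPGroup_of_elemAb hA) hY.2.1) (Or.inr hY.1) r
  have hbot : (P : Subgroup Y).map Y.subtype = ⊥ := eq_bot_iff.mpr
    (member_le hA hA3 (mem_family_of_le hY (map_subtype_le _) hP) fun a ha ha1 => by
      intro x hx
      have h1 : IsPGroup r ↥((P : Subgroup Y).map Y.subtype ⊓ centralizer {a}) :=
        (P.isPGroup'.map _).to_le inf_le_left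
      have h2 : (P : Subgroup Y).map Y.subtype ⊓ centralizer {a} = ⊥ := by
        refine CfsgLib.PCore.eq_bot_of_isPGroup_coprime h1 (CfsgLib.PCore.coprime_of_not_dvd_card
          fun hd => h a ha ha1 (hd.trans (card_dvd_of_le (inf_le_inf_right _ (map_subtype_le _)))))
      rwa [h2] at hx)
  rw [map_eq_bot_iff_of_injective _ Y.subtype_injective] at hbot
  exact P.ne_bot_of_dvd_card hr hbot

theorem prime_mem_primes (hA : Cfsg.IsElementaryAbelian p A) (hA3 : p ^ 3 ≤ Nat.card A) {r : ℕ}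
    (hr : r.Prime) (hY : Y ∈ Cfsg.signalizerFamily p A θ) (hd : r ∣ Nat.card Y) :
    r ∈ primes A θ := by
  haveI := Fact.mk hr
  by_contra hn
  exact not_dvd_member hA hA3 hY
    (fun a ha ha1 h => hn ⟨hr, a, ha, ha1, h.trans (card_dvd_of_le (hY.2.2.2 a ha ha1))⟩) hd

namespace Minimal

variable (h : Minimal p A θ)
include h

theorem pow_le : p ^ 3 ≤ Nat.card A := h.card.ge

theorem ne_bot : A ≠ ⊥ := ne_bot_of_pow_le h.pow_le (by norm_num)

theorem coprime (hX : X ∈ Cfsg.signalizerFamily p A θ) : (Nat.card A).Coprime (Nat.card X) :=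
  coprime_card_of_isPGroup (isPGroup_of_elemAb h.elem) hX.2.1

/-- The values at `A`. -/
theorem theta_member {a : G} (ha : a ∈ A) (ha1 : a ≠ 1) : θ a ∈ Cfsg.signalizerFamily p A θ :=
  mem_family_theta h.sig ha ha1

theorem inf_member : Cfsg.signalizerInf A θ ∈ Cfsg.signalizerFamily p A θ := by
  obtain ⟨⟨a, ha⟩, hne⟩ := (ne_bot_iff_exists_ne_one).mp h.ne_bot
  exact mem_family_of_le (h.theta_member ha fun e => hne (Subtype.ext e))
    (signalizerInf_le ha fun e => hne (Subtype.ext e))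
    ((le_iInf fun x : {x : G // x ∈ A ∧ x ≠ 1} =>
      member_normalized (h.theta_member x.2.1 x.2.2)).trans (iInf_normalizer_le_normalizer_iInf _))

theorem inf_le_centralizer : Cfsg.signalizerInf A θ ≤ centralizer (A : Set G) :=
  signalizerInf_le_centralizer h.sig

theorem inf_le_normalizer_centralizer {B : Set G} (hB : B ⊆ A) :
    Cfsg.signalizerInf A θ ≤ normalizer ((centralizer B : Subgroup G) : Set G) :=
  (h.inf_le_centralizer.trans (centralizer_le hB)).trans le_normalizer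

/-- Members normalizing a nontrivial member lie in one member. -/
theorem exists_normalizer_completion (hX : X ∈ Cfsg.signalizerFamily p A θ) (hX1 : X ≠ ⊥) :
    ∃ W ∈ Cfsg.signalizerFamily p A θ, ∀ Y ∈ Cfsg.signalizerFamily p A θ,
      Y ≤ normalizer (X : Set G) → Y ≤ W := by
  set θ' := fun a => θ a ⊓ normalizer (X : Set G) with hθ'
  have hAN : A ≤ normalizer ((normalizer (X : Set G) : Subgroup G) : Set G) :=
    (member_normalized hX).trans le_normalizer
  have hmem : ∀ a ∈ A, a ≠ 1 → θ' a ∈ Cfsg.signalizerFamily p A θ := fun a ha ha1 =>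
    member_inf (h.theta_member ha ha1) hAN
  have hsig : Cfsg.IsSolvableSignalizerFunctor p A θ' :=
    ⟨⟨fun a ha ha1 => inf_le_left.trans (h.sig.1.1 a ha ha1), fun a ha ha1 => (hmem a ha ha1).2.1,
      fun a ha ha1 => (hmem a ha ha1).2.2.1, fun a ha ha1 b hb hb1 =>
      le_inf ((inf_le_inf_right _ inf_le_left).trans (h.sig.1.2.2.2 a ha ha1 b hb hb1))
        (inf_le_left.trans inf_le_right)⟩, fun a ha ha1 => (hmem a ha ha1).1⟩
  obtain ⟨a, ha, ha1, hna⟩ := h.normalized X hX hX1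
  obtain ⟨W, hW, hle⟩ := h.sub θ' hsig (fun a _ _ => inf_le_left)
    ⟨a, ha, ha1, fun e => hna (e ▸ inf_le_right)⟩
  refine ⟨W, ⟨hW.1, hW.2.1, hW.2.2.1, fun b hb hb1 => (hW.2.2.2 b hb hb1).trans inf_le_left⟩,
    fun Y hY hYN => member_le h.elem h.pow_le hY fun b hb hb1 => ?_⟩
  exact (le_inf (hY.2.2.2 b hb hb1) (inf_le_left.trans hYN)).trans (hle b hb hb1)

omit h in
/-- `U` is the largest `σ`-member invariant under the signalizer intersection. -/
def IsTop (p : ℕ) (σ : Set ℕ) (A : Subgroup G) (θ : G → Subgroup G) (U : Subgroup G) : Prop :=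
  U ∈ Cfsg.signalizerFamily p A θ ∧ Cfsg.signalizerInf A θ ≤ normalizer (U : Set G) ∧
    (∀ r : ℕ, r.Prime → r ∣ Nat.card U → r ∈ σ) ∧
    ∀ Y ∈ Cfsg.signalizerFamily p A θ, Cfsg.signalizerInf A θ ≤ normalizer (Y : Set G) →
      (∀ r : ℕ, r.Prime → r ∣ Nat.card Y → r ∈ σ) → Y ≤ U

theorem exists_top {σ : Set ℕ} {x : ℕ} (hx : x ∈ primes A θ) (hxσ : x ∉ σ) :
    ∃ U, IsTop p σ A θ U := by
  set T := Cfsg.signalizerInf A θ with hTdef
  -- the largest invariant `σ`-subgroup of `θ a`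
  let ψ : G → Subgroup G := fun a => sSup {Y : Subgroup G | Y ≤ θ a ∧ A ≤ normalizer (Y : Set G) ∧
    T ≤ normalizer (Y : Set G) ∧ ∀ r : ℕ, r.Prime → r ∣ Nat.card Y → r ∈ σ}
  have hψ : ∀ a ∈ A, a ≠ 1 → ψ a ≤ θ a ∧ A ≤ normalizer (ψ a : Set G) ∧
      T ≤ normalizer (ψ a : Set G) ∧ ∀ r : ℕ, r.Prime → r ∣ Nat.card (ψ a) → r ∈ σ := by
    intro a ha ha1
    have hm := h.theta_member ha ha1
    obtain ⟨⟨H, hH, hAH⟩, hconj, hdom⟩ := Cfsg.Agent.S3745.result A (θ a) (member_normalized hm)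
      (h.coprime hm) hm.1 σ
    set D : Subgroup G := ⨅ t : T, H.map (MulAut.conj (t : G)).toMonoidHom with hD
    have hDH : D ≤ H := (iInf_le _ (1 : T)).trans
      (le_of_eq (by rw [OneMemClass.coe_one]; exact conj_map_one H))
    have hAD : A ≤ normalizer (D : Set G) := by
      refine le_normalizer_of_conj fun b hb z hz => mem_iInf.mpr fun t => ?_
      obtain ⟨w, hw, e⟩ := mem_iInf.mp hz t
      refine ⟨b * w * b⁻¹, CfsgLib.Coprime.mem_normalizer_conj (hAH hb) hw, ?_⟩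
      have hc : Commute b (t : G) := mem_centralizer_iff.mp (h.inf_le_centralizer t.2) b hb
      rw [← e]
      simp only [MulEquiv.coe_toMonoidHom, MulAut.conj_apply]
      calc (t : G) * (b * w * b⁻¹) * (t : G)⁻¹ = (t * b) * w * (b⁻¹ * (t : G)⁻¹) := by group
        _ = (b * t) * w * ((t : G)⁻¹ * b⁻¹) := by rw [hc.eq, hc.symm.inv_inv.eq]
        _ = b * (t * w * (t : G)⁻¹) * b⁻¹ := by group
    have hTD : T ≤ normalizer (D : Set G) := by
      refine le_normalizer_of_conj fun s hs z hz => mem_iInf.mpr fun t => ?_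
      obtain ⟨w, hw, e⟩ := mem_iInf.mp hz ⟨s⁻¹ * t, mul_mem (inv_mem hs) t.2⟩
      refine ⟨w, hw, ?_⟩
      rw [← e]
      simp [mul_assoc]
    have hDσ : ∀ r : ℕ, r.Prime → r ∣ Nat.card D → r ∈ σ := fun r hr hd =>
      hH.2.1 r hr (hd.trans (card_dvd_of_le hDH))
    have heq : ψ a = D := by
      refine le_antisymm (sSup_le fun Y hY => ?_) (le_sSup ⟨hDH.trans hH.1, hAD, hTD, hDσ⟩)
      obtain ⟨hYθ, hAY, hTY, hYσ⟩ := hY
      obtain ⟨H₂, hH₂, hAH₂, hYH₂⟩ := hdom Y hYθ hAY hYσ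
      obtain ⟨c, hc, rfl⟩ := hconj H H₂ hH hAH hH₂ hAH₂
      have hcT : c ∈ T := member_inf_centralizer_le hm hc
      refine le_iInf fun t z hz => ?_
      have h1 : c * ((t : G)⁻¹ * z * t) * c⁻¹ ∈ Y :=
        CfsgLib.Coprime.mem_normalizer_conj (hTY hcT)
          (CfsgLib.Coprime.mem_normalizer_conj' (hTY t.2) hz)
      obtain ⟨w, hw, e⟩ := hYH₂ h1
      refine ⟨w, hw, ?_⟩
      have e' : w = (t : G)⁻¹ * z * t := by simpa using e
      rw [e']
      simp [mul_assoc]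
    rw [heq]
    exact ⟨hDH.trans hH.1, hAD, hTD, hDσ⟩
  have hmem : ∀ a ∈ A, a ≠ 1 → ψ a ∈ Cfsg.signalizerFamily p A θ := fun a ha ha1 =>
    mem_family_of_le (h.theta_member ha ha1) (hψ a ha ha1).1 (hψ a ha ha1).2.1
  have hsig : Cfsg.IsSolvableSignalizerFunctor p A ψ := by
    refine ⟨⟨fun a ha ha1 => (hψ a ha ha1).1.trans (h.sig.1.1 a ha ha1),
      fun a ha ha1 => (hmem a ha ha1).2.1, fun a ha ha1 => (hmem a ha ha1).2.2.1,
      fun a ha ha1 b hb hb1 => ?_⟩, fun a ha ha1 => (hmem a ha ha1).1⟩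
    refine le_sSup ⟨((inf_le_inf_right _ (hψ a ha ha1).1).trans (h.sig.1.2.2.2 a ha ha1 b hb hb1)),
      CfsgLib.Signalizer74.le_normalizer_inf (hψ a ha ha1).2.1 (conj_mem_centralizer h.elem (Set.singleton_subset_iff.mpr hb)),
      CfsgLib.Signalizer74.le_normalizer_inf (hψ a ha ha1).2.2.1
        (h.inf_le_normalizer_centralizer (Set.singleton_subset_iff.mpr hb)),
      fun r hr hd => (hψ a ha ha1).2.2.2 r hr (hd.trans (card_dvd_of_le inf_le_left))⟩
  obtain ⟨hxp, a, ha, ha1, hxa⟩ := hx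
  obtain ⟨U, hU, hle⟩ := h.sub ψ hsig (fun b hb hb1 => (hψ b hb hb1).1)
    ⟨a, ha, ha1, fun e => hxσ ((hψ a ha ha1).2.2.2 x hxp (e ▸ hxa))⟩
  have hUm : U ∈ Cfsg.signalizerFamily p A θ :=
    ⟨hU.1, hU.2.1, hU.2.2.1, fun b hb hb1 => (hU.2.2.2 b hb hb1).trans (hψ b hb hb1).1⟩
  refine ⟨U, hUm, ?_, fun r hr hd => ?_, fun Y hY hTY hYσ => member_le h.elem h.pow_le hY fun b hb hb1 => ?_⟩
  · have hUsup : U = ⨆ b : {b : G // b ∈ A ∧ b ≠ 1}, ψ (b : G) :=
      le_antisymm (member_le h.elem h.pow_le hUm fun b hb hb1 => (hU.2.2.2 b hb hb1).trans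
        (le_iSup (fun b : {b : G // b ∈ A ∧ b ≠ 1} => ψ (b : G)) ⟨b, hb, hb1⟩))
        (iSup_le fun b => hle b b.2.1 b.2.2)
    rw [hUsup]
    exact (le_iInf fun b : {b : G // b ∈ A ∧ b ≠ 1} => (hψ b b.2.1 b.2.2).2.2.1).trans
      (iInf_normalizer_le_normalizer_iSup _)
  · by_contra hrσ
    haveI := Fact.mk hr
    exact not_dvd_member h.elem h.pow_le hUm (fun b hb hb1 h' =>
      hrσ ((hψ b hb hb1).2.2.2 r hr (h'.trans (card_dvd_of_le (hU.2.2.2 b hb hb1))))) hd
  · refine le_trans ?_ (hle b hb hb1)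
    exact le_sSup ⟨hY.2.2.2 b hb hb1,
      CfsgLib.Signalizer74.le_normalizer_inf (member_normalized hY) (conj_mem_centralizer h.elem (Set.singleton_subset_iff.mpr hb)),
      CfsgLib.Signalizer74.le_normalizer_inf hTY (h.inf_le_normalizer_centralizer (Set.singleton_subset_iff.mpr hb)),
      fun r hr hd => hYσ r hr (hd.trans (card_dvd_of_le inf_le_left))⟩

omit h in
/-- A maximal member containing the signalizer intersection. -/
def IsMax (p : ℕ) (A : Subgroup G) (θ : G → Subgroup G) (M : Subgroup G) : Prop :=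
  M ∈ Cfsg.signalizerFamily p A θ ∧ Cfsg.signalizerInf A θ ≤ M ∧
    ∀ Y ∈ Cfsg.signalizerFamily p A θ, M ≤ Y → Y = M

variable {M L U : Subgroup G}

theorem exists_max_ge (hX : X ∈ Cfsg.signalizerFamily p A θ)
    (hT : Cfsg.signalizerInf A θ ≤ normalizer (X : Set G)) :
    ∃ M, IsMax p A θ M ∧ X ≤ M := by
  obtain ⟨M, hle, hM, hmax⟩ := (Set.toFinite (Cfsg.signalizerFamily p A θ)).exists_le_maximal
    (a := X ⊔ Cfsg.signalizerInf A θ) (sup_mem_family h.elem hX h.inf_member hT)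
  exact ⟨M, ⟨hM, le_sup_right.trans hle, fun Y hY hMY => le_antisymm (hmax hY hMY) hMY⟩,
    le_sup_left.trans hle⟩

theorem exists_max_ge_theta {a : G} (ha : a ∈ A) (ha1 : a ≠ 1) :
    ∃ M, IsMax p A θ M ∧ θ a ≤ M :=
  h.exists_max_ge (h.theta_member ha ha1) ((signalizerInf_le ha ha1).trans le_normalizer)

theorem not_all_le (hW : W ∈ Cfsg.signalizerFamily p A θ) :
    ∃ a ∈ A, a ≠ 1 ∧ ¬ θ a ≤ W := by
  by_contra hcon
  push Not at hcon
  exact h.notComplete ⟨W, hW, hcon⟩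

theorem le_max_of_normal (hM : IsMax p A θ M) (hX : X ∈ Cfsg.signalizerFamily p A θ) (hX1 : X ≠ ⊥)
    (hMX : M ≤ normalizer (X : Set G)) (hY : Y ∈ Cfsg.signalizerFamily p A θ)
    (hYX : Y ≤ normalizer (X : Set G)) : Y ≤ M := by
  obtain ⟨W, hW, hle⟩ := h.exists_normalizer_completion hX hX1
  exact hM.2.2 W hW (hle M hM.1 hMX) ▸ hle Y hY hYX

theorem core_member {r : ℕ} (hX : X ∈ Cfsg.signalizerFamily p A θ) :
    core r X ∈ Cfsg.signalizerFamily p A θ :=
  mem_family_of_le hX core_le ((member_normalized hX).trans normalizer_le_normalizer_core)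

theorem core'_member {r : ℕ} (hX : X ∈ Cfsg.signalizerFamily p A θ) :
    core' r X ∈ Cfsg.signalizerFamily p A θ :=
  mem_family_of_le hX core'_le ((member_normalized hX).trans normalizer_le_normalizer_core')

theorem le_max_of_core {r : ℕ} (hM : IsMax p A θ M) (h1 : core r M ≠ ⊥)
    (hY : Y ∈ Cfsg.signalizerFamily p A θ) (hYX : Y ≤ normalizer (core r M : Set G)) : Y ≤ M :=
  h.le_max_of_normal hM (h.core_member hM.1) h1 le_normalizer_core hY hYX

theorem max_ne_bot (hM : IsMax p A θ M) : M ≠ ⊥ := by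
  intro hbot
  obtain ⟨a, ha, ha1, hna⟩ := h.not_all_le hM.1
  obtain ⟨L, hL, hle⟩ := h.exists_max_ge_theta ha ha1
  exact hna (hM.2.2 L hL.1 (hbot ▸ bot_le) ▸ hle)

theorem exists_core_ne_bot (hM : IsMax p A θ M) :
    ∃ r : ℕ, r.Prime ∧ r ∈ primes A θ ∧ core r M ≠ ⊥ := by
  haveI := hM.1.1
  haveI : Nontrivial M := M.nontrivial_iff_ne_bot.mpr (h.max_ne_bot hM)
  obtain ⟨r, hr, hd, hne⟩ := CfsgLib.Fitting.exists_pCore_ne_bot (G := M)
  exact ⟨r, hr, prime_mem_primes h.elem h.pow_le hr hM.1 hd,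
    fun e => hne ((map_eq_bot_iff_of_injective _ M.subtype_injective).mp e)⟩

theorem prime_mem {r : ℕ} (hr : r.Prime) (hX : X ∈ Cfsg.signalizerFamily p A θ)
    (hd : r ∣ Nat.card X) : r ∈ primes A θ :=
  prime_mem_primes h.elem h.pow_le hr hX hd

omit h in
theorem IsTop.isPGroup {r : ℕ} [Fact r.Prime] (hU : IsTop p {r} A θ U) : IsPGroup r U :=
  IsPGroup.of_card
    (Nat.eq_prime_pow_of_unique_prime_dvd Nat.card_pos.ne' fun {s} hs hd =>
      Set.mem_singleton_iff.mp (hU.2.2.1 s hs hd))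

omit h in
theorem IsTop.le_of_isPGroup {r : ℕ} [Fact r.Prime] {σ : Set ℕ} (hU : IsTop p σ A θ U) (hr : r ∈ σ)
    (hY : Y ∈ Cfsg.signalizerFamily p A θ) (hT : Cfsg.signalizerInf A θ ≤ normalizer (Y : Set G))
    (hYr : IsPGroup r Y) : Y ≤ U := by
  refine hU.2.2.2 Y hY hT fun s hs hd => ?_
  haveI := Fact.mk hs
  by_cases hsr : s = r
  · exact hsr ▸ hr
  · exact absurd hd (not_dvd_of_isPGroup hYr hsr)

omit h in
theorem IsTop.mono {σ σ' : Set ℕ} {U' : Subgroup G} (hU : IsTop p σ A θ U)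
    (hU' : IsTop p σ' A θ U') (hσ : σ ⊆ σ') : U ≤ U' :=
  hU'.2.2.2 U hU.1 hU.2.1 fun r hr hd => hσ (hU.2.2.1 r hr hd)

/-! ### Planes -/

omit h in
/-- A hyperplane of `A`. -/
def IsPlane (p : ℕ) (A B : Subgroup G) : Prop := B ≤ A ∧ B.relIndex A = p

variable {B B' : Subgroup G}

theorem plane_card (hB : IsPlane p A B) : Nat.card B = p ^ 2 := by
  have h1 := relIndex_mul_relIndex ⊥ B A bot_le hB.1
  rw [relIndex_bot_left, relIndex_bot_left, hB.2, h.card, pow_succ] at h1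
  exact Nat.eq_of_mul_eq_mul_right hp.out.pos h1

theorem plane_ne_bot (hB : IsPlane p A B) : B ≠ ⊥ := fun e => by
  have h1 := h.plane_card hB
  rw [e, card_bot] at h1
  exact absurd h1.symm (Nat.one_lt_pow two_ne_zero hp.out.one_lt).ne'

theorem exists_plane {a b : G} (ha : a ∈ A) (hb : b ∈ A) :
    ∃ B, IsPlane p A B ∧ a ∈ B ∧ b ∈ B := by
  have hC : zpowers a ⊔ zpowers b ≤ A := sup_le (zpowers_le.mpr ha) (zpowers_le.mpr hb)
  have hle : ∀ x ∈ A, Nat.card (zpowers x) ≤ p := fun x hx => by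
    rw [Nat.card_zpowers]
    exact Nat.le_of_dvd hp.out.pos (orderOf_dvd_of_pow_eq_one (h.elem.2 x hx))
  have hn : zpowers b ≤ normalizer (zpowers a : Set G) := le_normalizer_of_conj fun x hx y hy => by
    rw [commute_of_mem h.elem (zpowers_le.mpr hb hx) (zpowers_le.mpr ha hy), mul_inv_cancel_right]
    exact hy
  have hcard : Nat.card ↥(zpowers a ⊔ zpowers b) ≤ p ^ 2 := by
    have h1 := CfsgLib.Coprime.card_sup_mul_card_inf (H := zpowers b) (N := zpowers a) hn
    rw [sup_comm] at h1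
    have h2 := Nat.mul_le_mul (hle b hb) (hle a ha)
    rw [← h1] at h2
    rw [pow_two]
    exact le_trans (Nat.le_mul_of_pos_right _ Nat.card_pos) h2
  obtain ⟨k, hk⟩ := IsPGroup.iff_card.mp ((isPGroup_of_elemAb h.elem).to_le hC)
  have hk2 : k ≤ 2 := (Nat.pow_le_pow_iff_right hp.out.one_lt).mp (hk ▸ hcard)
  obtain ⟨K, hK, hleK⟩ := Sylow.exists_subgroup_card_pow_prime_le (G := A) p (n := k) (m := 2)
    (by rw [h.card]; exact pow_dvd_pow p (by norm_num)) ((zpowers a ⊔ zpowers b).subgroupOf A)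
    (by rw [CfsgLib.Coprime.card_subgroupOf hC, hk]) hk2
  have hKB : ∀ x ∈ zpowers a ⊔ zpowers b, x ∈ K.map A.subtype :=
    fun x hx => ⟨⟨x, hC hx⟩, hleK (mem_subgroupOf.mpr hx), rfl⟩
  refine ⟨K.map A.subtype, ⟨map_subtype_le _, ?_⟩, hKB a (mem_sup_left (mem_zpowers a)),
    hKB b (mem_sup_right (mem_zpowers b))⟩
  have h1 := relIndex_mul_relIndex ⊥ (K.map A.subtype) A bot_le (map_subtype_le _)
  rw [relIndex_bot_left, relIndex_bot_left, card_subtype, hK, h.card, pow_succ p 2] at h1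
  exact Nat.eq_of_mul_eq_mul_left (pow_pos hp.out.pos 2) h1

theorem plane_inf_card (hB : IsPlane p A B) (hB' : IsPlane p A B') (hne : B ≠ B') :
    Nat.card ↥(B ⊓ B') = p := by
  obtain ⟨k, hk⟩ := IsPGroup.iff_card.mp
    ((isPGroup_of_elemAb h.elem).to_le (inf_le_left.trans hB.1 : B ⊓ B' ≤ A))
  have h1 : B ⊓ B' ≠ ⊥ := inf_hyperplanes_ne_bot h.elem h.pow_le hB.1 hB.2 hB'.2
  have h2 : Nat.card ↥(B ⊓ B') < p ^ 2 := by
    rw [← h.plane_card hB]
    refine lt_of_le_of_ne (card_le_of_le inf_le_left) fun e => hne ?_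
    have h3 : B ≤ B' := inf_eq_left.mp (eq_of_le_of_card_ge inf_le_left e.ge)
    exact eq_of_le_of_card_ge h3 (by rw [h.plane_card hB, h.plane_card hB'])
  rw [hk] at h2 ⊢
  rcases k with _ | _ | k
  · exact absurd (card_eq_one.mp (by simpa using hk)) h1
  · exact pow_one p
  · exact absurd h2 (not_lt.mpr (Nat.pow_le_pow_right hp.out.pos (by omega)))

theorem mem_zpowers_of_planes (hB : IsPlane p A B) (hB' : IsPlane p A B') (hne : B ≠ B') {a b : G}
    (ha : a ∈ B) (ha' : a ∈ B') (ha1 : a ≠ 1) (hb : b ∈ B) (hb' : b ∈ B') : b ∈ zpowers a := by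
  have hle : zpowers a ≤ B ⊓ B' := zpowers_le.mpr ⟨ha, ha'⟩
  have he := eq_of_le_of_card_ge hle (by
    rw [h.plane_inf_card hB hB' hne, Nat.card_zpowers]
    rw [orderOf_eq_prime (h.elem.2 a (hB.1 ha)) ha1])
  rw [he]; exact ⟨hb, hb'⟩

theorem plane_sup (hB : IsPlane p A B) {a : G} (ha : a ∈ A) (haB : a ∉ B) :
    B ⊔ zpowers a = A := by
  have hle : B ⊔ zpowers a ≤ A := sup_le hB.1 (zpowers_le.mpr ha)
  refine le_antisymm hle (relIndex_eq_one.mp ?_)
  have h1 := relIndex_mul_relIndex B (B ⊔ zpowers a) A le_sup_left hle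
  rw [hB.2] at h1
  refine (hp.out.eq_one_or_self_of_dvd _ ⟨_, (mul_comm _ _).trans h1 |>.symm⟩).resolve_right fun e => ?_
  rw [e] at h1
  have h2 : B.relIndex (B ⊔ zpowers a) = 1 :=
    Nat.eq_of_mul_eq_mul_right hp.out.pos (h1.trans (one_mul p).symm)
  exact haB (relIndex_eq_one.mp h2 (mem_sup_right (mem_zpowers a)))

theorem inf_centralizer_plane_le (hB : IsPlane p A B) {a : G} (ha : a ∈ A) (haB : a ∉ B) :
    centralizer (B : Set G) ⊓ centralizer {a} ≤ centralizer (A : Set G) := by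
  intro x hx
  refine mem_centralizer_iff.mpr fun y hy => ?_
  have h1 : B ⊔ zpowers a ≤ centralizer ({x} : Set G) := by
    refine sup_le (fun z hz => mem_centralizer_singleton_iff.mpr ?_) (zpowers_le.mpr ?_)
    · exact mem_centralizer_iff.mp hx.1 z hz
    · exact mem_centralizer_singleton_iff.mpr (mem_centralizer_singleton_iff.mp hx.2).symm
  rw [h.plane_sup hB ha haB] at h1
  exact mem_centralizer_singleton_iff.mp (h1 hy)

/-- The value of the functor at a plane. -/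
theorem thetaPlane_member (hB : IsPlane p A B) :
    Cfsg.signalizerInf B θ ∈ Cfsg.signalizerFamily p A θ := by
  obtain ⟨⟨b, hb⟩, hne⟩ := (ne_bot_iff_exists_ne_one).mp (h.plane_ne_bot hB)
  exact mem_family_of_le (h.theta_member (hB.1 hb) fun e => hne (Subtype.ext e))
    (signalizerInf_le hb fun e => hne (Subtype.ext e))
    ((le_iInf fun x : {x : G // x ∈ B ∧ x ≠ 1} =>
      member_normalized (h.theta_member (hB.1 x.2.1) x.2.2)).trans (iInf_normalizer_le_normalizer_iInf _))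

theorem inf_centralizer_le_thetaPlane (hB : IsPlane p A B) (hY : Y ∈ Cfsg.signalizerFamily p A θ) :
    Y ⊓ centralizer (B : Set G) ≤ Cfsg.signalizerInf B θ :=
  le_iInf fun b => (inf_le_inf_left _ (centralizer_le (Set.singleton_subset_iff.mpr b.2.1))).trans
    (hY.2.2.2 b (hB.1 b.2.1) b.2.2)

theorem thetaPlane_le_centralizer (hB : IsPlane p A B) :
    Cfsg.signalizerInf B θ ≤ centralizer (B : Set G) := fun x hx =>
  mem_centralizer_iff.mpr fun b hb => by
    by_cases hb1 : b = 1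
    · rw [hb1, one_mul, mul_one]
    · exact mem_centralizer_iff.mp
        (h.sig.1.1 b (hB.1 hb) hb1 (signalizerInf_le hb hb1 hx)) b rfl

theorem inf_le_thetaPlane (hB : IsPlane p A B) :
    Cfsg.signalizerInf A θ ≤ Cfsg.signalizerInf B θ :=
  le_iInf fun b => signalizerInf_le (hB.1 b.2.1) b.2.2

theorem member_le_of_planes (hY : Y ∈ Cfsg.signalizerFamily p A θ)
    (hle : ∀ B, IsPlane p A B → Y ⊓ centralizer (B : Set G) ≤ W) : Y ≤ W := by
  rw [← CfsgLib.Coprime39.eq_hyperCent h.elem h.ne_bot (CfsgLib.PCore.coprime_of_not_dvd_card hY.2.1)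
    (member_normalized hY)]
  exact iSup_le fun B => hle B.1 ⟨B.2.1, B.2.2⟩

/-- Some plane has its value outside any given member. -/
theorem exists_plane_not_le (hW : W ∈ Cfsg.signalizerFamily p A θ) :
    ∃ B, IsPlane p A B ∧ ¬ Cfsg.signalizerInf B θ ≤ W := by
  by_contra hcon
  push Not at hcon
  obtain ⟨a, ha, ha1, hna⟩ := h.not_all_le hW
  exact hna (h.member_le_of_planes (h.theta_member ha ha1) fun B hB =>
    (h.inf_centralizer_le_thetaPlane hB (h.theta_member ha ha1)).trans (hcon B hB))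

end Minimal

end CfsgLib.Signalizer74
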