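import Cfsg.Agent.Lib.Signalizer74.Pivot

/-!
# Tools for exactly three primes
-/

set_option autoImplicit false
set_option linter.style.haveILetI false
set_option linter.unusedSectionVars false

namespace CfsgLib.Signalizer74

open Subgroup CfsgLib.Signalizer
open scoped Pointwise commutatorElement

variable {G : Type*} [Group G] [Finite G] {p q r s u x y : ℕ} [hp : Fact p.Prime] {A : Subgroup G}
  {θ : G → Subgroup G} {D F H K L M N W Y Z : Subgroup G}

/-- The primes are exactly `q`, `u`, `r`. -/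
structure Ternary (A : Subgroup G) (θ : G → Subgroup G) (q u r : ℕ) : Prop where
  mq : q ∈ primes A θ
  mu : u ∈ primes A θ
  mr : r ∈ primes A θ
  uq : u ≠ q
  rq : r ≠ q
  ru : r ≠ u
  only : ∀ t ∈ primes A θ, t = q ∨ t = u ∨ t = r

theorem Ternary.swap (t : Ternary A θ q u r) : Ternary A θ q r u :=
  ⟨t.mq, t.mr, t.mu, t.rq, t.uq, t.ru.symm, fun x hx => by rcases t.only x hx with e | e | e <;> simp [e]⟩

theorem Ternary.rot (t : Ternary A θ q u r) : Ternary A θ u q r :=
  ⟨t.mu, t.mq, t.mr, t.uq.symm, t.ru, t.rq, fun x hx => by rcases t.only x hx with e | e | e <;> simp [e]⟩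

theorem le_centralizer_bot : H ≤ centralizer ((⊥ : Subgroup G) : Set G) := fun x _ =>
  mem_centralizer_iff.mpr fun y hy => by
    rw [SetLike.mem_coe, mem_bot] at hy
    simp [hy]

/-- An operator centralizing all cores centralizes the group. -/
theorem le_centralizer_of_cores {c : G} (hHs : Group.IsSolvable H) (hc : c ∈ normalizer (H : Set G))
    (hcop : (Nat.card (zpowers c)).Coprime (Nat.card H))
    (hcore : ∀ t : ℕ, t.Prime → core t H ≤ centralizer {c}) : H ≤ centralizer {c} := by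
  have hz : zpowers c ≤ normalizer (H : Set G) := zpowers_le.mpr hc
  have hF : ⁅H, zpowers c⁆ ≤ ⨆ t : Nat.Primes, core (t : ℕ) H := by
    refine commutator_le.mpr fun n hn d hd => mem_iSup_core hHs ?_ fun t ht => ?_
    · rw [commutatorElement_def, mul_assoc, mul_assoc]
      refine H.mul_mem hn ?_
      rw [← mul_assoc]
      exact CfsgLib.Coprime.mem_normalizer_conj (hz hd) (H.inv_mem hn)
    · refine commutatorElement_mem_centralizer (le_normalizer_core hn) ?_
      exact (zpowers_le.mpr (mem_centralizer_iff.mpr fun z hz' =>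
        mem_centralizer_singleton_iff.mp (hcore t ht hz'))) hd
  have h1 : ⁅⁅H, zpowers c⁆, zpowers c⁆ = ⊥ := by
    rw [commutator_eq_bot_iff_le_centralizer, centralizer_zpowers']
    exact hF.trans (iSup_le fun t => hcore t t.2)
  have h2 := CfsgLib.Coprime.commutator_eq_bot_of_commutator_commutator_eq_bot (zpowers c) H hz hcop
    (Or.inr hHs) h1
  rwa [commutator_eq_bot_iff_le_centralizer, centralizer_zpowers'] at h2

/-- With cores at `x` and `y` only, the `x'`- and `y'`-cores meet trivially. -/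
theorem core'_inf_core'_eq_bot [Fact x.Prime] [Fact y.Prime] (hMs : Group.IsSolvable M)
    (ho : ∀ t : ℕ, t.Prime → t ≠ x → t ≠ y → core t M = ⊥) : core' x M ⊓ core' y M = ⊥ := by
  by_contra hne
  set S := core' x M ⊓ core' y M
  have hS : M ≤ normalizer (S : Set G) :=
    CfsgLib.Signalizer74.le_normalizer_inf le_normalizer_core' le_normalizer_core'
  haveI : Group.IsSolvable S := isSolvable_of_le (inf_le_left.trans core'_le) hMs
  haveI : Nontrivial S := S.nontrivial_iff_ne_bot.mpr hne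
  obtain ⟨t, ht, -, hne'⟩ := CfsgLib.Fitting.exists_pCore_ne_bot (G := S)
  haveI := Fact.mk ht
  have hle : core t S ≤ core t M := le_core (core_le.trans (inf_le_left.trans core'_le))
    (hS.trans normalizer_le_normalizer_core) isPGroup_core
  have hne'' : core t S ≠ ⊥ := fun e => hne' ((map_eq_bot_iff_of_injective _ S.subtype_injective).mp e)
  by_cases htx : t = x
  · subst htx
    exact hne'' (CfsgLib.PCore.eq_bot_of_isPGroup_coprime isPGroup_core
      (CfsgLib.PCore.coprime_of_not_dvd_card fun hd =>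
        not_dvd_core' (hd.trans (card_dvd_of_le (core_le.trans inf_le_left)))))
  by_cases hty : t = y
  · subst hty
    exact hne'' (CfsgLib.PCore.eq_bot_of_isPGroup_coprime isPGroup_core
      (CfsgLib.PCore.coprime_of_not_dvd_card fun hd =>
        not_dvd_core' (hd.trans (card_dvd_of_le (core_le.trans inf_le_right)))))
  exact hne'' (eq_bot_iff.mpr (hle.trans (ho t ht htx hty).le))

/-- Only the `x`-core of `H` is nontrivial. -/
def OnlyCore (x : ℕ) (H : Subgroup G) : Prop := ∀ t : ℕ, t.Prime → t ≠ x → core t H = ⊥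

namespace Minimal

variable (h : Minimal p A θ)
include h

theorem eq_bot_of_onlyCore [Fact s.Prime] (hH : H ∈ Cfsg.signalizerFamily p A θ)
    (ho : OnlyCore x H) (hsx : s ≠ x) (hZ : Z ≤ H) (hZs : IsPGroup s Z)
    (hc : Z ≤ centralizer (core x H : Set G)) : Z = ⊥ := by
  rw [eq_bot_iff, ← ho s Fact.out hsx]
  intro z hz
  refine mem_core_of_centralizes hH.1 (hZ hz) hZs hz fun t ht => ?_
  by_cases htx : t = x
  · exact htx ▸ hc hz
  · rw [ho t ht htx]
    exact le_centralizer_bot (H := Z) hz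

theorem core_eq_bot_of_notMem (hH : H ∈ Cfsg.signalizerFamily p A θ) (hs : s.Prime)
    (hn : s ∉ primes A θ) : core s H = ⊥ :=
  haveI := Fact.mk hs
  h.core_eq_bot (σ := primes A θ) (fun _ hd hdd => h.prime_mem hd hH hdd) hn

variable (h3 : ThreePrimes A θ)
include h3

theorem core_le_single (hs : s.Prime) (hM : IsMax p A θ M) : core s M ≤ Top p A θ {s} :=
  haveI := Fact.mk hs
  (h.single_isTop h3 s).le_of_isPGroup rfl (h.core_member hM.1)
    (h.inf_le_normalizer_core (hM.2.1.trans le_normalizer)) isPGroup_core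

theorem layer_normalized (a b : ℕ) : Top p A θ {a} ≤ normalizer (layer p A θ a b : Set G) ∧
    Top p A θ {b} ≤ normalizer (layer p A θ a b : Set G) :=
  ⟨(h.single_le_pair h3 a b).trans le_normalizer_core,
    (h.single_le_pair' h3 a b).trans le_normalizer_core⟩

theorem layer_comm (hx : x.Prime) (hy : y.Prime) (hxy : x ≠ y) :
    layer p A θ x y ≤ centralizer (layer p A θ y x : Set G) := by
  haveI := Fact.mk hx
  haveI := Fact.mk hy
  refine le_centralizer_of_normalizes hxy isPGroup_core isPGroup_core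
    ((h.layer_le_single h3 hx y).trans (h.layer_normalized h3 y x).2)
    ((h.layer_le_single h3 hy x).trans (h.layer_normalized h3 x y).2)

/-- A maximal member with nontrivial `x`- and `y`-cores has its `x`-core in the `(x,y)`-layer. -/
theorem core_le_layer (hM : IsMax p A θ M) [Fact x.Prime] [Fact y.Prime] (hxy : x ≠ y)
    (hcy : core y M ≠ ⊥) : core x M ≤ layer p A θ x y := by
  have hU := h.pair_isTop h3 x y
  set L := Top p A θ {x, y}
  have hX : core x M ≤ L := (h.core_le_single h3 Fact.out hM).trans (h.single_le_pair h3 x y)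
  have hY : core y M ≤ L := (h.core_le_single h3 Fact.out hM).trans (h.single_le_pair' h3 x y)
  have hn : L ⊓ normalizer (core y M : Set G) ≤ M := h.le_max_of_core hM hcy
    (member_inf hU.1 ((member_normalized (h.core_member hM.1)).trans le_normalizer)) inf_le_right
  refine (le_core'_of_normalizer_le (r := y) hU.1.1 isPGroup_core hY hX
    (not_dvd_of_isPGroup isPGroup_core hxy.symm) (core_le.trans le_normalizer_core)
    (hn.trans le_normalizer_core)).trans (le_core core'_le le_normalizer_core' ?_)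
  refine IsPGroup.of_card (Nat.eq_prime_pow_of_unique_prime_dvd Nat.card_pos.ne' fun {d} hd hdvd => ?_)
  rcases Set.mem_insert_iff.mp (hU.2.2.1 d hd (hdvd.trans (card_dvd_of_le core'_le))) with e | e
  · exact e
  · exact absurd ((Set.mem_singleton_iff.mp e) ▸ hdvd) not_dvd_core'

/-- Bender: a maximal member with cores at `x`, `y` only, inside which the cores of another lie. -/
theorem max_eq_of_cores {M₁ M₂ : Subgroup G} (h₁ : IsMax p A θ M₁) (h₂ : IsMax p A θ M₂)
    [Fact x.Prime] [Fact y.Prime] (hxy : x ≠ y) (hx₁ : core x M₁ ≠ ⊥) (hy₁ : core y M₁ ≠ ⊥)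
    (hx₂ : core x M₂ ≠ ⊥) (hy₂ : core y M₂ ≠ ⊥)
    (ho₁ : ∀ t : ℕ, t.Prime → t ≠ x → t ≠ y → core t M₁ = ⊥)
    (ho₂ : ∀ t : ℕ, t.Prime → t ≠ x → t ≠ y → core t M₂ = ⊥)
    (hxM : core x M₁ ≤ M₂) (hyM : core y M₁ ≤ M₂) : M₁ = M₂ := by
  -- one step: the `a`-core of `X` is centralized by the `b`-core of `Y`
  have step : ∀ {X Z : Subgroup G} {a b : ℕ}, IsMax p A θ X → IsMax p A θ Z → a.Prime → b.Prime →
      a ≠ b → core a X ≠ ⊥ → core b X ≠ ⊥ → core a X ≤ Z → core b X ≤ Z →
      core a X ≤ core' b Z ∧ core b Z ≤ X := by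
    intro X Z a b hX hZ ha hb hab ha1 hb1 haZ hbZ
    haveI := Fact.mk ha
    haveI := Fact.mk hb
    have hn : Z ⊓ normalizer (core b X : Set G) ≤ X := h.le_max_of_core hX hb1
      (member_inf hZ.1 ((member_normalized (h.core_member hX.1)).trans le_normalizer)) inf_le_right
    have h1 : core a X ≤ core' b Z := le_core'_of_normalizer_le hZ.1.1 isPGroup_core hbZ haZ
      (not_dvd_of_isPGroup isPGroup_core hab.symm) (core_le.trans le_normalizer_core)
      (hn.trans le_normalizer_core)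
    refine ⟨h1, h.le_max_of_core hX ha1 (h.core_member hZ.1) ?_⟩
    refine le_trans ?_ (centralizer_le_normalizer _)
    refine le_trans ?_ (centralizer_le h1)
    refine le_centralizer_of_inf_eq_bot (core_le.trans le_normalizer_core')
      (core'_le.trans le_normalizer_core) ?_
    exact CfsgLib.PCore.inf_eq_bot_of_isPGroup_coprime isPGroup_core
      (CfsgLib.PCore.coprime_of_not_dvd_card not_dvd_core')
  have hy2 := (step h₁ h₂ Fact.out Fact.out hxy hx₁ hy₁ hxM hyM).2
  have hx2 := (step h₁ h₂ Fact.out Fact.out hxy.symm hy₁ hx₁ hyM hxM).2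
  obtain ⟨hx2', -⟩ := step h₂ h₁ Fact.out Fact.out hxy hx₂ hy₂ hx2 hy2
  obtain ⟨hy2', -⟩ := step h₂ h₁ Fact.out Fact.out hxy.symm hy₂ hx₂ hy2 hx2
  have hint : core' x M₁ ⊓ core' y M₁ = ⊥ := core'_inf_core'_eq_bot h₁.1.1 ho₁
  have hV : core' y M₁ ≤ centralizer (core y M₂ : Set G) :=
    (le_centralizer_of_inf_eq_bot (core'_le.trans le_normalizer_core')
      (core'_le.trans le_normalizer_core') (inf_comm (core' x M₁) _ ▸ hint)).trans (centralizer_le hy2')
  have hVM : core' y M₁ ≤ M₂ := h.le_max_of_core h₂ hy₂ (h.core'_member h₁.1)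
    (hV.trans (centralizer_le_normalizer _))
  have hxx : core x M₂ ≤ core x M₁ := (le_core hx2' (hVM.trans le_normalizer_core) isPGroup_core).trans
    (le_core (core_le.trans core'_le) (le_normalizer_core'.trans normalizer_le_normalizer_core)
      isPGroup_core)
  -- equality of the cores
  have hxx' : core x M₁ ≤ core x M₂ := by
    have hint' : core' x M₂ ⊓ core' y M₂ = ⊥ := core'_inf_core'_eq_bot h₂.1.1 ho₂
    obtain ⟨hx1', -⟩ := step h₁ h₂ Fact.out Fact.out hxy hx₁ hy₁ hxM hyM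
    obtain ⟨hy1', -⟩ := step h₁ h₂ Fact.out Fact.out hxy.symm hy₁ hx₁ hyM hxM
    have hV' : core' y M₂ ≤ centralizer (core y M₁ : Set G) :=
      (le_centralizer_of_inf_eq_bot (core'_le.trans le_normalizer_core')
        (core'_le.trans le_normalizer_core') (inf_comm (core' x M₂) _ ▸ hint')).trans (centralizer_le hy1')
    have hVM' : core' y M₂ ≤ M₁ := h.le_max_of_core h₁ hy₁ (h.core'_member h₂.1)
      (hV'.trans (centralizer_le_normalizer _))
    exact (le_core hx1' (hVM'.trans le_normalizer_core) isPGroup_core).trans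
      (le_core (core_le.trans core'_le) (le_normalizer_core'.trans normalizer_le_normalizer_core)
        isPGroup_core)
  refine (h₁.2.2 M₂ h₂.1 ?_).symm
  exact h.le_max_of_core h₂ hx₂ h₁.1 (le_antisymm hxx hxx' ▸ le_normalizer_core)

variable {q : ℕ} (hP : Pivot p A θ q M)
include hP

theorem isLine_of_core (hH : IsMax p A θ H) {a : G} (hle : θ a ≤ H) (hne : core q H ≠ ⊥) :
    IsLine p A θ q a := ⟨H, hH, hle, hne⟩

/-- The kernel has a single plane of fixed points, and two bad planes meet it differently. -/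
theorem weight_plane : ∃ P, IsPlane p A P ∧ kernelAt p A θ q ≤ centralizer (P : Set G) ∧
    ∃ D₁ D₂ c₁ c₂, IsPlane p A D₁ ∧ IsPlane p A D₂ ∧ ¬ Cfsg.signalizerInf D₁ θ ≤ M ∧
      ¬ Cfsg.signalizerInf D₂ θ ≤ M ∧ c₁ ∈ D₁ ∧ c₁ ∈ P ∧ c₁ ≠ 1 ∧ c₂ ∈ D₂ ∧ c₂ ∈ P ∧ c₂ ≠ 1 ∧
      c₂ ∉ zpowers c₁ := by
  set E := kernelAt p A θ q
  obtain ⟨D₁, hD₁, hb₁⟩ := h.exists_bad h3 hP
  obtain ⟨c₁, hc₁, hc₁1, hEc₁, -, -, -⟩ := h.bad_plane h3 hP hD₁ hb₁
  obtain ⟨D₂, hD₂, hb₂, hc₁D⟩ : ∃ D₂, IsPlane p A D₂ ∧ ¬ Cfsg.signalizerInf D₂ θ ≤ M ∧ c₁ ∉ D₂ := by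
    by_contra hcon
    push Not at hcon
    exact h.false_of_common h3 hP (hD₁.1 hc₁) hc₁1 hEc₁ hcon
  obtain ⟨c₂, hc₂, hc₂1, hEc₂, -, -, -⟩ := h.bad_plane h3 hP hD₂ hb₂
  obtain ⟨P, hPl, hcP₁, hcP₂⟩ := h.exists_plane (hD₁.1 hc₁) (hD₂.1 hc₂)
  have hne : c₂ ∉ zpowers c₁ := fun e => hc₁D ((zpowers_le.mpr hc₂) (by
    rw [eq_of_le_of_card_ge (zpowers_le.mpr e) (by
      rw [Nat.card_zpowers, Nat.card_zpowers, orderOf_eq_prime (h.elem.2 c₁ (hD₁.1 hc₁)) hc₁1,
        orderOf_eq_prime (h.elem.2 c₂ (hD₂.1 hc₂)) hc₂1])]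
    exact mem_zpowers c₁))
  refine ⟨P, hPl, fun x hx => mem_centralizer_iff.mpr fun b hb => ?_, D₁, D₂, c₁, c₂, hD₁, hD₂,
    hb₁, hb₂, hc₁, hcP₁, hc₁1, hc₂, hcP₂, hc₂1, hne⟩
  have hle : zpowers c₁ ⊔ zpowers c₂ = P := by
    refine eq_of_le_of_card_ge (sup_le (zpowers_le.mpr hcP₁) (zpowers_le.mpr hcP₂)) ?_
    obtain ⟨k, hk⟩ := IsPGroup.iff_card.mp ((isPGroup_of_elemAb h.elem).to_le
      (sup_le (zpowers_le.mpr (hD₁.1 hc₁)) (zpowers_le.mpr (hD₂.1 hc₂))))
    rw [h.plane_card hPl, hk]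
    refine Nat.pow_le_pow_right hp.out.pos ?_
    by_contra hk2
    have h1 : Nat.card ↥(zpowers c₁ ⊔ zpowers c₂) ≤ Nat.card (zpowers c₁) := by
      rw [hk, Nat.card_zpowers, orderOf_eq_prime (h.elem.2 c₁ (hD₁.1 hc₁)) hc₁1]
      calc p ^ k ≤ p ^ 1 := Nat.pow_le_pow_right hp.out.pos (by omega)
        _ = p := pow_one p
    exact hne ((eq_of_le_of_card_ge le_sup_left h1).ge (mem_sup_right (mem_zpowers c₂)))
  have h2 : P ≤ centralizer ({x} : Set G) := by
    rw [← hle]
    exact sup_le (zpowers_le.mpr (mem_centralizer_singleton_iff.mpr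
        (mem_centralizer_singleton_iff.mp (hEc₁ hx)).symm))
      (zpowers_le.mpr (mem_centralizer_singleton_iff.mpr
        (mem_centralizer_singleton_iff.mp (hEc₂ hx)).symm))
  exact mem_centralizer_singleton_iff.mp (h2 hb)

variable {P : Subgroup G} (hPl : IsPlane p A P) (hEP : kernelAt p A θ q ≤ centralizer (P : Set G))
include hPl hEP

theorem isLine_of_mem {a : G} (ha : a ∈ P) (ha1 : a ≠ 1) : IsLine p A θ q a :=
  h.isLine_of_fixed h3 hP.mem (hPl.1 ha) ha1 fun e => hP.ne_bot (by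
    rwa [inf_eq_left.mpr (hEP.trans (centralizer_le (Set.singleton_subset_iff.mpr ha)))] at e)

/-- A line outside the weight plane has value normalizing the kernel. -/
theorem theta_le_normalizer_of_line {a : G} (ha : a ∈ A) (haP : a ∉ P) (hl : IsLine p A θ q a) :
    θ a ≤ normalizer (kernelAt p A θ q : Set G) := by
  have ha1 : a ≠ 1 := fun e => haP (e ▸ one_mem P)
  refine h.member_le_of_planes (h.theta_member ha ha1) fun B hB => ?_
  by_cases haB : a ∈ B
  · obtain ⟨⟨b, hb⟩, hne⟩ := (ne_bot_iff_exists_ne_one).mp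
      (inf_hyperplanes_ne_bot h.elem h.pow_le hB.1 hB.2 hPl.2)
    have hb1 : b ≠ 1 := fun e => hne (Subtype.ext e)
    refine (h.inf_centralizer_le_thetaPlane hB (h.theta_member ha ha1)).trans
      (h.thetaPlane_le_normalizer h3 hP.mem hB (Or.inr ⟨b, a, hb.1, haB, hb1, ?_, ?_, hl⟩))
    · exact fun e => haP (zpowers_le.mpr hb.2 e)
    · exact h.isLine_of_mem h3 hP hPl hEP hb.2 hb1
  · intro x hx
    have hxA := h.inf_centralizer_plane_le hB ha haB ⟨hx.2, h.sig.1.1 a ha ha1 hx.1⟩
    exact h.kernelAt_tinv h3 q (member_inf_centralizer_le (h.theta_member ha ha1) ⟨hx.1, hxA⟩)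

theorem line_mem_of_bad (hD : IsPlane p A D) (hbad : ¬ Cfsg.signalizerInf D θ ≤ M) {a : G}
    (haD : a ∈ D) (hl : IsLine p A θ q a) : a ∈ P := by
  by_contra haP
  refine hbad ((signalizerInf_le haD fun e => haP (e ▸ one_mem P)).trans ?_)
  exact hP.absorbs _ (h.theta_member (hD.1 haD) fun e => haP (e ▸ one_mem P))
    (h.theta_le_normalizer_of_line h3 hP hPl hEP (hD.1 haD) haP hl)

theorem bad_ne_plane (hD : IsPlane p A D) (hbad : ¬ Cfsg.signalizerInf D θ ≤ M) : D ≠ P := by
  intro e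
  obtain ⟨c, -, -, -, -, -, hfix⟩ := h.bad_plane h3 hP hD hbad
  exact hP.ne_bot (eq_bot_iff.mpr ((le_inf le_rfl hEP).trans (e ▸ hfix).le))

/-- A member at a bad plane normalizing a group above the kernel, whose fixed points at the
intersection with the weight plane are centralized by the weight plane, lies in the pivot. -/
theorem le_of_fixed_le (hD : IsPlane p A D) (hbad : ¬ Cfsg.signalizerInf D θ ≤ M)
    (hK : K ∈ Cfsg.signalizerFamily p A θ) (hKD : K ≤ centralizer (D : Set G))
    (hKW : K ≤ normalizer (W : Set G))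
    (hEW : kernelAt p A θ q ≤ W) {c : G} (hcD : c ∈ D) (hcP : c ∈ P)
    (hWc : W ⊓ centralizer {c} ≤ centralizer (P : Set G)) : K ≤ M := by
  obtain ⟨b, hbP, hbD⟩ : ∃ b ∈ P, b ∉ D := by
    by_contra hcon
    push Not at hcon
    exact h.bad_ne_plane h3 hP hPl hEP hD hbad
      (eq_of_le_of_card_ge hcon (by rw [h.plane_card hD, h.plane_card hPl])).symm
  have hbA := hPl.1 hbP
  set S := W ⊓ centralizer {c}
  have hES : kernelAt p A θ q ≤ S :=
    le_inf hEW (hEP.trans (centralizer_le (Set.singleton_subset_iff.mpr hcP)))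
  have hKS : K ≤ normalizer (S : Set G) := CfsgLib.Signalizer74.le_normalizer_inf hKW
    ((hKD.trans (centralizer_le (Set.singleton_subset_iff.mpr hcD))).trans le_normalizer)
  have hbK : zpowers b ≤ normalizer (K : Set G) := (zpowers_le.mpr hbA).trans (member_normalized hK)
  have hKp := (h.coprime hK).coprime_dvd_left (card_dvd_of_le (zpowers_le.mpr hbA))
  have hcentre : zpowers b ≤ centralizer (S : Set G) := by
    rw [le_centralizer_iff, centralizer_zpowers']
    exact hWc.trans (centralizer_le (Set.singleton_subset_iff.mpr hbP))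
  refine hP.absorbs K hK ?_
  conv_lhs => rw [← CfsgLib.Coprime.commutator_sup_centralizer (zpowers b) K hbK hKp (Or.inr hK.1)]
  refine sup_le ?_ ?_
  · refine (le_trans ?_ (centralizer_le hES)).trans (centralizer_le_normalizer _)
    exact commutator_le.mpr fun k hk d hd => commutatorElement_mem_centralizer (hKS hk) (hcentre hd)
  · rw [centralizer_zpowers']
    intro x hx
    have hxA := h.inf_centralizer_plane_le hD hbA hbD ⟨hKD hx.1, hx.2⟩
    exact h.kernelAt_tinv h3 q (member_inf_centralizer_le hK ⟨hx.1, hxA⟩)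

end Minimal

end CfsgLib.Signalizer74
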