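import Cfsg.Agent.Lib.Signalizer74.Ternary

/-!
# Three primes, two nontrivial kernels
-/

set_option autoImplicit false
set_option linter.style.haveILetI false
set_option linter.unusedSectionVars false

namespace CfsgLib.Signalizer74

open Subgroup CfsgLib.Signalizer
open scoped Pointwise commutatorElement

variable {G : Type*} [Group G] [Finite G] {p q r s u x : ℕ} [hp : Fact p.Prime] {A : Subgroup G}
  {θ : G → Subgroup G} {B D H M P Pu S Z : Subgroup G}

namespace Minimal

variable (h : Minimal p A θ)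
include h

/-- Two independent elements generate a plane. -/
theorem plane_le (hB : IsPlane p A B) {a b : G} (ha : a ∈ B) (hb : b ∈ B) (ha1 : a ≠ 1)
    (hab : b ∉ zpowers a) (haS : a ∈ S) (hbS : b ∈ S) : B ≤ S := by
  have hle : zpowers a ⊔ zpowers b = B := by
    refine eq_of_le_of_card_ge (sup_le (zpowers_le.mpr ha) (zpowers_le.mpr hb)) ?_
    obtain ⟨k, hk⟩ := IsPGroup.iff_card.mp ((isPGroup_of_elemAb h.elem).to_le
      (sup_le (zpowers_le.mpr (hB.1 ha)) (zpowers_le.mpr (hB.1 hb))))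
    rw [h.plane_card hB, hk]
    refine Nat.pow_le_pow_right hp.out.pos ?_
    by_contra hk2
    have h1 : Nat.card ↥(zpowers a ⊔ zpowers b) ≤ Nat.card (zpowers a) := by
      rw [hk, Nat.card_zpowers, orderOf_eq_prime (h.elem.2 a (hB.1 ha)) ha1]
      calc p ^ k ≤ p ^ 1 := Nat.pow_le_pow_right hp.out.pos (by omega)
        _ = p := pow_one p
    exact hab ((eq_of_le_of_card_ge le_sup_left h1).ge (mem_sup_right (mem_zpowers b)))
  rw [← hle]
  exact sup_le (zpowers_le.mpr haS) (zpowers_le.mpr hbS)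

theorem plane_le_centralizer (hB : IsPlane p A B) {a b : G} (ha : a ∈ B) (hb : b ∈ B) (ha1 : a ≠ 1)
    (hab : b ∉ zpowers a) :
    centralizer ({a} : Set G) ⊓ centralizer {b} ≤ centralizer (B : Set G) := by
  intro z hz
  have h1 : B ≤ centralizer ({z} : Set G) := h.plane_le hB ha hb ha1 hab
    (mem_centralizer_singleton_iff.mpr (mem_centralizer_singleton_iff.mp hz.1).symm)
    (mem_centralizer_singleton_iff.mpr (mem_centralizer_singleton_iff.mp hz.2).symm)
  exact mem_centralizer_iff.mpr fun y hy => mem_centralizer_singleton_iff.mp (h1 hy)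

variable (h3 : ThreePrimes A θ)
include h3

/-- A group normalized by the only nontrivial core of a maximal member meets it trivially. -/
theorem inf_eq_bot_of_onlyCore [Fact s.Prime] [Fact x.Prime] (hH : IsMax p A θ H)
    (ho : OnlyCore x H) (hsx : s ≠ x) (hZs : IsPGroup s Z)
    (hn : core x H ≤ normalizer (Z : Set G)) : Z ⊓ H = ⊥ :=
  h.eq_bot_of_onlyCore hH.1 ho hsx inf_le_right (hZs.to_le inf_le_left)
    (le_centralizer_of_normalizes hsx (hZs.to_le inf_le_left) isPGroup_core
      (inf_le_right.trans le_normalizer_core)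
      (CfsgLib.Signalizer74.le_normalizer_inf hn (core_le.trans le_normalizer)))

theorem exists_pivot_at (hq : q ∈ primes A θ) (hne : kernelAt p A θ q ≠ ⊥) :
    ∃ M, Pivot p A θ q M := by
  haveI := fact_of_mem hq
  have hE := h.kernelAt_member h3 q
  obtain ⟨W, hW, hle⟩ := h.exists_normalizer_completion hE hne
  have hTW : Cfsg.signalizerInf A θ ≤ W := hle _ h.inf_member (h.kernelAt_tinv h3 q)
  obtain ⟨M, hM, hWM⟩ := h.exists_max_ge hW (hTW.trans le_normalizer)
  refine ⟨M, hq, hne, hM, ?_, fun Y hY hYn => (hle Y hY hYn).trans hWM⟩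
  exact le_trans (le_inf le_rfl ((hle _ hE le_normalizer).trans hWM))
    (h.kernelAt_inf_le h3 hq hM.1 (hM.2.1.trans le_normalizer))

/-- A pivot does not have three nontrivial cores. -/
theorem false_of_all_cores (t : Ternary A θ q u r) (hP : Pivot p A θ q M) (hu : core u M ≠ ⊥)
    (hr : core r M ≠ ⊥) : False := by
  haveI := fact_of_mem t.mq
  haveI := fact_of_mem t.mu
  haveI := fact_of_mem t.mr
  have hq : core q M ≠ ⊥ := fun e => hP.ne_bot (eq_bot_iff.mpr (hP.le_core.trans e.le))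
  have hcores : ∀ w ∈ primes A θ, core w M ≤ kernelAt p A θ w := by
    intro w hw
    haveI := fact_of_mem hw
    refine le_iInf fun v => ?_
    haveI := fact_of_mem v.2.1
    refine h.core_le_layer h3 hP.max (Ne.symm v.2.2) ?_
    rcases t.only v v.2.1 with e | e | e <;> rw [e] <;> assumption
  obtain ⟨D, hD, hbad⟩ := h.exists_bad h3 hP
  obtain ⟨c, hcD, hc1, hEc, -, -, -⟩ := h.bad_plane h3 hP hD hbad
  refine h.false_of_core_le h3 hP hD hbad hcD hc1 hEc (hcores q t.mq) fun w hw _ => ?_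
  refine le_trans (CfsgLib.Coprime.commutator_le_of_normalizes ?_) (hcores w hw)
  exact ((zpowers_le.mpr (hD.1 hcD)).trans (member_normalized hP.max.1)).trans normalizer_le_normalizer_core

omit h h3 in
/-- The situation of two kernels. -/
structure CaseI (p : ℕ) (A : Subgroup G) (θ : G → Subgroup G) (q u r : ℕ) (M P Pu : Subgroup G) :
    Prop where
  tern : Ternary A θ q u r
  piv : Pivot p A θ q M
  piv' : Pivot p A θ u M
  planeP : IsPlane p A P
  planePu : IsPlane p A Pu
  fixP : kernelAt p A θ q ≤ centralizer (P : Set G)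
  fixPu : kernelAt p A θ u ≤ centralizer (Pu : Set G)

omit h h3 in
theorem CaseI.symm (k : CaseI p A θ q u r M P Pu) : CaseI p A θ u q r M Pu P :=
  ⟨k.tern.rot, k.piv', k.piv, k.planePu, k.planeP, k.fixPu, k.fixP⟩

variable (k : CaseI p A θ q u r M P Pu)
include k

theorem caseI_core_r : core r M = ⊥ := by
  by_contra hne
  refine h.false_of_all_cores h3 k.tern k.piv (fun e => k.piv'.ne_bot ?_) hne
  exact eq_bot_iff.mpr (k.piv'.le_core.trans e.le)

theorem caseI_common {a : G} (haP : a ∈ P) (haPu : a ∈ Pu) (ha1 : a ≠ 1) : θ a ≤ M := by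
  haveI := fact_of_mem k.tern.mq
  haveI := fact_of_mem k.tern.mu
  haveI := fact_of_mem k.tern.mr
  have haA := k.planeP.1 haP
  obtain ⟨H, hH, hle⟩ := h.exists_max_ge_theta haA ha1
  have hin : ∀ {w : ℕ}, kernelAt p A θ w ≤ centralizer {a} → w ∈ primes A θ →
      kernelAt p A θ w ≤ core w H := fun hc hw => le_trans
    (le_inf le_rfl (((le_inf le_rfl hc).trans ((h.kernelAt_member h3 _).2.2.2 a haA ha1)).trans hle))
    (h.kernelAt_inf_le h3 hw hH.1 (hH.2.1.trans le_normalizer))
  have hqH := hin (k.fixP.trans (centralizer_le (Set.singleton_subset_iff.mpr haP))) k.tern.mq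
  have huH := hin (k.fixPu.trans (centralizer_le (Set.singleton_subset_iff.mpr haPu))) k.tern.mu
  have hq1 : core q H ≠ ⊥ := fun e => k.piv.ne_bot (eq_bot_iff.mpr (hqH.trans e.le))
  have hu1 : core u H ≠ ⊥ := fun e => k.piv'.ne_bot (eq_bot_iff.mpr (huH.trans e.le))
  refine hle.trans ?_
  by_cases hr1 : core r H = ⊥
  · refine le_of_eq (h.max_eq_of_cores h3 hH k.piv.max k.tern.uq.symm hq1 hu1
      (fun e => k.piv.ne_bot (eq_bot_iff.mpr (k.piv.le_core.trans e.le)))
      (fun e => k.piv'.ne_bot (eq_bot_iff.mpr (k.piv'.le_core.trans e.le)))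
      (fun t ht h1 h2 => ?_) (fun t ht h1 h2 => ?_)
      ((h.core_le_single h3 Fact.out hH).trans (h.single_le_pivot h3 k.piv))
      ((h.core_le_single h3 Fact.out hH).trans (h.single_le_pivot h3 k.piv')))
    all_goals
      by_cases htm : t ∈ primes A θ
      · obtain rfl : t = r := by
          rcases k.tern.only t htm with e | e | e
          · exact absurd e h1
          · exact absurd e h2
          · exact e
        first
          | exact hr1
          | exact h.caseI_core_r h3 k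
      · first
          | exact h.core_eq_bot_of_notMem hH.1 ht htm
          | exact h.core_eq_bot_of_notMem k.piv.max.1 ht htm
  · have hle' : core q H ≤ kernelAt p A θ q := by
      refine le_iInf fun v => ?_
      haveI := fact_of_mem v.2.1
      refine h.core_le_layer h3 hH (Ne.symm v.2.2) ?_
      rcases k.tern.only v v.2.1 with e | e | e
      · exact absurd e v.2.2
      · rw [e]; exact hu1
      · rw [e]; exact hr1
    have e : core q H = kernelAt p A θ q := le_antisymm hle' hqH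
    exact k.piv.absorbs H hH.1 (e ▸ le_normalizer_core)

theorem caseI_ne : P ≠ Pu := by
  intro e
  obtain ⟨D, hD, hbad⟩ := h.exists_bad h3 k.piv
  obtain ⟨⟨a, ha⟩, hne⟩ := (ne_bot_iff_exists_ne_one).mp
    (inf_hyperplanes_ne_bot h.elem h.pow_le hD.1 hD.2 k.planeP.2)
  have ha1 : a ≠ 1 := fun e' => hne (Subtype.ext e')
  exact hbad ((signalizerInf_le ha.1 ha1).trans (h.caseI_common h3 k ha.2 (e ▸ ha.2) ha1))

/-- The fixed element of a bad plane in the other weight plane meets the `q`-core trivially. -/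
theorem caseI_inf_theta (hD : IsPlane p A D) (hbad : ¬ Cfsg.signalizerInf D θ ≤ M) {d : G}
    (hdD : d ∈ D) (hdPu : d ∈ Pu) (hd1 : d ≠ 1) : core q M ⊓ θ d = ⊥ := by
  haveI := fact_of_mem k.tern.mq
  haveI := fact_of_mem k.tern.mu
  haveI := fact_of_mem k.tern.mr
  have hdA := hD.1 hdD
  obtain ⟨H, hH, hle⟩ := h.exists_max_ge_theta hdA hd1
  have hqH : core q H = ⊥ := by
    by_contra hne
    have hdP := h.line_mem_of_bad h3 k.piv k.planeP k.fixP hD hbad hdD ⟨H, hH, hle, hne⟩
    exact hbad ((signalizerInf_le hdD hd1).trans (h.caseI_common h3 k hdP hdPu hd1))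
  rw [eq_bot_iff]
  refine le_trans (inf_le_inf_left _ hle) ?_
  intro z hz
  rw [← hqH]
  refine mem_core_of_centralizes hH.1.1 hz.2 isPGroup_core hz.1 fun t ht => ?_
  haveI := Fact.mk ht
  by_cases htm : core t H = ⊥
  · rw [htm]; exact le_centralizer_bot (H := zpowers z) (mem_zpowers z)
  have htq : t ≠ q := fun e => htm (e ▸ hqH)
  have htM : core t H ≤ M := by
    by_cases htu : t = u
    · exact htu ▸ (h.core_le_single h3 Fact.out hH).trans (h.single_le_pivot h3 k.piv')
    by_cases htπ : t ∈ primes A θ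
    swap
    · exact absurd (h.core_eq_bot_of_notMem hH.1 ht htπ) htm
    obtain rfl : t = r := by
      rcases k.tern.only t htπ with e | e | e
      · exact absurd e htq
      · exact absurd e htu
      · exact e
    refine k.piv'.absorbs _ (h.core_member hH.1) ?_
    have hu1 : core u H ≠ ⊥ := fun e => k.piv'.ne_bot (eq_bot_iff.mpr (e ▸ le_trans
      (le_inf le_rfl ((le_inf le_rfl (k.fixPu.trans
        (centralizer_le (Set.singleton_subset_iff.mpr hdPu)))).trans
        ((h.kernelAt_member h3 u).2.2.2 d hdA hd1) |>.trans hle))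
      (h.kernelAt_inf_le h3 k.tern.mu hH.1 (hH.2.1.trans le_normalizer))))
    refine le_trans ?_ (centralizer_le_normalizer _)
    refine le_trans ((h.core_le_layer h3 hH k.tern.ru hu1).trans
      (h.layer_comm h3 k.tern.mr.1 k.tern.mu.1 k.tern.ru)) (centralizer_le ?_)
    exact h.kernelAt_le_layer h3 k.tern.mr k.tern.ru
  have hc := le_centralizer_of_normalizes (Ne.symm htq) (isPGroup_core.to_le inf_le_left) isPGroup_core
    ((inf_le_right : core q M ⊓ H ≤ H).trans le_normalizer_core)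
    (CfsgLib.Signalizer74.le_normalizer_inf (htM.trans le_normalizer_core) (core_le.trans le_normalizer))
  exact hc hz

theorem caseI_exists_d (hD : IsPlane p A D) (hbad : ¬ Cfsg.signalizerInf D θ ≤ M) :
    ∃ d, d ∈ D ∧ d ∈ Pu ∧ d ≠ 1 ∧ core q M ⊓ θ d = ⊥ := by
  obtain ⟨⟨a, ha⟩, hne⟩ := (ne_bot_iff_exists_ne_one).mp
    (inf_hyperplanes_ne_bot h.elem h.pow_le hD.1 hD.2 k.planePu.2)
  have ha1 : a ≠ 1 := fun e' => hne (Subtype.ext e')
  exact ⟨a, ha.1, ha.2, ha1, h.caseI_inf_theta h3 k hD hbad ha.1 ha.2 ha1⟩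

/-- If the elements with value in `M` span, the `q`-core lies in the kernel. -/
theorem caseI_core_le_of_span
    (hspan : ∀ F, IsPlane p A F → ∃ a ∈ A, a ∉ F ∧ θ a ≤ M) :
    core q M ≤ kernelAt p A θ q := by
  haveI := fact_of_mem k.tern.mq
  haveI := fact_of_mem k.tern.mu
  haveI := fact_of_mem k.tern.mr
  refine le_iInf fun v => ?_
  haveI := fact_of_mem v.2.1
  rcases k.tern.only v v.2.1 with e | e | e
  · exact absurd e v.2.2
  · rw [e]
    exact h.core_le_layer h3 k.piv.max k.tern.uq.symm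
      fun e' => k.piv'.ne_bot (eq_bot_iff.mpr (k.piv'.le_core.trans e'.le))
  rw [e]
  obtain ⟨D, hD, hbad⟩ := h.exists_bad h3 k.piv
  obtain ⟨d, hdD, -, hd1, hdz⟩ := h.caseI_exists_d h3 k hD hbad
  have hTQ : core q M ⊓ centralizer (A : Set G) = ⊥ := eq_bot_iff.mpr (le_trans (le_inf inf_le_left
    ((inf_le_inf_right _ core_le).trans ((member_inf_centralizer_le k.piv.max.1).trans
      (signalizerInf_le (hD.1 hdD) hd1)))) hdz.le)
  have hU := h.pair_isTop h3 q r
  have hQU : core q M ≤ Top p A θ {q, r} :=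
    (h.core_le_single h3 Fact.out k.piv.max).trans (h.single_le_pair h3 q r)
  refine le_trans (h.member_le_of_planes (W := core' r (Top p A θ {q, r})) (h.core_member k.piv.max.1)
    fun F hF => ?_) (le_core core'_le le_normalizer_core' ?_)
  · obtain ⟨a, haA, haF, haM⟩ := hspan F hF
    have ha1 : a ≠ 1 := fun e => haF (e ▸ one_mem F)
    refine le_core'_of_fpf (p := p) (h.elem.2 a haA) (member_normalized hU.1 haA)
      (CfsgLib.Signalizer74.le_normalizer_inf (member_normalized (h.core_member k.piv.max.1))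
        (conj_mem_centralizer h.elem hF.1) haA)
      hU.1.2.1 hU.1.1 (inf_le_left.trans hQU)
      (not_dvd_of_isPGroup (isPGroup_core.to_le inf_le_left) k.tern.rq) ?_ ?_
    · exact eq_bot_iff.mpr (le_trans (le_inf (inf_le_left.trans inf_le_left)
        (le_trans (inf_le_inf_right _ inf_le_right) (h.inf_centralizer_plane_le hF haA haF))) hTQ.le)
    · exact not_dvd_of_isPGroup ((isPGroup_core : IsPGroup q (core q M)).to_le
        ((commutator_mono inf_le_left ((hU.1.2.2.2 a haA ha1).trans haM)).trans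
          (CfsgLib.Coprime.commutator_le_of_normalizes le_normalizer_core))) k.tern.rq
  · refine IsPGroup.of_card (Nat.eq_prime_pow_of_unique_prime_dvd Nat.card_pos.ne' fun {d} hd hdvd => ?_)
    rcases Set.mem_insert_iff.mp (hU.2.2.1 d hd (hdvd.trans (card_dvd_of_le core'_le))) with e | e
    · exact e
    · exact absurd ((Set.mem_singleton_iff.mp e) ▸ hdvd) not_dvd_core'

/-- If the common element centralizes `O_q(U_{qr})`, the `q`-core lies in the kernel. -/
theorem caseI_core_le_of_fixed {l : G} (hlP : l ∈ P) (hlPu : l ∈ Pu) (hl1 : l ≠ 1)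
    (hW : layer p A θ q r ≤ centralizer {l}) : core q M ≤ kernelAt p A θ q := by
  haveI := fact_of_mem k.tern.mq
  haveI := fact_of_mem k.tern.mu
  haveI := fact_of_mem k.tern.mr
  have hU := h.pair_isTop h3 q r
  have hUM : Top p A θ {q, r} ≤ M := by
    refine h.member_le_of_planes hU.1 fun B hB => ?_
    by_cases hgood : Cfsg.signalizerInf B θ ≤ M
    · exact (h.inf_centralizer_le_thetaPlane hB hU.1).trans hgood
    obtain ⟨c, hcD, hc1, -, hlc, -, -⟩ := h.bad_plane h3 k.piv hB hgood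
    have hcP := h.line_mem_of_bad h3 k.piv k.planeP k.fixP hB hgood hcD hlc
    have hln : c ∉ zpowers l := by
      intro e
      have hz : zpowers c = zpowers l := eq_of_le_of_card_ge (zpowers_le.mpr e) (by
        rw [Nat.card_zpowers, Nat.card_zpowers, orderOf_eq_prime (h.elem.2 c (hB.1 hcD)) hc1,
          orderOf_eq_prime (h.elem.2 l (k.planeP.1 hlP)) hl1])
      have hlB : l ∈ B := (zpowers_le.mpr hcD) (hz ▸ mem_zpowers l)
      exact hgood ((signalizerInf_le hlB hl1).trans (h.caseI_common h3 k hlP hlPu hl1))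
    refine h.le_of_fixed_le h3 k.piv k.planeP k.fixP hB hgood
      (member_inf hU.1 (conj_mem_centralizer h.elem hB.1)) inf_le_right
      (inf_le_left.trans le_normalizer_core) (h.kernelAt_le_layer h3 k.tern.mr k.tern.rq) hcD hcP ?_
    exact (inf_le_inf_right _ hW).trans (h.plane_le_centralizer k.planeP hlP hcP hl1 hln)
  refine le_iInf fun v => ?_
  haveI := fact_of_mem v.2.1
  rcases k.tern.only v v.2.1 with e | e | e
  · exact absurd e v.2.2
  · rw [e]
    exact h.core_le_layer h3 k.piv.max k.tern.uq.symm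
      fun e' => k.piv'.ne_bot (eq_bot_iff.mpr (k.piv'.le_core.trans e'.le))
  · rw [e]
    exact le_core ((h.core_le_single h3 Fact.out k.piv.max).trans (h.single_le_pair h3 q r))
      (hUM.trans le_normalizer_core) isPGroup_core

theorem caseI_layer_fixed_of_odd (hp2 : p ≠ 2) {B₀ : Subgroup G} (hB₀ : IsPlane p A B₀)
    (hcov : ∀ a ∈ A, a ≠ 1 → θ a ≤ M → a ∈ B₀) {l : G} (hlP : l ∈ P) (hlPu : l ∈ Pu) (hl1 : l ≠ 1) :
    layer p A θ q r ≤ centralizer {l} := by
  haveI := fact_of_mem k.tern.mq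
  haveI := fact_of_mem k.tern.mu
  haveI := fact_of_mem k.tern.mr
  have hlB₀ : l ∈ B₀ := hcov l (k.planeP.1 hlP) hl1 (h.caseI_common h3 k hlP hlPu hl1)
  refine h.member_le_of_planes (h.layer_member h3 q r) fun F hF => ?_
  by_cases hlF : l ∈ F
  · exact inf_le_right.trans (centralizer_le (Set.singleton_subset_iff.mpr hlF))
  obtain ⟨a, haF, ha1, haP, haPu, haB⟩ : ∃ a ∈ F, a ≠ 1 ∧ a ∉ P ∧ a ∉ Pu ∧ a ∉ B₀ := by
    by_contra hcon
    push Not at hcon
    have hsub : (F : Set G) \ {1} ⊆ ((↑(F ⊓ P) : Set G) \ {1}) ∪ ((↑(F ⊓ Pu) : Set G) \ {1}) ∪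
        ((↑(F ⊓ B₀) : Set G) \ {1}) := by
      rintro a ⟨haF, ha1⟩
      simp only [Set.mem_singleton_iff] at ha1
      by_cases h1 : a ∈ P
      · exact Or.inl (Or.inl ⟨⟨haF, h1⟩, ha1⟩)
      by_cases h2 : a ∈ Pu
      · exact Or.inl (Or.inr ⟨⟨haF, h2⟩, ha1⟩)
      exact Or.inr ⟨⟨haF, hcon a haF ha1 h1 h2⟩, ha1⟩
    have hcard : ∀ K : Subgroup G, ((K : Set G) \ {1}).ncard + 1 = Nat.card K := fun K =>
      (Set.ncard_sdiff_singleton_add_one K.one_mem (Set.toFinite _)).trans
        (Nat.card_coe_set_eq (K : Set G)).symm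
    have e1 := h.plane_inf_card hF k.planeP fun e => hlF (e ▸ hlP)
    have e2 := h.plane_inf_card hF k.planePu fun e => hlF (e ▸ hlPu)
    have e3 := h.plane_inf_card hF hB₀ fun e => hlF (e ▸ hlB₀)
    have e4 := h.plane_card hF
    rw [← hcard] at e1 e2 e3 e4
    have h5 := (Set.ncard_le_ncard hsub (Set.toFinite _)).trans
      ((Set.ncard_union_le _ _).trans (Nat.add_le_add_right (Set.ncard_union_le _ _) _))
    have hp3 : 3 ≤ p := by have := hp.out.two_le; omega
    nlinarith
  have haA := hF.1 haF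
  have hnq : ¬ IsLine p A θ q a := fun hl => haB (hcov a haA ha1 (k.piv.absorbs _
    (h.theta_member haA ha1) (h.theta_le_normalizer_of_line h3 k.piv k.planeP k.fixP haA haP hl)))
  have hnu : ¬ IsLine p A θ u a := fun hl => haB (hcov a haA ha1 (k.piv'.absorbs _
    (h.theta_member haA ha1) (h.theta_le_normalizer_of_line h3 k.piv' k.planePu k.fixPu haA haPu hl)))
  obtain ⟨H, hH, hle⟩ := h.exists_max_ge_theta haA ha1
  have ho : OnlyCore r H := by
    intro t ht htr
    by_contra hne
    by_cases htm : t ∈ primes A θ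
    · rcases k.tern.only t htm with e | e | e
      · exact hnq ⟨H, hH, hle, e ▸ hne⟩
      · exact hnu ⟨H, hH, hle, e ▸ hne⟩
      · exact htr e
    · exact hne (h.core_eq_bot_of_notMem hH.1 ht htm)
  have h0 := h.inf_eq_bot_of_onlyCore h3 hH ho k.tern.rq.symm (Z := layer p A θ q r)
    (isPGroup_core : IsPGroup q (layer p A θ q r))
    ((h.core_le_single h3 Fact.out hH).trans (h.layer_normalized h3 q r).2)
  refine le_trans (le_inf inf_le_left ?_) (h0.le.trans bot_le)
  exact ((inf_le_inf_left _ (centralizer_le (Set.singleton_subset_iff.mpr haF))).trans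
    ((h.layer_member h3 q r).2.2.2 a haA ha1)).trans hle

theorem caseI_core_fixed_of_two (hp2 : p = 2) {l : G} (hlP : l ∈ P) (hlPu : l ∈ Pu) (hl1 : l ≠ 1) :
    core q M ≤ centralizer {l} := by
  obtain ⟨P', hP', hfix', D₁, D₂, d₁, d₂, hD₁, hD₂, hb₁, hb₂, hd₁, hd₁P, hd₁1, hd₂, hd₂P, hd₂1, hind⟩ :=
    h.weight_plane h3 k.piv'
  -- the weight plane is unique
  have hPP : P' = Pu := by
    by_contra hne
    have huA : kernelAt p A θ u ⊓ centralizer (A : Set G) = ⊥ :=
      h.kernel_inf_centralizer_eq_bot h3 k.piv'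
    refine k.piv'.ne_bot (eq_bot_iff.mpr (le_trans (le_inf le_rfl ?_) huA.le))
    intro z hz
    obtain ⟨b, hb, hbn⟩ : ∃ b ∈ Pu, b ∉ P' := by
      by_contra hcon
      push Not at hcon
      exact hne (eq_of_le_of_card_ge hcon (by rw [h.plane_card hP', h.plane_card k.planePu])).symm
    exact h.inf_centralizer_plane_le hP' (k.planePu.1 hb) hbn
      ⟨hfix' hz, centralizer_le (Set.singleton_subset_iff.mpr hb) (k.fixPu hz)⟩
  subst hPP
  have hl_notmem : ∀ {D' : Subgroup G}, ¬ Cfsg.signalizerInf D' θ ≤ M → l ∉ D' := fun hb hl =>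
    hb ((signalizerInf_le hl hl1).trans (h.caseI_common h3 k hlP hlPu hl1))
  have hl₁ : l ≠ d₁ := fun e => hl_notmem hb₁ (e ▸ hd₁)
  have hl₂ : l ≠ d₂ := fun e => hl_notmem hb₂ (e ▸ hd₂)
  have h12 : d₁ ≠ d₂ := fun e => hind (e ▸ mem_zpowers d₁)
  refine h.member_le_of_planes (h.core_member k.piv.max.1) fun F hF => ?_
  by_cases hlF : l ∈ F
  · exact inf_le_right.trans (centralizer_le (Set.singleton_subset_iff.mpr hlF))
  obtain ⟨⟨b, hb⟩, hbne⟩ := (ne_bot_iff_exists_ne_one).mp
    (inf_hyperplanes_ne_bot h.elem h.pow_le hF.1 hF.2 k.planePu.2)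
  have hb1 : b ≠ 1 := fun e => hbne (Subtype.ext e)
  have hsub : ({1, d₁, d₂, l} : Set G) ⊆ (P' : Set G) := by
    rintro a (rfl | rfl | rfl | rfl)
    exacts [one_mem _, hd₁P, hd₂P, hlPu]
  have h4 : ({1, d₁, d₂, l} : Set G).ncard = 4 := by
    rw [Set.ncard_insert_of_notMem (by simp [Ne.symm hd₁1, Ne.symm hd₂1, Ne.symm hl1]),
      Set.ncard_insert_of_notMem (by simp [h12, hl₁.symm]),
      Set.ncard_pair hl₂.symm]
  have heq := Set.eq_of_subset_of_ncard_le hsub (by
    rw [h4, ← Nat.card_coe_set_eq, SetLike.coe_sort_coe, h.plane_card hP', hp2]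
    norm_num) (Set.toFinite _)
  have hbm : b ∈ ({1, d₁, d₂, l} : Set G) := heq ▸ hb.2
  refine le_trans ?_ (bot_le (a := centralizer ({l} : Set G)))
  have key : ∀ d D', IsPlane p A D' → ¬ Cfsg.signalizerInf D' θ ≤ M → d ∈ D' → d ∈ P' → d ≠ 1 → b = d →
      core q M ⊓ centralizer (F : Set G) ≤ ⊥ := by
    rintro d D' hD' hbad' hdD hdP hd1 rfl
    rw [← h.caseI_inf_theta h3 k hD' hbad' hdD hdP hd1]
    exact le_inf inf_le_left
      (((inf_le_inf_left _ (centralizer_le (Set.singleton_subset_iff.mpr hb.1)))).trans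
        ((h.core_member k.piv.max.1).2.2.2 b (hF.1 hb.1) hb1))
  rcases hbm with e | e | e | e
  · exact absurd e hb1
  · exact key d₁ D₁ hD₁ hb₁ hd₁ hd₁P hd₁1 e
  · exact key d₂ D₂ hD₂ hb₂ hd₂ hd₂P hd₂1 e
  · exact absurd hb.1 (e ▸ hlF)

theorem false_of_caseI : False := by
  haveI := fact_of_mem k.tern.mq
  haveI := fact_of_mem k.tern.mu
  haveI := fact_of_mem k.tern.mr
  suffices hboth : core q M ≤ kernelAt p A θ q ∧ core u M ≤ kernelAt p A θ u by
    obtain ⟨D, hD, hbad⟩ := h.exists_bad h3 k.piv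
    obtain ⟨c, hcD, hc1, hEc, -, -, -⟩ := h.bad_plane h3 k.piv hD hbad
    refine h.false_of_core_le h3 k.piv hD hbad hcD hc1 hEc hboth.1 fun w hw hwq => ?_
    refine le_trans (CfsgLib.Coprime.commutator_le_of_normalizes
      (((zpowers_le.mpr (hD.1 hcD)).trans (member_normalized k.piv.max.1)).trans
        normalizer_le_normalizer_core)) ?_
    rcases k.tern.only w hw with e | e | e
    · exact absurd e hwq
    · rw [e]; exact hboth.2
    · rw [e, h.caseI_core_r h3 k]; exact bot_le
  by_cases hspan : ∀ F, IsPlane p A F → ∃ a ∈ A, a ∉ F ∧ θ a ≤ M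
  · exact ⟨h.caseI_core_le_of_span h3 k hspan, h.caseI_core_le_of_span h3 k.symm hspan⟩
  push Not at hspan
  obtain ⟨B₀, hB₀, hcov'⟩ := hspan
  have hcov : ∀ a ∈ A, a ≠ 1 → θ a ≤ M → a ∈ B₀ := fun a ha _ hle => by
    by_contra hn
    exact hcov' a ha hn hle
  obtain ⟨⟨l, hl⟩, hlne⟩ := (ne_bot_iff_exists_ne_one).mp
    (inf_hyperplanes_ne_bot h.elem h.pow_le k.planeP.1 k.planeP.2 k.planePu.2)
  have hl1 : l ≠ 1 := fun e => hlne (Subtype.ext e)
  have hfix : layer p A θ q r ≤ centralizer {l} ∧ layer p A θ u r ≤ centralizer {l} := by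
    by_cases hp2 : p = 2
    · have hlA := k.planeP.1 hl.1
      have hM : M ≤ centralizer {l} := by
        refine le_centralizer_of_cores k.piv.max.1.1 (member_normalized k.piv.max.1 hlA)
          ((h.coprime k.piv.max.1).coprime_dvd_left (card_dvd_of_le (zpowers_le.mpr hlA))) fun t ht => ?_
        by_cases htm : t ∈ primes A θ
        · rcases k.tern.only t htm with e | e | e
          · rw [e]; exact h.caseI_core_fixed_of_two h3 k hp2 hl.1 hl.2 hl1
          · rw [e]; exact h.caseI_core_fixed_of_two h3 k.symm hp2 hl.2 hl.1 hl1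
          · rw [e, h.caseI_core_r h3 k]; exact bot_le
        · rw [h.core_eq_bot_of_notMem k.piv.max.1 ht htm]; exact bot_le
      exact ⟨((h.layer_le_single h3 k.tern.mq.1 r).trans (h.single_le_pivot h3 k.piv)).trans hM,
        ((h.layer_le_single h3 k.tern.mu.1 r).trans (h.single_le_pivot h3 k.piv')).trans hM⟩
    · exact ⟨h.caseI_layer_fixed_of_odd h3 k hp2 hB₀ hcov hl.1 hl.2 hl1,
        h.caseI_layer_fixed_of_odd h3 k.symm hp2 hB₀ hcov hl.2 hl.1 hl1⟩
  exact ⟨h.caseI_core_le_of_fixed h3 k hl.1 hl.2 hl1 hfix.1,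
    h.caseI_core_le_of_fixed h3 k.symm hl.2 hl.1 hl1 hfix.2⟩

omit k in
/-- Two kernels are impossible. -/
theorem kernelAt_eq_bot_of_pivot (t : Ternary A θ q u r) (hP : Pivot p A θ q M) :
    kernelAt p A θ u = ⊥ := by
  by_contra hu
  haveI := fact_of_mem t.mq
  haveI := fact_of_mem t.mu
  haveI := fact_of_mem t.mr
  obtain ⟨Mu, hPu⟩ := h.exists_pivot_at h3 t.mu hu
  have hcomm : kernelAt p A θ q ≤ centralizer (kernelAt p A θ u : Set G) :=
    (h.kernelAt_le_layer h3 t.mu t.uq).trans ((h.layer_comm h3 t.mq.1 t.mu.1 t.uq.symm).trans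
      (centralizer_le (h.kernelAt_le_layer h3 t.mq t.uq.symm)))
  have huM : kernelAt p A θ u ≤ core u M := le_trans (le_inf le_rfl (hP.absorbs _ (h.kernelAt_member h3 u)
      ((le_centralizer_iff.mp hcomm).trans (centralizer_le_normalizer _))))
    (h.kernelAt_inf_le h3 t.mu hP.max.1 (hP.max.2.1.trans le_normalizer))
  have hqMu : kernelAt p A θ q ≤ core q Mu := le_trans (le_inf le_rfl (hPu.absorbs _ (h.kernelAt_member h3 q)
      (hcomm.trans (centralizer_le_normalizer _))))
    (h.kernelAt_inf_le h3 t.mq hPu.max.1 (hPu.max.2.1.trans le_normalizer))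
  have hu1 : core u M ≠ ⊥ := fun e => hu (eq_bot_iff.mpr (huM.trans e.le))
  have hq1 : core q Mu ≠ ⊥ := fun e => hP.ne_bot (eq_bot_iff.mpr (hqMu.trans e.le))
  have hrM : core r M = ⊥ := by
    by_contra hne
    exact h.false_of_all_cores h3 t hP hu1 hne
  have hrMu : core r Mu = ⊥ := by
    by_contra hne
    exact h.false_of_all_cores h3 t.rot hPu hq1 hne
  have ho : ∀ {X : Subgroup G}, IsMax p A θ X → core r X = ⊥ → ∀ w : ℕ, w.Prime → w ≠ q → w ≠ u →
      core w X = ⊥ := by
    intro X hX hr w hw h1 h2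
    by_cases hwm : w ∈ primes A θ
    · rcases t.only w hwm with e | e | e
      · exact absurd e h1
      · exact absurd e h2
      · rw [e]; exact hr
    · exact h.core_eq_bot_of_notMem hX.1 hw hwm
  have hqM : core q M ≤ Mu := by
    refine hPu.absorbs _ (h.core_member hP.max.1) ?_
    exact ((commutator_eq_bot_iff_le_centralizer.mp (commutator_core_eq_bot t.uq.symm)).trans
      (centralizer_le huM)).trans (centralizer_le_normalizer _)
  have heq := h.max_eq_of_cores h3 hP.max hPu.max t.uq.symm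
    (fun e => hP.ne_bot (eq_bot_iff.mpr (hP.le_core.trans e.le))) hu1 hq1
    (fun e => hPu.ne_bot (eq_bot_iff.mpr (hPu.le_core.trans e.le)))
    (ho hP.max hrM) (ho hPu.max hrMu) hqM
    ((h.core_le_single h3 Fact.out hP.max).trans (h.single_le_pivot h3 hPu))
  subst heq
  obtain ⟨P, hPl, hfP, -⟩ := h.weight_plane h3 hP
  obtain ⟨Pu, hPlu, hfPu, -⟩ := h.weight_plane h3 hPu
  exact h.false_of_caseI h3 ⟨t, hP, hPu, hPl, hPlu, hfP, hfPu⟩

end Minimal

end CfsgLib.Signalizer74
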