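import Cfsg.Agent.Lib.Signalizer74.ThreeI

/-!
# Three primes, one nontrivial kernel
-/

set_option autoImplicit false
set_option linter.style.haveILetI false
set_option linter.unusedSectionVars false

namespace CfsgLib.Signalizer74

open Subgroup CfsgLib.Signalizer
open scoped Pointwise commutatorElement

variable {G : Type*} [Group G] [Finite G] {p q r u x y : ℕ} [hp : Fact p.Prime] {A : Subgroup G}
  {θ : G → Subgroup G} {B D F H L M P Z : Subgroup G}

/-- An element whose value lies in a maximal member with only the `x`-core. -/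
def PointOnly (p : ℕ) (A : Subgroup G) (θ : G → Subgroup G) (x : ℕ) (a : G) : Prop :=
  a ∈ A ∧ a ≠ 1 ∧ ∃ H, Minimal.IsMax p A θ H ∧ θ a ≤ H ∧ OnlyCore x H

/-- An element whose value lies in a maximal member with `u`- and `r`-cores and no `q`-core. -/
def PointBoth (p : ℕ) (A : Subgroup G) (θ : G → Subgroup G) (q u r : ℕ) (a : G) : Prop :=
  a ∈ A ∧ a ≠ 1 ∧ ∃ H, Minimal.IsMax p A θ H ∧ θ a ≤ H ∧
    core q H = ⊥ ∧ core u H ≠ ⊥ ∧ core r H ≠ ⊥

theorem PointBoth.swap {a : G} (h : PointBoth p A θ q u r a) : PointBoth p A θ q r u a := by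
  obtain ⟨ha, ha1, H, hH, hle, h1, h2, h3⟩ := h
  exact ⟨ha, ha1, H, hH, hle, h1, h3, h2⟩

namespace Minimal

variable (h : Minimal p A θ)
include h

omit h in
/-- The situation of a single kernel. -/
structure CaseII (p : ℕ) (A : Subgroup G) (θ : G → Subgroup G) (q u r : ℕ) (M P : Subgroup G) :
    Prop where
  tern : Ternary A θ q u r
  piv : Pivot p A θ q M
  planeP : IsPlane p A P
  fixP : kernelAt p A θ q ≤ centralizer (P : Set G)
  ker_u : kernelAt p A θ u = ⊥
  ker_r : kernelAt p A θ r = ⊥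

omit h in
theorem CaseII.symm (k : CaseII p A θ q u r M P) : CaseII p A θ q r u M P :=
  ⟨k.tern.swap, k.piv, k.planeP, k.fixP, k.ker_r, k.ker_u⟩

theorem centralizer_element (hD : IsPlane p A D) {a c : G} (hc : c ∈ D) (hc1 : c ≠ 1) (ha : a ∈ D)
    (hac : a ∉ zpowers c) {S : Subgroup G} (hS₁ : S ≤ centralizer {c}) (hS₂ : S ≤ centralizer {a}) :
    S ≤ centralizer (D : Set G) :=
  (le_inf hS₁ hS₂).trans (h.plane_le_centralizer hD hc ha hc1 hac)

variable (h3 : ThreePrimes A θ) (k : CaseII p A θ q u r M P)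
include h3 k

theorem layer_inf_eq_bot : layer p A θ u q ⊓ layer p A θ u r = ⊥ := by
  rw [eq_bot_iff, ← k.ker_u]
  refine le_iInf fun v => ?_
  rcases k.tern.only v v.2.1 with e | e | e
  · rw [e]; exact inf_le_left
  · exact absurd e v.2.2
  · rw [e]; exact inf_le_right

theorem layer_le_centralizer_layer :
    layer p A θ u r ≤ centralizer (layer p A θ u q : Set G) :=
  le_centralizer_of_inf_eq_bot
    ((h.layer_le_single h3 k.tern.mu.1 r).trans (h.layer_normalized h3 u q).1)
    ((h.layer_le_single h3 k.tern.mu.1 q).trans (h.layer_normalized h3 u r).1)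
    (by rw [inf_comm]; exact h.layer_inf_eq_bot h3 k)

/-- Only the trivial part of `O_u(U_{ur})` centralizes `O_q(U_{qu})`. -/
theorem eq_bot_of_centralizes_layer (hZ : Z ≤ layer p A θ u r)
    (hc : Z ≤ centralizer (layer p A θ q u : Set G)) : Z = ⊥ := by
  haveI := fact_of_mem k.tern.mu
  haveI := fact_of_mem k.tern.mq
  have hU := h.pair_isTop h3 q u
  rw [eq_bot_iff, ← h.layer_inf_eq_bot h3 k]
  refine le_inf (fun z hz => ?_) hZ
  have hzU : z ∈ Top p A θ {q, u} :=
    h.single_le_pair' h3 q u (h.layer_le_single h3 k.tern.mu.1 r (hZ hz))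
  have h1 : z ∈ core u (Top p A θ {q, u}) := by
    refine mem_core_of_centralizes hU.1.1 hzU (S := layer p A θ u r) isPGroup_core (hZ hz) fun t ht => ?_
    haveI := Fact.mk ht
    by_cases htq : t = q
    · rw [htq]; exact hc hz
    by_cases htu : t = u
    · rw [htu]
      have h2 := h.layer_le_centralizer_layer h3 k (hZ hz)
      rwa [layer, Set.pair_comm] at h2
    rw [h.core_eq_bot hU.2.2.1 (by
      rintro (e | e)
      · exact htq e
      · exact htu (Set.mem_singleton_iff.mp e))]
    exact le_centralizer_bot (H := Z) hz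
  rw [layer, Set.pair_comm]
  exact h1

/-- Only the trivial part of `O_u(U_{ur})` centralizes the `q`-core of the pivot. -/
theorem eq_bot_of_centralizes_core (hZ : Z ≤ layer p A θ u r)
    (hc : Z ≤ centralizer (core q M : Set G)) : Z = ⊥ := by
  haveI := fact_of_mem k.tern.mu
  haveI := fact_of_mem k.tern.mq
  haveI := fact_of_mem k.tern.mr
  have hq1 : core q M ≠ ⊥ := fun e => k.piv.ne_bot (eq_bot_iff.mpr (k.piv.le_core.trans e.le))
  set Z' := layer p A θ u r ⊓ centralizer (core q M : Set G) with hZ'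
  have hZm : Z' ∈ Cfsg.signalizerFamily p A θ := member_inf (h.layer_member h3 u r)
    ((member_normalized (h.core_member k.piv.max.1)).trans normalizer_le_normalizer_centralizer')
  have hZM : Z' ≤ M := h.le_max_of_core k.piv.max hq1 hZm (inf_le_right.trans (centralizer_le_normalizer _))
  rw [eq_bot_iff, ← h.layer_inf_eq_bot h3 k]
  refine le_inf (fun z hz => ?_) hZ
  have hz' : z ∈ Z' := ⟨hZ hz, hc hz⟩
  have h1 : z ∈ core u M := by
    refine mem_core_of_centralizes k.piv.max.1.1 (hZM hz') (S := layer p A θ u r) isPGroup_core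
      (hZ hz) fun t ht => ?_
    haveI := Fact.mk ht
    by_cases htm : t ∈ primes A θ
    · rcases k.tern.only t htm with e | e | e
      · rw [e]; exact hc hz
      · rw [e]
        exact centralizer_le (h.core_le_layer h3 k.piv.max k.tern.uq hq1)
          (h.layer_le_centralizer_layer h3 k (hZ hz))
      · rw [e]
        exact le_centralizer_of_normalizes k.tern.ru.symm
          ((isPGroup_core : IsPGroup u (layer p A θ u r)).to_le inf_le_left) isPGroup_core
          ((inf_le_right : layer p A θ u r ⊓ M ≤ M).trans le_normalizer_core)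
          (CfsgLib.Signalizer74.le_normalizer_inf
            ((h.core_le_single h3 Fact.out k.piv.max).trans (h.layer_normalized h3 u r).2)
            (core_le.trans le_normalizer))
          ⟨hZ hz, hZM hz'⟩
    · rw [h.core_eq_bot_of_notMem k.piv.max.1 ht htm]
      exact le_centralizer_bot (H := Z) hz
  exact h.core_le_layer h3 k.piv.max k.tern.uq hq1 h1

theorem point_cases {a : G} (ha : a ∈ A) (ha1 : a ≠ 1) (hn : ¬ IsLine p A θ q a) :
    PointOnly p A θ u a ∨ PointOnly p A θ r a ∨ PointBoth p A θ q u r a := by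
  obtain ⟨H, hH, hle⟩ := h.exists_max_ge_theta ha ha1
  have hq : core q H = ⊥ := by
    by_contra hne
    exact hn ⟨H, hH, hle, hne⟩
  have honly : ∀ v w : ℕ, (∀ t ∈ primes A θ, t = q ∨ t = v ∨ t = w) → core w H = ⊥ → OnlyCore v H := by
    intro v w hon hw t ht htv
    by_cases htm : t ∈ primes A θ
    · rcases hon t htm with e | e | e
      · rw [e]; exact hq
      · exact absurd e htv
      · rw [e]; exact hw
    · exact h.core_eq_bot_of_notMem hH.1 ht htm
  by_cases hr : core r H = ⊥
  · exact Or.inl ⟨ha, ha1, H, hH, hle, honly u r k.tern.only hr⟩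
  by_cases hu : core u H = ⊥
  · exact Or.inr (Or.inl ⟨ha, ha1, H, hH, hle, honly r u k.tern.swap.only hu⟩)
  exact Or.inr (Or.inr ⟨ha, ha1, H, hH, hle, hq, hu, hr⟩)

omit k in
/-- A layer meets the values at pure points trivially. -/
theorem layer_inf_theta_eq_bot (hy : y ∈ primes A θ) (hx : x ∈ primes A θ) (hyx : y ≠ x) {a : G}
    (ha : PointOnly p A θ x a) : layer p A θ y x ⊓ θ a = ⊥ := by
  haveI := fact_of_mem hy
  haveI := fact_of_mem hx
  obtain ⟨-, -, H, hH, hle, ho⟩ := ha
  refine eq_bot_iff.mpr ((inf_le_inf_left _ hle).trans (h.inf_eq_bot_of_onlyCore h3 hH ho hyx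
    (Z := layer p A θ y x) (isPGroup_core : IsPGroup y (layer p A θ y x)) ?_).le)
  exact (h.core_le_single h3 Fact.out hH).trans (h.layer_normalized h3 y x).2

omit k in
theorem inf_centralizer_le_theta {Y : Subgroup G} (hY : Y ∈ Cfsg.signalizerFamily p A θ)
    (hF : IsPlane p A F) {a : G} (haF : a ∈ F) (ha1 : a ≠ 1) :
    Y ⊓ centralizer (F : Set G) ≤ Y ⊓ θ a :=
  le_inf inf_le_left ((inf_le_inf_left _ (centralizer_le (Set.singleton_subset_iff.mpr haF))).trans
    (hY.2.2.2 a (hF.1 haF) ha1))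

omit k in
theorem inf_centralizer_A_le_theta {Y : Subgroup G} (hY : Y ∈ Cfsg.signalizerFamily p A θ) {a : G}
    (ha : a ∈ A) (ha1 : a ≠ 1) : Y ⊓ centralizer (A : Set G) ≤ Y ⊓ θ a :=
  le_inf inf_le_left ((member_inf_centralizer_le hY).trans (signalizerInf_le ha ha1))

theorem inf_bad_le {a c : G} (haD : a ∈ D) (haP : a ∈ P) (hD : IsPlane p A D)
    (hbad : ¬ Cfsg.signalizerInf D θ ≤ M) (hcD : c ∈ D) (hcP : c ∈ P) (hc1 : c ≠ 1) :
    a ∈ zpowers c :=
  h.mem_zpowers_of_planes hD k.planeP (h.bad_ne_plane h3 k.piv k.planeP k.fixP hD hbad)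
    hcD hcP hc1 haD haP

theorem exists_fix (hD : IsPlane p A D) (hbad : ¬ Cfsg.signalizerInf D θ ≤ M) :
    ∃ c ∈ D, c ∈ P ∧ c ≠ 1 := by
  obtain ⟨c, hcD, hc1, -, hl, -, -⟩ := h.bad_plane h3 k.piv hD hbad
  exact ⟨c, hcD, h.line_mem_of_bad h3 k.piv k.planeP k.fixP hD hbad hcD hl, hc1⟩

/-- Every plane but the weight plane has an element outside it lying in a bad plane. -/
theorem exists_point (hF : IsPlane p A F) (hFP : F ≠ P) :
    ∃ a ∈ F, a ∉ P ∧ a ≠ 1 ∧ ¬ IsLine p A θ q a := by
  obtain ⟨P', hP', hfix', D₁, D₂, c₁, c₂, hD₁, hD₂, hb₁, hb₂, hc₁, hc₁P, hc₁1, hc₂, hc₂P, hc₂1, hind⟩ :=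
    h.weight_plane h3 k.piv
  have hcP : ∀ {D' : Subgroup G} {c : G}, IsPlane p A D' → ¬ Cfsg.signalizerInf D' θ ≤ M → c ∈ D' →
      c ∈ P' → c ≠ 1 → c ∈ P := fun hD' hb hc hcP hc1 =>
    h.line_mem_of_bad h3 k.piv k.planeP k.fixP hD' hb hc (h.isLine_of_mem h3 k.piv hP' hfix' hcP hc1)
  by_contra hcon
  push Not at hcon
  have key : ∀ {D' : Subgroup G} {c : G}, IsPlane p A D' → ¬ Cfsg.signalizerInf D' θ ≤ M → c ∈ D' →
      c ∈ P → c ≠ 1 → c ∈ F := by
    intro D' c hD' hb hc hcP hc1
    obtain ⟨⟨a, ha⟩, hne⟩ := (ne_bot_iff_exists_ne_one).mp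
      (inf_hyperplanes_ne_bot h.elem h.pow_le hF.1 hF.2 hD'.2)
    have ha1 : a ≠ 1 := fun e => hne (Subtype.ext e)
    have haP : a ∈ P := by
      by_contra hn
      exact hn (h.line_mem_of_bad h3 k.piv k.planeP k.fixP hD' hb ha.2 (hcon a ha.1 hn ha1))
    have he : zpowers a = zpowers c := eq_of_le_of_card_ge
      (zpowers_le.mpr (h.inf_bad_le h3 k ha.2 haP hD' hb hc hcP hc1)) (by
        rw [Nat.card_zpowers, Nat.card_zpowers, orderOf_eq_prime (h.elem.2 c (hD'.1 hc)) hc1,
          orderOf_eq_prime (h.elem.2 a (hF.1 ha.1)) ha1])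
    exact (zpowers_le.mpr ha.1) (he ▸ mem_zpowers c)
  have h1 := hcP hD₁ hb₁ hc₁ hc₁P hc₁1
  have h2 := hcP hD₂ hb₂ hc₂ hc₂P hc₂1
  exact hFP (eq_of_le_of_card_ge (h.plane_le k.planeP h1 h2 hc₁1 hind
    (key hD₁ hb₁ hc₁ h1 hc₁1) (key hD₂ hb₂ hc₂ h2 hc₂1))
    (by rw [h.plane_card k.planeP, h.plane_card hF])).symm

theorem exists_point_bad (hD : IsPlane p A D) (hbad : ¬ Cfsg.signalizerInf D θ ≤ M) :
    ∃ a ∈ D, a ∉ P ∧ a ≠ 1 ∧ ¬ IsLine p A θ q a := by
  obtain ⟨a, ha, hn⟩ : ∃ a ∈ D, a ∉ P := by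
    by_contra hcon
    push Not at hcon
    exact h.bad_ne_plane h3 k.piv k.planeP k.fixP hD hbad
      (eq_of_le_of_card_ge hcon (by rw [h.plane_card hD, h.plane_card k.planeP]))
  exact ⟨a, ha, hn, fun e => hn (e ▸ one_mem P), fun hl =>
    hn (h.line_mem_of_bad h3 k.piv k.planeP k.fixP hD hbad ha hl)⟩

theorem point_notMem {a : G} (hn : ¬ IsLine p A θ q a) (ha1 : a ≠ 1) : a ∉ P := fun e =>
  hn (h.isLine_of_mem h3 k.piv k.planeP k.fixP e ha1)

/-- All bad planes equal is impossible. -/
theorem false_of_unique_bad (B : Subgroup G) (hB : ∀ D, IsPlane p A D →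
    ¬ Cfsg.signalizerInf D θ ≤ M → D = B) : False := by
  obtain ⟨P', hP', hfix', D₁, D₂, c₁, c₂, hD₁, hD₂, hb₁, hb₂, hc₁, hc₁P, hc₁1, hc₂, hc₂P, -, hind⟩ :=
    h.weight_plane h3 k.piv
  have he : D₂ = D₁ := (hB D₂ hD₂ hb₂).trans (hB D₁ hD₁ hb₁).symm
  exact h.bad_ne_plane h3 k.piv hP' hfix' hD₁ hb₁ (eq_of_le_of_card_ge
    (h.plane_le hP' hc₁P hc₂P hc₁1 hind hc₁ (he ▸ hc₂))
    (by rw [h.plane_card hD₁, h.plane_card hP'])).symm

/-! ### An element centralizing both layers at `u`, `r` -/

theorem top_le_centralizer {g : G} (hg : g ∈ A) (hu : layer p A θ u r ≤ centralizer {g})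
    (hr : layer p A θ r u ≤ centralizer {g}) : Top p A θ {u, r} ≤ centralizer {g} := by
  have hU := h.pair_isTop h3 u r
  refine le_centralizer_of_cores hU.1.1 (member_normalized hU.1 hg)
    ((h.coprime hU.1).coprime_dvd_left (card_dvd_of_le (zpowers_le.mpr hg))) fun t ht => ?_
  haveI := Fact.mk ht
  by_cases htu : t = u
  · exact htu ▸ hu
  by_cases htr : t = r
  · rw [htr]
    have h1 := hr
    rwa [layer, Set.pair_comm] at h1
  rw [h.core_eq_bot hU.2.2.1 (by
    rintro (e | e)
    · exact htu e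
    · exact htr (Set.mem_singleton_iff.mp e))]
  exact bot_le

theorem theta_le_of_end {g : G} (hg : g ∈ A) (hu : layer p A θ u r ≤ centralizer {g})
    (hr : layer p A θ r u ≤ centralizer {g}) {b : G} (hb : b ∈ A) (hb1 : b ≠ 1)
    (hnl : ¬ IsLine p A θ q b) : θ b ≤ centralizer {g} := by
  obtain ⟨H, hH, hle⟩ := h.exists_max_ge_theta hb hb1
  refine hle.trans (le_centralizer_of_cores hH.1.1 (member_normalized hH.1 hg)
    ((h.coprime hH.1).coprime_dvd_left (card_dvd_of_le (zpowers_le.mpr hg))) fun t ht => ?_)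
  have hT := h.top_le_centralizer h3 k hg hu hr
  by_cases htm : t ∈ primes A θ
  · rcases k.tern.only t htm with e | e | e
    · have : core q H = ⊥ := by
        by_contra hne
        exact hnl ⟨H, hH, hle, hne⟩
      rw [e, this]; exact bot_le
    · rw [e]
      exact ((h.core_le_single h3 k.tern.mu.1 hH).trans (h.single_le_pair h3 u r)).trans hT
    · rw [e]
      exact ((h.core_le_single h3 k.tern.mr.1 hH).trans (h.single_le_pair' h3 u r)).trans hT
  · rw [h.core_eq_bot_of_notMem hH.1 ht htm]; exact bot_le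

theorem mem_bad_of_end {g : G} (hg : g ∈ A) (hu : layer p A θ u r ≤ centralizer {g})
    (hr : layer p A θ r u ≤ centralizer {g}) (hD : IsPlane p A D)
    (hbad : ¬ Cfsg.signalizerInf D θ ≤ M) : g ∈ D := by
  by_contra hgD
  obtain ⟨b, hbD, -, hb1, hnl⟩ := h.exists_point_bad h3 k hD hbad
  refine hbad ?_
  have h1 : Cfsg.signalizerInf D θ ≤ centralizer (A : Set G) := fun z hz =>
    h.inf_centralizer_plane_le hD hg hgD ⟨h.thetaPlane_le_centralizer hD hz,
      h.theta_le_of_end h3 k hg hu hr (hD.1 hbD) hb1 hnl (signalizerInf_le hbD hb1 hz)⟩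
  exact ((le_inf le_rfl h1).trans (member_inf_centralizer_le (h.thetaPlane_member hD))).trans k.piv.max.2.1

theorem false_of_end {g : G} (hgP : g ∈ P) (hg1 : g ≠ 1) (hu : layer p A θ u r ≤ centralizer {g})
    (hr : layer p A θ r u ≤ centralizer {g}) : False :=
  h.false_of_common h3 k.piv (k.planeP.1 hgP) hg1
    (k.fixP.trans (centralizer_le (Set.singleton_subset_iff.mpr hgP)))
    fun _ hB hbad => h.mem_bad_of_end h3 k (k.planeP.1 hgP) hu hr hB hbad

theorem false_of_end_pair {g g' : G} (hg : g ∈ A) (hg' : g' ∈ A) (hg1 : g ≠ 1)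
    (hind : g' ∉ zpowers g)
    (hu : layer p A θ u r ≤ centralizer {g}) (hr : layer p A θ r u ≤ centralizer {g})
    (hu' : layer p A θ u r ≤ centralizer {g'}) (hr' : layer p A θ r u ≤ centralizer {g'}) : False := by
  obtain ⟨B, hB, hgB, hg'B⟩ := h.exists_plane hg hg'
  refine h.false_of_unique_bad h3 k B fun D hD hbad => (eq_of_le_of_card_ge
    (h.plane_le hB hgB hg'B hg1 hind (h.mem_bad_of_end h3 k hg hu hr hD hbad)
      (h.mem_bad_of_end h3 k hg' hu' hr' hD hbad)) ?_).symm
  rw [h.plane_card hB, h.plane_card hD]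

/-- An element outside a line and the weight plane, in a plane through both. -/
theorem exists_off_line (hF : IsPlane p A F) {b : G} (hbF : b ∈ F) (hbP : b ∉ P) :
    ∃ a ∈ F, a ∉ P ∧ a ≠ 1 ∧ a ∉ zpowers b := by
  obtain ⟨⟨c, hc⟩, hne⟩ := (ne_bot_iff_exists_ne_one).mp
    (inf_hyperplanes_ne_bot h.elem h.pow_le hF.1 hF.2 k.planeP.2)
  have hc1 : c ≠ 1 := fun e => hne (Subtype.ext e)
  have hne' : b * c ∉ P := fun e => hbP (by simpa using P.mul_mem e (P.inv_mem hc.2))
  refine ⟨b * c, F.mul_mem hbF hc.1, hne', fun e => hne' (e ▸ one_mem P), fun e => ?_⟩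
  have hcb : c ∈ zpowers b := by simpa using mul_mem (inv_mem (mem_zpowers b)) e
  have he : zpowers c = zpowers b := eq_of_le_of_card_ge (zpowers_le.mpr hcb) (by
    rw [Nat.card_zpowers, Nat.card_zpowers, orderOf_eq_prime (h.elem.2 b (hF.1 hbF))
      (fun e => hbP (e ▸ one_mem P)), orderOf_eq_prime (h.elem.2 c (hF.1 hc.1)) hc1])
  exact hbP ((zpowers_le.mpr hc.2) (he ▸ mem_zpowers b))

theorem exists_max_pair : ∃ L, IsMax p A θ L ∧ Top p A θ {u, r} ≤ L ∧ core q L = ⊥ ∧
    core u L ≤ layer p A θ u r ∧ core r L ≤ layer p A θ r u := by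
  haveI := fact_of_mem k.tern.mq
  haveI := fact_of_mem k.tern.mu
  haveI := fact_of_mem k.tern.mr
  have hU := h.pair_isTop h3 u r
  obtain ⟨L, hL, hUL⟩ := h.exists_max_ge hU.1 hU.2.1
  have hu : core u L ≤ layer p A θ u r := le_core
    ((h.core_le_single h3 Fact.out hL).trans (h.single_le_pair h3 u r))
    (hUL.trans le_normalizer_core) isPGroup_core
  have hr : core r L ≤ layer p A θ r u := by
    rw [layer, Set.pair_comm]
    exact le_core ((h.core_le_single h3 Fact.out hL).trans (h.single_le_pair' h3 u r))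
      (hUL.trans le_normalizer_core) isPGroup_core
  refine ⟨L, hL, hUL, ?_, hu, hr⟩
  by_contra hq1
  have hu0 : core u L = ⊥ := eq_bot_iff.mpr (le_trans
    (le_inf (h.core_le_layer h3 hL k.tern.uq hq1) hu) (h.layer_inf_eq_bot h3 k).le)
  have hr0 : core r L = ⊥ := eq_bot_iff.mpr (le_trans
    (le_inf (h.core_le_layer h3 hL k.tern.rq hq1) hr) (h.layer_inf_eq_bot h3 k.symm).le)
  obtain ⟨⟨g, hgP⟩, hgne⟩ := (ne_bot_iff_exists_ne_one).mp (h.plane_ne_bot k.planeP)
  have hg1 : g ≠ 1 := fun e => hgne (Subtype.ext e)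
  have hQ : core q L ≤ centralizer (P : Set G) := by
    refine h.member_le_of_planes (h.core_member hL.1) fun F hF => ?_
    by_cases hFP : F = P
    · exact hFP ▸ inf_le_right
    obtain ⟨a, haF, -, ha1, hnl⟩ := h.exists_point h3 k hF hFP
    refine (h.inf_centralizer_le_theta h3 (h.core_member hL.1) hF haF ha1).trans ?_
    obtain ⟨H, hH, hle⟩ := h.exists_max_ge_theta (hF.1 haF) ha1
    have hq0 : core q H = ⊥ := by
      by_contra hne
      exact hnl ⟨H, hH, hle, hne⟩
    refine (inf_le_inf_left _ hle).trans (le_trans ?_ (bot_le (a := centralizer (P : Set G))))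
    intro z hz
    rw [← hq0]
    refine mem_core_of_centralizes hH.1.1 hz.2 isPGroup_core hz.1 fun t ht => ?_
    haveI := Fact.mk ht
    by_cases htm : core t H = ⊥
    · rw [htm]; exact le_centralizer_bot (H := zpowers z) (mem_zpowers z)
    have htq : t ≠ q := fun e => htm (e ▸ hq0)
    have htL : core t H ≤ L := by
      by_cases htπ : t ∈ primes A θ
      · rcases k.tern.only t htπ with e | e | e
        · exact absurd e htq
        · exact ((h.core_le_single h3 Fact.out hH).trans (e ▸ h.single_le_pair h3 u r)).trans hUL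
        · exact ((h.core_le_single h3 Fact.out hH).trans (e ▸ h.single_le_pair' h3 u r)).trans hUL
      · exact absurd (h.core_eq_bot_of_notMem hH.1 ht htπ) htm
    exact le_centralizer_of_normalizes (Ne.symm htq) (isPGroup_core.to_le inf_le_left) isPGroup_core
      ((inf_le_right : core q L ⊓ H ≤ H).trans le_normalizer_core)
      (CfsgLib.Signalizer74.le_normalizer_inf (htL.trans le_normalizer_core)
        (core_le.trans le_normalizer)) hz
  have hgA := k.planeP.1 hgP
  have hLg : L ≤ centralizer {g} := by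
    refine le_centralizer_of_cores hL.1.1 (member_normalized hL.1 hgA)
      ((h.coprime hL.1).coprime_dvd_left (card_dvd_of_le (zpowers_le.mpr hgA))) fun t ht => ?_
    by_cases htm : t ∈ primes A θ
    · rcases k.tern.only t htm with e | e | e
      · rw [e]; exact hQ.trans (centralizer_le (Set.singleton_subset_iff.mpr hgP))
      · rw [e, hu0]; exact bot_le
      · rw [e, hr0]; exact bot_le
    · rw [h.core_eq_bot_of_notMem hL.1 ht htm]; exact bot_le
  exact h.false_of_end h3 k hgP hg1
    (((h.layer_le_single h3 k.tern.mu.1 r).trans (h.single_le_pair h3 u r)).trans (hUL.trans hLg))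
    (((h.layer_le_single h3 k.tern.mr.1 u).trans (h.single_le_pair' h3 u r)).trans (hUL.trans hLg))

/-! ### `O_r(U_{ur})` trivial -/

theorem false_of_layer_eq_bot (h0 : layer p A θ r u = ⊥) : False := by
  haveI := fact_of_mem k.tern.mq
  haveI := fact_of_mem k.tern.mu
  haveI := fact_of_mem k.tern.mr
  set N := layer p A θ u r
  have hN := h.layer_member h3 u r
  have hNX := h.layer_le_single h3 k.tern.mu.1 r
  have hr0 : ∀ {g : G}, layer p A θ r u ≤ centralizer {g} := fun {g} => h0 ▸ bot_le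
  obtain ⟨⟨g, hgP⟩, hgne⟩ := (ne_bot_iff_exists_ne_one).mp (h.plane_ne_bot k.planeP)
  have hg1 : g ≠ 1 := fun e => hgne (Subtype.ext e)
  have hgA := k.planeP.1 hgP
  have hgN : zpowers g ≤ normalizer (N : Set G) := (zpowers_le.mpr hgA).trans (member_normalized hN)
  have hno_both : ∀ a, ¬ PointBoth p A θ q u r a := fun a ⟨_, _, H, hH, _, _, hu, hr⟩ =>
    hr (eq_bot_iff.mpr ((h.core_le_layer h3 hH k.tern.ru hu).trans h0.le))
  have hend : N ≤ centralizer (zpowers g : Set G) → False := fun hc =>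
    h.false_of_end h3 k hgP hg1 (by rwa [centralizer_zpowers'] at hc) hr0
  by_cases hR : ∃ a, PointOnly p A θ r a
  swap
  · -- no pure `r` points
    have hW : layer p A θ q u ≤ centralizer (P : Set G) := by
      refine h.member_le_of_planes (h.layer_member h3 q u) fun F hF => ?_
      by_cases hFP : F = P
      · exact hFP ▸ inf_le_right
      obtain ⟨a, haF, -, ha1, hnl⟩ := h.exists_point h3 k hF hFP
      rcases h.point_cases h3 k (hF.1 haF) ha1 hnl with hu | hr | hb
      · exact (h.inf_centralizer_le_theta h3 (h.layer_member h3 q u) hF haF ha1).trans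
          ((h.layer_inf_theta_eq_bot h3 k.tern.mq k.tern.mu k.tern.uq.symm hu).le.trans bot_le)
      · exact absurd ⟨a, hr⟩ hR
      · exact absurd hb (hno_both a)
    refine hend (commutator_eq_bot_iff_le_centralizer.mp (h.eq_bot_of_centralizes_layer h3 k
      (CfsgLib.Coprime.commutator_le_of_normalizes hgN) ?_))
    refine commutator_le.mpr fun n hn d hd => commutatorElement_mem_centralizer
      (hNX.trans (h.layer_normalized h3 q u).2 hn) ?_
    exact le_centralizer_iff.mp hW ((zpowers_le.mpr hgP) hd)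
  obtain ⟨a₀, ha₀⟩ := hR
  have hTN : N ⊓ centralizer (A : Set G) = ⊥ := eq_bot_iff.mpr
    ((h.inf_centralizer_A_le_theta h3 hN ha₀.1 ha₀.2.1).trans
      (h.layer_inf_theta_eq_bot h3 k.tern.mu k.tern.mr k.tern.ru.symm ha₀).le)
  have hTW : layer p A θ q r ⊓ centralizer (A : Set G) = ⊥ := eq_bot_iff.mpr
    ((h.inf_centralizer_A_le_theta h3 (h.layer_member h3 q r) ha₀.1 ha₀.2.1).trans
      (h.layer_inf_theta_eq_bot h3 k.tern.mq k.tern.mr k.tern.rq.symm ha₀).le)
  have hUfix : ∀ b, PointOnly p A θ u b → N ≤ centralizer {b} := by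
    intro b hb
    refine h.member_le_of_planes hN fun F hF => ?_
    by_cases hbF : b ∈ F
    · exact inf_le_right.trans (centralizer_le (Set.singleton_subset_iff.mpr hbF))
    set K := N ⊓ centralizer (F : Set G)
    have hW'm := h.layer_member h3 q u
    refine le_trans (h.eq_bot_of_centralizes_layer h3 k inf_le_left ?_).le bot_le
    refine fpf_centralizes (p := p) (d := b) isPGroup_core (h.elem.2 b hb.1) hW'm.2.1
      (not_dvd_of_le inf_le_left hN.2.1)
      (not_dvd_of_isPGroup (isPGroup_core.to_le inf_le_left) k.tern.uq.symm)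
      (CfsgLib.Signalizer74.le_normalizer_inf (member_normalized hN) (conj_mem_centralizer h.elem hF.1) hb.1)
      (member_normalized hW'm hb.1)
      ((inf_le_left.trans hNX).trans (h.layer_normalized h3 q u).2) ?_ ?_
    · exact eq_bot_iff.mpr (le_trans (le_inf (inf_le_left.trans inf_le_left)
        ((inf_le_inf_right _ inf_le_right).trans (h.inf_centralizer_plane_le hF hb.1 hbF))) hTN.le)
    · have h1 : layer p A θ q u ⊓ centralizer {b} = ⊥ := eq_bot_iff.mpr (le_trans
        (le_inf inf_le_left (hW'm.2.2.2 b hb.1 hb.2.1))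
        (h.layer_inf_theta_eq_bot h3 k.tern.mq k.tern.mu k.tern.uq.symm hb).le)
      rw [h1]
      exact le_centralizer_bot
  by_cases hU : ∃ b, PointOnly p A θ u b ∧ ¬ IsLine p A θ q b
  swap
  · -- no pure `u` points
    have hNP : N ≤ centralizer (P : Set G) := by
      refine h.member_le_of_planes hN fun F hF => ?_
      by_cases hFP : F = P
      · exact hFP ▸ inf_le_right
      obtain ⟨a, haF, -, ha1, hnl⟩ := h.exists_point h3 k hF hFP
      rcases h.point_cases h3 k (hF.1 haF) ha1 hnl with hu | hr | hb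
      · exact absurd ⟨a, hu, hnl⟩ hU
      · exact (h.inf_centralizer_le_theta h3 hN hF haF ha1).trans
          ((h.layer_inf_theta_eq_bot h3 k.tern.mu k.tern.mr k.tern.ru.symm hr).le.trans bot_le)
      · exact absurd hb (hno_both a)
    exact hend (hNP.trans (centralizer_le ((zpowers_le.mpr hgP))))
  obtain ⟨b, hb, hbl⟩ := hU
  have hbA := hb.1
  have hb1 := hb.2.1
  have hbP := h.point_notMem h3 k hbl hb1
  have hNb := hUfix b hb
  have hbbad : ∀ D, IsPlane p A D → ¬ Cfsg.signalizerInf D θ ≤ M → b ∈ D := fun D hD hbad =>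
    h.mem_bad_of_end h3 k hbA hNb hr0 hD hbad
  have huniq : ∀ a, PointOnly p A θ u a → a ∈ zpowers b := fun a ha => by
    by_contra hn
    exact h.false_of_end_pair h3 k hbA ha.1 hb1 hn hNb hr0 (hUfix a ha) hr0
  have hpure : ∀ a ∈ A, a ≠ 1 → ¬ IsLine p A θ q a → a ∉ zpowers b → PointOnly p A θ r a := by
    intro a ha ha1 hnl hab
    rcases h.point_cases h3 k ha ha1 hnl with hu | hr | hb'
    · exact absurd (huniq a hu) hab
    · exact hr
    · exact absurd hb' (hno_both a)
  -- `N ≤ M`
  have hNM : N ≤ M := by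
    refine h.member_le_of_planes hN fun F hF => ?_
    by_cases hFP : F = P
    · refine (h.inf_centralizer_le_thetaPlane hF hN).trans (h.thetaPlane_le_pivot h3 k.piv hF
        (h.thetaPlane_le_normalizer h3 k.piv.mem hF (Or.inl fun e => k.piv.ne_bot ?_)))
      rw [hFP, inf_eq_left.mpr k.fixP] at e
      exact e
    by_cases hbF : b ∈ F
    · obtain ⟨x, hxF, hxP, hx1, hxb⟩ := h.exists_off_line h3 k hF hbF hbP
      refine (h.inf_centralizer_le_theta h3 hN hF hxF hx1).trans ?_
      by_cases hl : IsLine p A θ q x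
      · exact inf_le_right.trans (k.piv.absorbs _ (h.theta_member (hF.1 hxF) hx1)
          (h.theta_le_normalizer_of_line h3 k.piv k.planeP k.fixP (hF.1 hxF) hxP hl))
      · exact (h.layer_inf_theta_eq_bot h3 k.tern.mu k.tern.mr k.tern.ru.symm
          (hpure x (hF.1 hxF) hx1 hl hxb)).le.trans bot_le
    · exact le_trans (le_inf inf_le_left ((le_inf inf_le_right (inf_le_left.trans hNb)).trans
        (h.inf_centralizer_plane_le hF hbA hbF))) (hTN.le.trans bot_le)
  -- `X_r ≤ M`
  have hXr : Top p A θ {r} ≤ M := by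
    refine h.member_le_of_planes (h.single_isTop h3 r).1 fun D hD => ?_
    by_cases hgood : Cfsg.signalizerInf D θ ≤ M
    · exact (h.inf_centralizer_le_thetaPlane hD (h.single_isTop h3 r).1).trans hgood
    obtain ⟨c, hcD, hcP, hc1⟩ := h.exists_fix h3 k hD hgood
    refine h.le_of_fixed_le h3 k.piv k.planeP k.fixP hD hgood
      (member_inf (h.single_isTop h3 r).1 (conj_mem_centralizer h.elem hD.1)) inf_le_right
      (inf_le_left.trans (h.layer_normalized h3 q r).2)
      (h.kernelAt_le_layer h3 k.tern.mr k.tern.rq) hcD hcP ?_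
    have hWm := h.layer_member h3 q r
    refine h.member_le_of_planes (member_inf hWm (conj_mem_centralizer h.elem
      (Set.singleton_subset_iff.mpr (k.planeP.1 hcP)))) fun F hF => ?_
    by_cases hFP : F = P
    · exact hFP ▸ inf_le_right
    by_cases hcF : c ∈ F
    swap
    · exact le_trans (le_inf (inf_le_left.trans inf_le_left) ((le_inf inf_le_right
        (inf_le_left.trans inf_le_right)).trans (h.inf_centralizer_plane_le hF (k.planeP.1 hcP) hcF)))
        (hTW.le.trans bot_le)
    obtain ⟨x, hxF, hx1, hxl, hxb⟩ : ∃ x ∈ F, x ≠ 1 ∧ ¬ IsLine p A θ q x ∧ x ∉ zpowers b := by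
      by_cases hFD : F = D
      · obtain ⟨x, hx, hxP, hx1, hxb⟩ := h.exists_off_line h3 k hF (hFD ▸ hbbad D hD hgood) hbP
        exact ⟨x, hx, hx1, fun hl => hxP (h.line_mem_of_bad h3 k.piv k.planeP k.fixP hD hgood
          (hFD ▸ hx) hl), hxb⟩
      · obtain ⟨x, hx, -, hx1, hxl⟩ := h.exists_point h3 k hF hFP
        refine ⟨x, hx, hx1, hxl, fun e => hFD ?_⟩
        have hez : zpowers x = zpowers b := eq_of_le_of_card_ge (zpowers_le.mpr e) (by
          rw [Nat.card_zpowers, Nat.card_zpowers, orderOf_eq_prime (h.elem.2 b hbA) hb1,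
            orderOf_eq_prime (h.elem.2 x (hF.1 hx)) hx1])
        have hbF : b ∈ F := (zpowers_le.mpr hx) (hez ▸ mem_zpowers b)
        have hcb : b ∉ zpowers c := fun e => hbP ((zpowers_le.mpr hcP) e)
        exact (eq_of_le_of_card_ge (h.plane_le hD hcD (hbbad D hD hgood) hc1 hcb hcF hbF)
          (by rw [h.plane_card hD, h.plane_card hF])).symm
    exact le_trans (le_inf (inf_le_left.trans inf_le_left)
      ((h.inf_centralizer_le_theta h3 (member_inf hWm (conj_mem_centralizer h.elem
        (Set.singleton_subset_iff.mpr (k.planeP.1 hcP)))) hF hxF hx1).trans inf_le_right))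
      ((h.layer_inf_theta_eq_bot h3 k.tern.mq k.tern.mr k.tern.rq.symm
        (hpure x (hF.1 hxF) hx1 hxl hxb)).le.trans bot_le)
  -- `O_q(M)` is centralized by the weight plane
  have hQ : core q M ≤ centralizer (P : Set G) := by
    refine h.member_le_of_planes (h.core_member k.piv.max.1) fun F hF => ?_
    by_cases hFP : F = P
    · exact hFP ▸ inf_le_right
    obtain ⟨a, haF, -, ha1, hnl⟩ := h.exists_point h3 k hF hFP
    refine (h.inf_centralizer_le_theta h3 (h.core_member k.piv.max.1) hF haF ha1).trans ?_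
    rcases h.point_cases h3 k (hF.1 haF) ha1 hnl with hu | hr | hb'
    · have hua := hUfix a hu
      have hUa := h.top_le_centralizer h3 k hu.1 hua hr0
      obtain ⟨-, -, H, hH, hle, ho⟩ := hu
      have hUr := h.pair_isTop h3 u r
      have hUH : Top p A θ {u, r} ≤ H :=
        ((le_inf le_rfl hUa).trans (hUr.1.2.2.2 a (hF.1 haF) ha1)).trans hle
      have huN : core u H ≤ M := (le_core ((h.core_le_single h3 Fact.out hH).trans
        (h.single_le_pair h3 u r)) (hUH.trans le_normalizer_core) isPGroup_core).trans hNM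
      exact ((inf_le_inf_left _ hle).trans (h.inf_eq_bot_of_onlyCore h3 hH ho k.tern.uq.symm
        (Z := core q M) isPGroup_core (huN.trans le_normalizer_core)).le).trans bot_le
    · obtain ⟨-, -, H, hH, hle, ho⟩ := hr
      exact ((inf_le_inf_left _ hle).trans (h.inf_eq_bot_of_onlyCore h3 hH ho k.tern.rq.symm
        (Z := core q M) isPGroup_core
        (((h.core_le_single h3 Fact.out hH).trans hXr).trans le_normalizer_core)).le).trans bot_le
    · exact absurd hb' (hno_both a)
  refine hend (commutator_eq_bot_iff_le_centralizer.mp (h.eq_bot_of_centralizes_core h3 k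
    (CfsgLib.Coprime.commutator_le_of_normalizes hgN) ?_))
  refine commutator_le.mpr fun n hn d hd => commutatorElement_mem_centralizer
    (hNM.trans le_normalizer_core hn) ?_
  exact le_centralizer_iff.mp hQ ((zpowers_le.mpr hgP) hd)

end Minimal

end CfsgLib.Signalizer74
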