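import Cfsg.Agent.Lib.Signalizer74.ThreeII
import Cfsg.Agent.Lib.Signalizer74.FourPrimes

/-!
# Three primes, one nontrivial kernel, both `O_u(U_{ur})` and `O_r(U_{ur})` nontrivial
-/

set_option autoImplicit false
set_option linter.style.haveILetI false
set_option linter.unusedSectionVars false

namespace CfsgLib.Signalizer74

open Subgroup CfsgLib.Signalizer
open scoped Pointwise commutatorElement

variable {G : Type*} [Group G] [Finite G] {p q r u : ℕ} [hp : Fact p.Prime] {A : Subgroup G}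
  {θ : G → Subgroup G} {B D F H L M P Z : Subgroup G}

namespace Minimal

variable (h : Minimal p A θ)
include h

omit h in
/-- A maximal member over `U_{ur}`. -/
structure CaseII2 (p : ℕ) (A : Subgroup G) (θ : G → Subgroup G) (q u r : ℕ) (M P L : Subgroup G) :
    Prop where
  base : CaseII p A θ q u r M P
  max : IsMax p A θ L
  top_le : Top p A θ {u, r} ≤ L
  core_q : core q L = ⊥
  core_u : core u L ≠ ⊥
  core_r : core r L ≠ ⊥
  le_u : core u L ≤ layer p A θ u r
  le_r : core r L ≤ layer p A θ r u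

omit h in
theorem CaseII2.symm (k : CaseII2 p A θ q u r M P L) : CaseII2 p A θ q r u M P L :=
  ⟨k.base.symm, k.max, by rw [Set.pair_comm]; exact k.top_le, k.core_q, k.core_r, k.core_u, k.le_r, k.le_u⟩

variable (h3 : ThreePrimes A θ) (k : CaseII2 p A θ q u r M P L)
include h3 k

theorem le_centralizer_of_pair {g : G} (hg : g ∈ A) (hu : core u L ≤ centralizer {g})
    (hr : core r L ≤ centralizer {g}) :
    layer p A θ u r ≤ centralizer {g} ∧ layer p A θ r u ≤ centralizer {g} := by
  have t := k.base.tern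
  have hLg : L ≤ centralizer {g} := by
    refine le_centralizer_of_cores k.max.1.1 (member_normalized k.max.1 hg)
      ((h.coprime k.max.1).coprime_dvd_left (card_dvd_of_le (zpowers_le.mpr hg))) fun w hw => ?_
    by_cases htm : w ∈ primes A θ
    · rcases t.only w htm with e | e | e
      · rw [e, k.core_q]; exact bot_le
      · rw [e]; exact hu
      · rw [e]; exact hr
    · rw [h.core_eq_bot_of_notMem k.max.1 hw htm]; exact bot_le
  exact ⟨((h.layer_le_single h3 t.mu.1 r).trans (h.single_le_pair h3 u r)).trans (k.top_le.trans hLg),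
    ((h.layer_le_single h3 t.mr.1 u).trans (h.single_le_pair' h3 u r)).trans (k.top_le.trans hLg)⟩

theorem theta_le_pair {a : G} (ha : PointBoth p A θ q u r a) : θ a ≤ L := by
  have t := k.base.tern
  haveI := fact_of_mem t.mu
  haveI := fact_of_mem t.mr
  obtain ⟨-, -, H, hH, hle, hq, hu, hr⟩ := ha
  refine hle.trans (le_of_eq (h.max_eq_of_cores h3 hH k.max t.ru.symm hu hr k.core_u k.core_r
    (fun w hw h1 h2 => ?_) (fun w hw h1 h2 => ?_)
    (((h.core_le_single h3 Fact.out hH).trans (h.single_le_pair h3 u r)).trans k.top_le)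
    (((h.core_le_single h3 Fact.out hH).trans (h.single_le_pair' h3 u r)).trans k.top_le)))
  all_goals
    by_cases htm : w ∈ primes A θ
    · obtain rfl : w = q := by
        rcases t.only w htm with e | e | e
        · exact e
        · exact absurd e h1
        · exact absurd e h2
      first
        | exact hq
        | exact k.core_q
    · first
        | exact h.core_eq_bot_of_notMem hH.1 hw htm
        | exact h.core_eq_bot_of_notMem k.max.1 hw htm

/-- `O_u(L)` centralizes the fixed points on `O_q(U_{qu})` of elements outside pure `r` points. -/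
theorem core_le_centralizer_fixed {b : G}
    (hb : PointOnly p A θ u b ∨ PointBoth p A θ q u r b) :
    core u L ≤ centralizer ((layer p A θ q u ⊓ centralizer {b} : Subgroup G) : Set G) := by
  have t := k.base.tern
  haveI := fact_of_mem t.mu
  haveI := fact_of_mem t.mq
  have hWm := h.layer_member h3 q u
  rcases hb with hb | hb
  · have h1 : layer p A θ q u ⊓ centralizer {b} = ⊥ := eq_bot_iff.mpr (le_trans
      (le_inf inf_le_left (hWm.2.2.2 b hb.1 hb.2.1))
      (h.layer_inf_theta_eq_bot h3 t.mq t.mu t.uq.symm hb).le)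
    rw [h1]
    exact le_centralizer_bot
  · refine le_trans ?_ (centralizer_le (show ((layer p A θ q u ⊓ centralizer {b} : Subgroup G) : Set G) ⊆
      (layer p A θ q u ⊓ L : Subgroup G) from ?_))
    · exact le_centralizer_of_normalizes t.uq isPGroup_core (isPGroup_core.to_le inf_le_left)
        (CfsgLib.Signalizer74.le_normalizer_inf
          ((k.le_u.trans (h.layer_le_single h3 t.mu.1 r)).trans (h.layer_normalized h3 q u).2)
          (core_le.trans le_normalizer))
        ((inf_le_right : layer p A θ q u ⊓ L ≤ L).trans le_normalizer_core)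
    · exact le_inf inf_le_left ((hWm.2.2.2 b hb.1 hb.2.1).trans (h.theta_le_pair h3 k hb))

theorem core_inf_centralizer_eq_bot {a₀ : G} (ha : PointOnly p A θ r a₀) :
    core u L ⊓ centralizer (A : Set G) = ⊥ := by
  have t := k.base.tern
  exact eq_bot_iff.mpr (((inf_le_inf_right _ k.le_u).trans
    (h.inf_centralizer_A_le_theta h3 (h.layer_member h3 u r) ha.1 ha.2.1)).trans
      (h.layer_inf_theta_eq_bot h3 t.mu t.mr t.ru.symm ha).le)

/-- With pure `r` points, the others centralize `O_u(L)`. -/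
theorem core_le_centralizer_point (hR : ∃ a, PointOnly p A θ r a) {b : G}
    (hb : PointOnly p A θ u b ∨ PointBoth p A θ q u r b) : core u L ≤ centralizer {b} := by
  obtain ⟨a₀, ha₀⟩ := hR
  have t := k.base.tern
  haveI := fact_of_mem t.mu
  haveI := fact_of_mem t.mq
  have hbA : b ∈ A := hb.elim (·.1) (·.1)
  have hN := h.core_member (r := u) k.max.1
  have hWm := h.layer_member h3 q u
  have hTN := h.core_inf_centralizer_eq_bot h3 k ha₀
  refine h.member_le_of_planes hN fun F hF => ?_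
  by_cases hbF : b ∈ F
  · exact inf_le_right.trans (centralizer_le (Set.singleton_subset_iff.mpr hbF))
  refine le_trans (h.eq_bot_of_centralizes_layer h3 k.base (inf_le_left.trans k.le_u) ?_).le bot_le
  refine fpf_centralizes (p := p) (d := b) isPGroup_core (h.elem.2 b hbA) hWm.2.1
    (not_dvd_of_le inf_le_left hN.2.1)
    (not_dvd_of_isPGroup (isPGroup_core.to_le inf_le_left) t.uq.symm)
    (CfsgLib.Signalizer74.le_normalizer_inf (member_normalized hN) (conj_mem_centralizer h.elem hF.1) hbA)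
    (member_normalized hWm hbA)
    ((inf_le_left.trans (k.le_u.trans (h.layer_le_single h3 t.mu.1 r))).trans (h.layer_normalized h3 q u).2)
    ?_ (inf_le_left.trans (h.core_le_centralizer_fixed h3 k hb))
  exact eq_bot_iff.mpr (le_trans (le_inf (inf_le_left.trans inf_le_left)
    ((inf_le_inf_right _ inf_le_right).trans (h.inf_centralizer_plane_le hF hbA hbF))) hTN.le)

/-- Without pure `r` points, the weight plane centralizes `O_u(L)`. -/
theorem core_le_centralizer_plane (hR : ∀ a, ¬ IsLine p A θ q a → ¬ PointOnly p A θ r a) :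
    core u L ≤ centralizer (P : Set G) := by
  have t := k.base.tern
  haveI := fact_of_mem t.mu
  haveI := fact_of_mem t.mq
  have hN := h.core_member (r := u) k.max.1
  have hWm := h.layer_member h3 q u
  have hPN : P ≤ normalizer (core u L : Set G) := k.base.planeP.1.trans (member_normalized hN)
  refine commutator_eq_bot_iff_le_centralizer.mp (h.eq_bot_of_centralizes_layer h3 k.base
    ((CfsgLib.Coprime.commutator_le_of_normalizes hPN).trans k.le_u) ?_)
  refine commutator_le_centralizer_of_planes h.elem h.ne_bot isPGroup_core hWm.2.1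
    (member_normalized hWm) (member_normalized hN)
    ((k.le_u.trans (h.layer_le_single h3 t.mu.1 r)).trans (h.layer_normalized h3 q u).2)
    (not_dvd_of_isPGroup isPGroup_core t.uq.symm) k.base.planeP.1 fun B hB hi => ?_
  by_cases hBP : B = P
  · exact Or.inl hBP.ge
  obtain ⟨a, haB, -, ha1, hnl⟩ := h.exists_point h3 k.base ⟨hB, hi⟩ hBP
  refine Or.inr (le_trans ?_ (centralizer_le (inf_le_inf_left _
    (centralizer_le (Set.singleton_subset_iff.mpr haB)))))
  rcases h.point_cases h3 k.base (hB haB) ha1 hnl with hu | hr | hb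
  · exact h.core_le_centralizer_fixed h3 k (Or.inl hu)
  · exact absurd hr (hR a hnl)
  · exact h.core_le_centralizer_fixed h3 k (Or.inr hb)

theorem false_of_centralizes_kernel (hc : core r L ≤ centralizer (kernelAt p A θ q : Set G)) :
    False := by
  have hE := h.kernelAt_member h3 q
  have hEL : kernelAt p A θ q ≤ L := h.le_max_of_core k.max k.core_r hE
    ((le_centralizer_iff.mp hc).trans (centralizer_le_normalizer _))
  exact k.base.piv.ne_bot (eq_bot_iff.mpr (le_trans (le_inf le_rfl hEL)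
    ((h.kernelAt_inf_le h3 k.base.tern.mq k.max.1 (k.max.2.1.trans le_normalizer)).trans k.core_q.le)))

/-- Pure `u` points but no pure `r` points. -/
theorem false_of_pair_u (hU : ∃ b, PointOnly p A θ u b ∧ ¬ IsLine p A θ q b)
    (hR : ∀ a, ¬ IsLine p A θ q a → ¬ PointOnly p A θ r a) : False := by
  have t := k.base.tern
  haveI := fact_of_mem t.mu
  haveI := fact_of_mem t.mr
  obtain ⟨b₀, hb₀, -⟩ := hU
  have hNP := h.core_le_centralizer_plane h3 k hR
  have hR0 := h.core_member (r := r) k.max.1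
  have hboth : ∀ a, PointBoth p A θ q u r a → core r L ≤ centralizer {a} := fun a ha =>
    h.core_le_centralizer_point h3 k.symm ⟨b₀, hb₀⟩ (Or.inr ha.swap)
  have hTR : core r L ⊓ centralizer (A : Set G) = ⊥ := h.core_inf_centralizer_eq_bot h3 k.symm hb₀
  by_cases hE : ∃ e, PointBoth p A θ q u r e ∧ ¬ IsLine p A θ q e
  swap
  · -- no common points
    obtain ⟨⟨g, hgP⟩, hgne⟩ := (ne_bot_iff_exists_ne_one).mp (h.plane_ne_bot k.base.planeP)
    have hg1 : g ≠ 1 := fun e => hgne (Subtype.ext e)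
    have hRP : core r L ≤ centralizer (P : Set G) := by
      refine h.member_le_of_planes hR0 fun F hF => ?_
      by_cases hFP : F = P
      · exact hFP ▸ inf_le_right
      obtain ⟨a, haF, -, ha1, hnl⟩ := h.exists_point h3 k.base hF hFP
      rcases h.point_cases h3 k.base (hF.1 haF) ha1 hnl with hu | hr | hb
      · exact ((h.inf_centralizer_le_theta h3 hR0 hF haF ha1).trans (inf_le_inf_right _ k.le_r)).trans
          ((h.layer_inf_theta_eq_bot h3 t.mr t.mu t.ru hu).le.trans bot_le)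
      · exact absurd hr (hR a hnl)
      · exact absurd ⟨a, hb, hnl⟩ hE
    obtain ⟨hu, hr⟩ := h.le_centralizer_of_pair h3 k (k.base.planeP.1 hgP)
      (hNP.trans (centralizer_le (Set.singleton_subset_iff.mpr hgP)))
      (hRP.trans (centralizer_le (Set.singleton_subset_iff.mpr hgP)))
    exact h.false_of_end h3 k.base hgP hg1 hu hr
  obtain ⟨e, he, hel⟩ := hE
  have heA := he.1
  have he1 := he.2.1
  have heP := h.point_notMem h3 k.base hel he1
  have huniq : ∀ a, PointBoth p A θ q u r a → a ∈ zpowers e := by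
    intro a ha
    by_contra hn
    obtain ⟨B, hB, heB, haB⟩ := h.exists_plane heA ha.1
    obtain ⟨⟨g, hg⟩, hgne⟩ := (ne_bot_iff_exists_ne_one).mp
      (inf_hyperplanes_ne_bot h.elem h.pow_le hB.1 hB.2 k.base.planeP.2)
    have hg1 : g ≠ 1 := fun e => hgne (Subtype.ext e)
    have hRB : core r L ≤ centralizer (B : Set G) :=
      h.centralizer_element hB heB he1 haB hn (hboth e he) (hboth a ha)
    obtain ⟨hu, hr⟩ := h.le_centralizer_of_pair h3 k (hB.1 hg.1)
      (hNP.trans (centralizer_le (Set.singleton_subset_iff.mpr hg.2)))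
      (hRB.trans (centralizer_le (Set.singleton_subset_iff.mpr hg.1)))
    exact h.false_of_end h3 k.base hg.2 hg1 hu hr
  have hnotF : ∀ F, IsPlane p A F → e ∉ F → core r L ⊓ centralizer (F : Set G) = ⊥ := fun F hF heF =>
    eq_bot_iff.mpr (le_trans (le_inf inf_le_left ((le_inf inf_le_right (inf_le_left.trans (hboth e he))).trans
      (h.inf_centralizer_plane_le hF heA heF))) hTR.le)
  have hRE : core r L ≤ normalizer (kernelAt p A θ q : Set G) := by
    refine h.member_le_of_planes hR0 fun F hF => ?_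
    by_cases heF : e ∈ F
    swap
    · exact (hnotF F hF heF).le.trans bot_le
    obtain ⟨x, hxF, hxP, hx1, hxe⟩ := h.exists_off_line h3 k.base hF heF heP
    refine (h.inf_centralizer_le_theta h3 hR0 hF hxF hx1).trans ?_
    by_cases hl : IsLine p A θ q x
    · exact inf_le_right.trans
        (h.theta_le_normalizer_of_line h3 k.base.piv k.base.planeP k.base.fixP (hF.1 hxF) hxP hl)
    · rcases h.point_cases h3 k.base (hF.1 hxF) hx1 hl with hu | hr | hb
      · exact (inf_le_inf_right _ k.le_r).trans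
          ((h.layer_inf_theta_eq_bot h3 t.mr t.mu t.ru hu).le.trans bot_le)
      · exact absurd hr (hR x hl)
      · exact absurd (huniq x hb) hxe
  refine h.false_of_centralizes_kernel h3 k (h.member_le_of_planes hR0 fun F hF => ?_)
  by_cases heF : e ∈ F
  swap
  · exact (hnotF F hF heF).le.trans bot_le
  obtain ⟨b, hbP, hbF⟩ : ∃ b ∈ P, b ∉ F := by
    by_contra hcon
    push Not at hcon
    have := eq_of_le_of_card_ge hcon (by rw [h.plane_card hF, h.plane_card k.base.planeP])
    exact heP (this ▸ heF)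
  have hbA := k.base.planeP.1 hbP
  set K := core r L ⊓ centralizer (F : Set G)
  have hK : K ∈ Cfsg.signalizerFamily p A θ := member_inf hR0 (conj_mem_centralizer h.elem hF.1)
  have hfix : K ⊓ centralizer (zpowers b : Set G) = ⊥ := by
    rw [centralizer_zpowers', eq_bot_iff]
    exact le_trans (le_inf (inf_le_left.trans inf_le_left)
      ((inf_le_inf_right _ inf_le_right).trans (h.inf_centralizer_plane_le hF hbA hbF))) hTR.le
  have h1 := CfsgLib.Coprime.commutator_sup_centralizer (zpowers b) K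
    ((zpowers_le.mpr hbA).trans (member_normalized hK))
    ((h.coprime hK).coprime_dvd_left (card_dvd_of_le (zpowers_le.mpr hbA))) (Or.inr hK.1)
  rw [hfix, sup_bot_eq] at h1
  rw [← h1]
  refine commutator_le.mpr fun n hn d hd => commutatorElement_mem_centralizer (hRE hn.1) ?_
  have hbE : zpowers b ≤ centralizer (kernelAt p A θ q : Set G) := by
    rw [le_centralizer_iff, centralizer_zpowers']
    exact k.base.fixP.trans (centralizer_le (Set.singleton_subset_iff.mpr hbP))
  exact hbE hd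

/-- A single element centralizing both cores, with a pure `u` point beside it in a bad plane. -/
theorem false_of_common_u (hR : ∃ a, PointOnly p A θ r a) {g : G} (hg : g ∈ A) (hg1 : g ≠ 1)
    (hgu : core u L ≤ centralizer {g}) (hgr : core r L ≤ centralizer {g})
    (honly : ∀ g' ∈ A, core u L ≤ centralizer {g'} → core r L ≤ centralizer {g'} → g' ∈ zpowers g)
    (hU : ∃ b, PointOnly p A θ u b) (hD : IsPlane p A D) (hbad : ¬ Cfsg.signalizerInf D θ ≤ M)
    {a : G} (haD : a ∈ D) (hag : a ∉ zpowers g) (ha : PointOnly p A θ u a) : False := by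
  have t := k.base.tern
  haveI := fact_of_mem t.mu
  haveI := fact_of_mem t.mq
  obtain ⟨b₀, hb₀⟩ := hU
  obtain ⟨a₀, ha₀⟩ := hR
  obtain ⟨hlu, hlr⟩ := h.le_centralizer_of_pair h3 k hg hgu hgr
  have hgD := h.mem_bad_of_end h3 k.base hg hlu hlr hD hbad
  obtain ⟨c, hcD, hcP, hc1⟩ := h.exists_fix h3 k.base hD hbad
  have hcA := k.base.planeP.1 hcP
  have hN := h.core_member (r := u) k.max.1
  have hND : core u L ≤ centralizer (D : Set G) :=
    h.centralizer_element hD hgD hg1 haD hag hgu (h.core_le_centralizer_point h3 k ⟨a₀, ha₀⟩ (Or.inl ha))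
  have hgP : g ∉ P := fun e => h.false_of_end h3 k.base e hg1 hlu hlr
  have hWm := h.layer_member h3 q u
  have hTW : layer p A θ q u ⊓ centralizer (A : Set G) = ⊥ := eq_bot_iff.mpr
    ((h.inf_centralizer_A_le_theta h3 hWm hb₀.1 hb₀.2.1).trans
      (h.layer_inf_theta_eq_bot h3 t.mq t.mu t.uq.symm hb₀).le)
  set S := layer p A θ q u ⊓ centralizer {c}
  have hSm : S ∈ Cfsg.signalizerFamily p A θ :=
    member_inf hWm (conj_mem_centralizer h.elem (Set.singleton_subset_iff.mpr hcA))
  have hSP : S ≤ centralizer (P : Set G) := by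
    refine h.member_le_of_planes hSm fun F hF => ?_
    by_cases hFP : F = P
    · exact hFP ▸ inf_le_right
    by_cases hcF : c ∈ F
    swap
    · exact le_trans (le_inf (inf_le_left.trans inf_le_left) ((le_inf inf_le_right
        (inf_le_left.trans inf_le_right)).trans (h.inf_centralizer_plane_le hF hcA hcF)))
        (hTW.le.trans bot_le)
    refine le_trans ?_ (bot_le (a := centralizer (P : Set G)))
    by_cases hFD : F = D
    · exact ((h.inf_centralizer_le_theta h3 hSm hF (hFD ▸ haD) ha.2.1).trans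
        (inf_le_inf_right _ inf_le_left)).trans (h.layer_inf_theta_eq_bot h3 t.mq t.mu t.uq.symm ha).le
    have hgF : g ∉ F := fun e => hFD (eq_of_le_of_card_ge
      (h.plane_le hD hcD hgD hc1 (fun e' => hgP (zpowers_le.mpr hcP e')) hcF e)
      (by rw [h.plane_card hD, h.plane_card hF])).symm
    obtain ⟨x, hxF, -, hx1, hxl⟩ := h.exists_point h3 k.base hF hFP
    have hsmall : S ⊓ centralizer (F : Set G) ≤ layer p A θ q u ⊓ θ x :=
      (h.inf_centralizer_le_theta h3 hSm hF hxF hx1).trans (inf_le_inf_right _ inf_le_left)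
    rcases h.point_cases h3 k.base (hF.1 hxF) hx1 hxl with hu | hr | hb
    · exact hsmall.trans (h.layer_inf_theta_eq_bot h3 t.mq t.mu t.uq.symm hu).le
    · refine le_trans (le_inf (inf_le_left.trans inf_le_left) ?_) hTW.le
      exact (le_inf inf_le_right (hsmall.trans (inf_le_right.trans
        (h.theta_le_of_end h3 k.base hg hlu hlr (hF.1 hxF) hx1 hxl)))).trans
        (h.inf_centralizer_plane_le hF hg hgF)
    · have hxg := honly x hb.1 (h.core_le_centralizer_point h3 k ⟨a₀, ha₀⟩ (Or.inr hb))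
        (h.core_le_centralizer_point h3 k.symm ⟨b₀, hb₀⟩ (Or.inr hb.swap))
      have hez : zpowers x = zpowers g := eq_of_le_of_card_ge (zpowers_le.mpr hxg) (by
        rw [Nat.card_zpowers, Nat.card_zpowers, orderOf_eq_prime (h.elem.2 g hg) hg1,
          orderOf_eq_prime (h.elem.2 x (hF.1 hxF)) hx1])
      exact absurd ((zpowers_le.mpr hxF) (hez ▸ mem_zpowers g)) hgF
  obtain ⟨b, hbP, hbD⟩ : ∃ b ∈ P, b ∉ D := by
    by_contra hcon
    push Not at hcon
    exact h.bad_ne_plane h3 k.base.piv k.base.planeP k.base.fixP hD hbad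
      (eq_of_le_of_card_ge hcon (by rw [h.plane_card hD, h.plane_card k.base.planeP])).symm
  have hbA := k.base.planeP.1 hbP
  have hfix : core u L ⊓ centralizer (zpowers b : Set G) = ⊥ := by
    rw [centralizer_zpowers', eq_bot_iff]
    exact le_trans (le_inf inf_le_left ((inf_le_inf_right _ hND).trans
      (h.inf_centralizer_plane_le hD hbA hbD))) (h.core_inf_centralizer_eq_bot h3 k ha₀).le
  have h1 := CfsgLib.Coprime.commutator_sup_centralizer (zpowers b) (core u L)
    ((zpowers_le.mpr hbA).trans (member_normalized hN))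
    ((h.coprime hN).coprime_dvd_left (card_dvd_of_le (zpowers_le.mpr hbA))) (Or.inr hN.1)
  rw [hfix, sup_bot_eq] at h1
  refine h.false_of_centralizes_kernel h3 k.symm ?_
  refine le_trans ?_ (centralizer_le (show (kernelAt p A θ q : Set G) ⊆ S from
    le_inf (h.kernelAt_le_layer h3 t.mu t.uq)
      (k.base.fixP.trans (centralizer_le (Set.singleton_subset_iff.mpr hcP)))))
  rw [← h1]
  refine commutator_le.mpr fun n hn d hd => commutatorElement_mem_centralizer ?_ ?_
  · exact CfsgLib.Signalizer74.le_normalizer_inf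
      ((k.le_u.trans (h.layer_le_single h3 t.mu.1 r)).trans (h.layer_normalized h3 q u).2)
      ((hND.trans (centralizer_le (Set.singleton_subset_iff.mpr hcD))).trans le_normalizer) hn
  · have hbS : zpowers b ≤ centralizer (S : Set G) := by
      rw [le_centralizer_iff, centralizer_zpowers']
      exact hSP.trans (centralizer_le (Set.singleton_subset_iff.mpr hbP))
    exact hbS hd

omit k in
theorem zpowers_eq_of_mem {a b : G} (hb : b ∈ A) (ha1 : a ≠ 1) (hb1 : b ≠ 1)
    (hab : a ∈ zpowers b) : zpowers a = zpowers b :=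
  eq_of_le_of_card_ge (zpowers_le.mpr hab) (by
    rw [Nat.card_zpowers, Nat.card_zpowers, orderOf_eq_prime (h.elem.2 b hb) hb1,
      orderOf_eq_prime (h.elem.2 a ((zpowers_le.mpr hb) hab)) ha1])

/-- No element centralizes both cores, and those of one core lie in a line. -/
theorem false_of_cross (hR : ∃ a, PointOnly p A θ r a ∧ ¬ IsLine p A θ q a)
    (hU : ∃ b, PointOnly p A θ u b ∧ ¬ IsLine p A θ q b)
    (hno : ∀ g ∈ A, core u L ≤ centralizer {g} → core r L ≤ centralizer {g} → g = 1)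
    {B : Subgroup G} (hB : IsPlane p A B) (hBr : core r L ≤ centralizer (B : Set G)) : False := by
  have t := k.base.tern
  haveI := fact_of_mem t.mu
  haveI := fact_of_mem t.mq
  obtain ⟨a₀, ha₀, ha₀l⟩ := hR
  obtain ⟨b, hb, hbl⟩ := hU
  have hNb := h.core_le_centralizer_point h3 k ⟨a₀, ha₀⟩ (Or.inl hb)
  have hbA := hb.1
  have hb1 := hb.2.1
  have hCR : ∀ g ∈ A, core r L ≤ centralizer {g} → g ∈ B := by
    intro g hg hgr
    by_contra hgB
    refine hb1 (hno b hbA hNb ((le_inf hBr hgr).trans ((h.inf_centralizer_plane_le hB hg hgB).trans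
      (centralizer_le (Set.singleton_subset_iff.mpr hbA)))))
  have hbB : b ∉ B := fun e => hb1 (hno b hbA hNb (hBr.trans (centralizer_le (Set.singleton_subset_iff.mpr e))))
  have hline : ∀ g ∈ A, g ≠ 1 → ¬ IsLine p A θ q g →
      core u L ≤ centralizer {g} ∨ core r L ≤ centralizer {g} := by
    intro g hg hg1 hgl
    rcases h.point_cases h3 k.base hg hg1 hgl with hu | hr | hh
    · exact Or.inl (h.core_le_centralizer_point h3 k ⟨a₀, ha₀⟩ (Or.inl hu))
    · exact Or.inr (h.core_le_centralizer_point h3 k.symm ⟨b, hb⟩ (Or.inl hr))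
    · exact Or.inl (h.core_le_centralizer_point h3 k ⟨a₀, ha₀⟩ (Or.inr hh))
  have hCN : ∀ g ∈ A, core u L ≤ centralizer {g} → g ∈ zpowers b := by
    intro g hg hgu
    by_contra hn
    obtain ⟨B', hB', hbB', hgB'⟩ := h.exists_plane hbA hg
    have hB'u := h.centralizer_element hB' hbB' hb1 hgB' hn hNb hgu
    obtain ⟨⟨z, hz⟩, hzne⟩ := (ne_bot_iff_exists_ne_one).mp
      (inf_hyperplanes_ne_bot h.elem h.pow_le hB'.1 hB'.2 hB.2)
    exact hzne (Subtype.ext (hno z (hB.1 hz.2) (hB'u.trans (centralizer_le (Set.singleton_subset_iff.mpr hz.1)))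
      (hBr.trans (centralizer_le (Set.singleton_subset_iff.mpr hz.2)))))
  obtain ⟨⟨l, hl⟩, hlne⟩ := (ne_bot_iff_exists_ne_one).mp
    (inf_hyperplanes_ne_bot h.elem h.pow_le hB.1 hB.2 k.base.planeP.2)
  have hl1 : l ≠ 1 := fun e => hlne (Subtype.ext e)
  have hN := h.core_member (r := u) k.max.1
  have hTN := h.core_inf_centralizer_eq_bot h3 k ha₀
  apply hl1
  refine hno l (hB.1 hl.1) ?_ (hBr.trans (centralizer_le (Set.singleton_subset_iff.mpr hl.1)))
  refine h.member_le_of_planes hN fun F hF => ?_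
  by_cases hlF : l ∈ F
  · exact inf_le_right.trans (centralizer_le (Set.singleton_subset_iff.mpr hlF))
  refine le_trans ?_ (bot_le (a := centralizer ({l} : Set G)))
  by_cases hbF : b ∈ F
  swap
  · exact le_trans (le_inf inf_le_left ((le_inf inf_le_right (inf_le_left.trans hNb)).trans
      (h.inf_centralizer_plane_le hF hbA hbF))) hTN.le
  have hFB : F ≠ B := fun e => hlF (e ▸ hl.1)
  obtain ⟨⟨z, hz⟩, hzne⟩ := (ne_bot_iff_exists_ne_one).mp
    (inf_hyperplanes_ne_bot h.elem h.pow_le hF.1 hF.2 hB.2)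
  have hz1 : z ≠ 1 := fun e => hzne (Subtype.ext e)
  have hbP := h.point_notMem h3 k.base hbl hb1
  have ha₀B : a₀ ∈ B :=
    hCR a₀ ha₀.1 (h.core_le_centralizer_point h3 k.symm ⟨b, hb⟩ (Or.inl ha₀))
  have hBP : B ≠ P := fun e => h.point_notMem h3 k.base ha₀l ha₀.2.1 (e ▸ ha₀B)
  have hzP : z ∉ P := fun e => hlF ((zpowers_le.mpr hz.1)
    (h.mem_zpowers_of_planes hB k.base.planeP hBP hz.2 e hz1 hl.1 hl.2))
  have hzA := hB.1 hz.2
  have hsmall : ∀ a, a ∈ F → a ≠ 1 →
      core u L ⊓ centralizer (F : Set G) ≤ layer p A θ u r ⊓ θ a := fun a haF ha1 =>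
    (h.inf_centralizer_le_theta h3 hN hF haF ha1).trans (inf_le_inf_right _ k.le_u)
  by_cases hzl : IsLine p A θ q z
  swap
  · rcases h.point_cases h3 k.base hzA hz1 hzl with hu | hr | hh
    · exact absurd (hno z hzA (h.core_le_centralizer_point h3 k ⟨a₀, ha₀⟩ (Or.inl hu))
        (hBr.trans (centralizer_le (Set.singleton_subset_iff.mpr hz.2)))) hz1
    · exact (hsmall z hz.1 hz1).trans (h.layer_inf_theta_eq_bot h3 t.mu t.mr t.ru.symm hr).le
    · exact absurd (hno z hzA (h.core_le_centralizer_point h3 k ⟨a₀, ha₀⟩ (Or.inr hh))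
        (hBr.trans (centralizer_le (Set.singleton_subset_iff.mpr hz.2)))) hz1
  -- `z` is a line outside the weight plane, so it lies in no bad plane
  exfalso
  have hcases : ∀ D, IsPlane p A D → ¬ Cfsg.signalizerInf D θ ≤ M → ∀ y ∈ D, y ∉ P →
      y ∈ zpowers b ∨ y ∈ B := by
    intro D hD hbad y hy hyP
    have hy1 : y ≠ 1 := fun e => hyP (e ▸ one_mem P)
    have hyl : ¬ IsLine p A θ q y := fun e =>
      hyP (h.line_mem_of_bad h3 k.base.piv k.base.planeP k.base.fixP hD hbad hy e)
    exact (hline y (hD.1 hy) hy1 hyl).imp (hCN y (hD.1 hy)) (hCR y (hD.1 hy))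
  have hbD : ∀ D, IsPlane p A D → ¬ Cfsg.signalizerInf D θ ≤ M → b ∈ D := by
    intro D hD hbad
    obtain ⟨y, hy, hyP, hy1, -⟩ := h.exists_point_bad h3 k.base hD hbad
    obtain ⟨y', hy', hy'P, hy'1, hyy'⟩ := h.exists_off_line h3 k.base hD hy hyP
    have key : ∀ w ∈ D, w ≠ 1 → w ∈ zpowers b → b ∈ D := fun w hw hw1 hwb =>
      (zpowers_le.mpr hw) ((h.zpowers_eq_of_mem h3 hbA hw1 hb1 hwb).ge (mem_zpowers b))
    rcases hcases D hD hbad y hy hyP with e | e
    · exact key y hy hy1 e
    rcases hcases D hD hbad y' hy' hy'P with e' | e'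
    · exact key y' hy' hy'1 e'
    have hDB : D = B := eq_of_le_of_card_ge (h.plane_le hD hy hy' hy1 hyy' e e')
      (by rw [h.plane_card hD, h.plane_card hB])
    exact absurd (h.line_mem_of_bad h3 k.base.piv k.base.planeP k.base.fixP hD hbad
      (hDB ▸ hz.2) hzl) hzP
  have hfixB : ∀ D, IsPlane p A D → ¬ Cfsg.signalizerInf D θ ≤ M → ∀ c ∈ D, c ∈ P → c ≠ 1 →
      b * c ∈ B := by
    intro D hD hbad c hcD hcP hc1
    have hne : b * c ∉ P := fun e => hbP (by simpa using P.mul_mem e (P.inv_mem hcP))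
    refine (hcases D hD hbad _ (D.mul_mem (hbD D hD hbad) hcD) hne).resolve_left fun e => ?_
    have hcb : c ∈ zpowers b := by simpa using mul_mem (inv_mem (mem_zpowers b)) e
    exact hbP ((zpowers_le.mpr hcP) ((h.zpowers_eq_of_mem h3 hbA hc1 hb1 hcb).ge (mem_zpowers b)))
  obtain ⟨D₁, hD₁, hb₁⟩ := h.exists_bad h3 k.base.piv
  obtain ⟨c₁, hc₁D, hc₁P, hc₁1⟩ := h.exists_fix h3 k.base hD₁ hb₁
  have hp2 : c₁ * c₁ = 1 := by
    by_contra hcc
    have h1 := hfixB D₁ hD₁ hb₁ c₁ hc₁D hc₁P hc₁1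
    have h2 := hfixB D₁ hD₁ hb₁ (c₁ * c₁) (D₁.mul_mem hc₁D hc₁D) (P.mul_mem hc₁P hc₁P) hcc
    have hcB : c₁ ∈ B := by simpa [mul_assoc] using B.mul_mem (B.inv_mem h1) h2
    exact hbB (by simpa using B.mul_mem h1 (B.inv_mem hcB))
  have hp : p = 2 := by
    have h1 : orderOf c₁ ∣ 2 := orderOf_dvd_of_pow_eq_one (by rw [pow_two]; exact hp2)
    rw [orderOf_eq_prime (h.elem.2 c₁ (hD₁.1 hc₁D)) hc₁1] at h1
    exact (Nat.prime_dvd_prime_iff_eq hp.out Nat.prime_two).mp h1
  refine h.false_of_unique_bad h3 k.base D₁ fun D hD hbad => ?_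
  obtain ⟨c, hcD, hcP, hc1⟩ := h.exists_fix h3 k.base hD hbad
  have hxy : b * c = b * c₁ := by
    by_contra hne
    have hx := hfixB D hD hbad c hcD hcP hc1
    have hy := hfixB D₁ hD₁ hb₁ c₁ hc₁D hc₁P hc₁1
    have hxP : ∀ {w : G}, w ∈ P → b * w ≠ 1 ∧ b * w ≠ l ∧ b * w ∉ P := fun {w} hw => by
      have h1 : b * w ∉ P := fun e => hbP (by simpa using P.mul_mem e (P.inv_mem hw))
      exact ⟨fun e => h1 (e ▸ one_mem P), fun e => h1 (e ▸ hl.2), h1⟩
    have hnl : ∀ {D' : Subgroup G} {w : G}, IsPlane p A D' → ¬ Cfsg.signalizerInf D' θ ≤ M →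
        w ∈ D' → w ∈ P → b * w ≠ z := fun hD' hb' hw hwP e => hzP (e ▸
          h.line_mem_of_bad h3 k.base.piv k.base.planeP k.base.fixP hD' hb'
            (mul_mem (hbD _ hD' hb') hw) (e ▸ hzl))
    have hsub : ({1, l, z, b * c, b * c₁} : Set G) ⊆ B := by
      intro w hw
      simp only [Set.mem_insert_iff, Set.mem_singleton_iff] at hw
      rcases hw with rfl | rfl | rfl | rfl | rfl
      exacts [one_mem B, hl.1, hz.2, hx, hy]
    have hlz : l ≠ z := fun e => hzP (e ▸ hl.2)
    have h5 : ({1, l, z, b * c, b * c₁} : Set G).ncard = 5 := by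
      rw [Set.ncard_insert_of_notMem, Set.ncard_insert_of_notMem, Set.ncard_insert_of_notMem,
        Set.ncard_pair hne]
      · simp only [Set.mem_insert_iff, Set.mem_singleton_iff, not_or]
        exact ⟨(hnl hD hbad hcD hcP).symm, (hnl hD₁ hb₁ hc₁D hc₁P).symm⟩
      · simp only [Set.mem_insert_iff, Set.mem_singleton_iff, not_or]
        exact ⟨hlz, (hxP hcP).2.1.symm, (hxP hc₁P).2.1.symm⟩
      · simp only [Set.mem_insert_iff, Set.mem_singleton_iff, not_or]
        exact ⟨hl1.symm, hz1.symm, (hxP hcP).1.symm, (hxP hc₁P).1.symm⟩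
    have h4 : Set.ncard (B : Set G) = 4 := by
      rw [← Nat.card_coe_set_eq]
      exact (h.plane_card hB).trans (by rw [hp]; norm_num)
    have := Set.ncard_le_ncard hsub (Set.toFinite _)
    omega
  rw [mul_left_cancel_iff] at hxy
  subst hxy
  exact eq_of_le_of_card_ge (h.plane_le hD (hbD D hD hbad) hcD hb1
    (fun e => hbP ((zpowers_le.mpr hcP) ((h.zpowers_eq_of_mem h3 hbA hc1 hb1 e).ge (mem_zpowers b))))
    (hbD D₁ hD₁ hb₁) hc₁D) (by rw [h.plane_card hD₁, h.plane_card hD])

omit k in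
/-- One nontrivial kernel is impossible. -/
theorem false_of_caseII (k : CaseII p A θ q u r M P) : False := by
  have t := k.tern
  haveI := fact_of_mem t.mq
  haveI := fact_of_mem t.mu
  haveI := fact_of_mem t.mr
  by_cases hru : layer p A θ r u = ⊥
  · exact h.false_of_layer_eq_bot h3 k hru
  by_cases hur : layer p A θ u r = ⊥
  · exact h.false_of_layer_eq_bot h3 k.symm hur
  obtain ⟨L, hL, hUL, hq, hu, hr⟩ := h.exists_max_pair h3 k
  have honly : ∀ v w : ℕ, (∀ t ∈ primes A θ, t = q ∨ t = v ∨ t = w) → core w L = ⊥ → OnlyCore v L := by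
    intro v w hon hw x hx hxv
    by_cases htm : x ∈ primes A θ
    · rcases hon x htm with e | e | e
      · rw [e]; exact hq
      · exact absurd e hxv
      · rw [e]; exact hw
    · exact h.core_eq_bot_of_notMem hL.1 hx htm
  have hr1 : core r L ≠ ⊥ := fun e => hru (eq_bot_iff.mpr (le_trans
    (le_inf le_rfl (((h.layer_le_single h3 t.mr.1 u).trans (h.single_le_pair' h3 u r)).trans hUL))
    (h.inf_eq_bot_of_onlyCore h3 hL (honly u r t.only e) t.ru isPGroup_core
      ((hu.trans (h.layer_le_single h3 t.mu.1 r)).trans (h.layer_normalized h3 r u).2)).le))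
  have hu1 : core u L ≠ ⊥ := fun e => hur (eq_bot_iff.mpr (le_trans
    (le_inf le_rfl (((h.layer_le_single h3 t.mu.1 r).trans (h.single_le_pair h3 u r)).trans hUL))
    (h.inf_eq_bot_of_onlyCore h3 hL (honly r u t.swap.only e) t.ru.symm isPGroup_core
      ((hr.trans (h.layer_le_single h3 t.mr.1 u)).trans (h.layer_normalized h3 u r).2)).le))
  have k2 : CaseII2 p A θ q u r M P L := ⟨k, hL, hUL, hq, hu1, hr1, hu, hr⟩
  by_cases hU : ∃ b, PointOnly p A θ u b ∧ ¬ IsLine p A θ q b
  swap
  · by_cases hR : ∃ a, PointOnly p A θ r a ∧ ¬ IsLine p A θ q a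
    · exact h.false_of_pair_u h3 k2.symm hR fun a hl ha => hU ⟨a, ha, hl⟩
    · obtain ⟨⟨g, hgP⟩, hgne⟩ := (ne_bot_iff_exists_ne_one).mp (h.plane_ne_bot k.planeP)
      have hsub := centralizer_le (Set.singleton_subset_iff.mpr (SetLike.mem_coe.mpr hgP))
      obtain ⟨h1, h2⟩ := h.le_centralizer_of_pair h3 k2 (k.planeP.1 hgP)
        ((h.core_le_centralizer_plane h3 k2 fun a hl ha => hR ⟨a, ha, hl⟩).trans hsub)
        ((h.core_le_centralizer_plane h3 k2.symm fun a hl ha => hU ⟨a, ha, hl⟩).trans hsub)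
      exact h.false_of_end h3 k hgP (fun e => hgne (Subtype.ext e)) h1 h2
  by_cases hR : ∃ a, PointOnly p A θ r a ∧ ¬ IsLine p A θ q a
  swap
  · exact h.false_of_pair_u h3 k2 hU fun a hl ha => hR ⟨a, ha, hl⟩
  obtain ⟨b₀, hb₀, hb₀l⟩ := hU
  obtain ⟨a₀, ha₀, ha₀l⟩ := hR
  have hNu : ∀ a, PointOnly p A θ u a ∨ PointBoth p A θ q u r a → core u L ≤ centralizer {a} :=
    fun a ha => h.core_le_centralizer_point h3 k2 ⟨a₀, ha₀⟩ ha
  have hNr : ∀ a, PointOnly p A θ r a ∨ PointBoth p A θ q r u a → core r L ≤ centralizer {a} :=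
    fun a ha => h.core_le_centralizer_point h3 k2.symm ⟨b₀, hb₀⟩ ha
  by_cases hg : ∃ g ∈ A, g ≠ 1 ∧ core u L ≤ centralizer {g} ∧ core r L ≤ centralizer {g}
  · obtain ⟨g, hgA, hg1, hgu, hgr⟩ := hg
    obtain ⟨hlu, hlr⟩ := h.le_centralizer_of_pair h3 k2 hgA hgu hgr
    have honly' : ∀ g' ∈ A, core u L ≤ centralizer {g'} → core r L ≤ centralizer {g'} →
        g' ∈ zpowers g := fun g' hg' h1 h2 => by
      by_contra hn
      obtain ⟨hlu', hlr'⟩ := h.le_centralizer_of_pair h3 k2 hg' h1 h2
      exact h.false_of_end_pair h3 k hgA hg' hg1 hn hlu hlr hlu' hlr'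
    obtain ⟨D, hD, hbad⟩ := h.exists_bad h3 k.piv
    have hgD := h.mem_bad_of_end h3 k hgA hlu hlr hD hbad
    have hgP : g ∉ P := fun e => h.false_of_end h3 k e hg1 hlu hlr
    obtain ⟨a, haD, haP, ha1, hag⟩ := h.exists_off_line h3 k hD hgD hgP
    have hal : ¬ IsLine p A θ q a := fun e =>
      haP (h.line_mem_of_bad h3 k.piv k.planeP k.fixP hD hbad haD e)
    rcases h.point_cases h3 k (hD.1 haD) ha1 hal with e | e | e
    · exact h.false_of_common_u h3 k2 ⟨a₀, ha₀⟩ hgA hg1 hgu hgr honly' ⟨b₀, hb₀⟩ hD hbad haD hag e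
    · exact h.false_of_common_u h3 k2.symm ⟨b₀, hb₀⟩ hgA hg1 hgr hgu
        (fun g' hg' h1 h2 => honly' g' hg' h2 h1) ⟨a₀, ha₀⟩ hD hbad haD hag e
    · exact hag (honly' a (hD.1 haD) (hNu a (Or.inr e)) (hNr a (Or.inr e.swap)))
  have hno : ∀ g ∈ A, core u L ≤ centralizer {g} → core r L ≤ centralizer {g} → g = 1 :=
    fun g hgA h1 h2 => by_contra fun hg1 => hg ⟨g, hgA, hg1, h1, h2⟩
  have hCR : ∀ g ∈ A, core r L ≤ centralizer {g} → g ∈ zpowers a₀ := fun g hgA hgr => by
    by_contra hn
    obtain ⟨B, hB, haB, hgB⟩ := h.exists_plane ha₀.1 hgA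
    exact h.false_of_cross h3 k2 ⟨a₀, ha₀, ha₀l⟩ ⟨b₀, hb₀, hb₀l⟩ hno hB
      (h.centralizer_element hB haB ha₀.2.1 hgB hn (hNr a₀ (Or.inl ha₀)) hgr)
  have hCN : ∀ g ∈ A, core u L ≤ centralizer {g} → g ∈ zpowers b₀ := fun g hgA hgu => by
    by_contra hn
    obtain ⟨B, hB, hbB, hgB⟩ := h.exists_plane hb₀.1 hgA
    exact h.false_of_cross h3 k2.symm ⟨b₀, hb₀, hb₀l⟩ ⟨a₀, ha₀, ha₀l⟩
      (fun g' hg' h1 h2 => hno g' hg' h2 h1) hB
      (h.centralizer_element hB hbB hb₀.2.1 hgB hn (hNu b₀ (Or.inl hb₀)) hgu)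
  have hboth : ∀ D, IsPlane p A D → ¬ Cfsg.signalizerInf D θ ≤ M →
      a₀ ∈ D ∧ b₀ ∈ D ∧ b₀ ∉ zpowers a₀ := by
    intro D hD hbad
    obtain ⟨y, hy, hyP, hy1, -⟩ := h.exists_point_bad h3 k hD hbad
    obtain ⟨y', hy', hy'P, hy'1, hyy'⟩ := h.exists_off_line h3 k hD hy hyP
    have key : ∀ w ∈ D, w ∉ P → w ≠ 1 →
        zpowers w = zpowers a₀ ∨ zpowers w = zpowers b₀ := by
      intro w hw hwP hw1
      have hwl : ¬ IsLine p A θ q w := fun e =>
        hwP (h.line_mem_of_bad h3 k.piv k.planeP k.fixP hD hbad hw e)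
      have ha' := fun e => h.zpowers_eq_of_mem h3 ha₀.1 hw1 ha₀.2.1 (hCR w (hD.1 hw) e)
      have hb' := fun e => h.zpowers_eq_of_mem h3 hb₀.1 hw1 hb₀.2.1 (hCN w (hD.1 hw) e)
      rcases h.point_cases h3 k (hD.1 hw) hw1 hwl with e | e | e
      · exact Or.inr (hb' (hNu w (Or.inl e)))
      · exact Or.inl (ha' (hNr w (Or.inl e)))
      · exact Or.inl (ha' (hNr w (Or.inr e.swap)))
    have hne : zpowers y' ≠ zpowers y := fun e => hyy' (e ▸ mem_zpowers y')
    have hmem : ∀ {w v : G}, w ∈ D → zpowers w = zpowers v → v ∈ D := fun {w v} hw e =>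
      (zpowers_le.mpr hw) (e ▸ mem_zpowers v)
    have hnm : zpowers a₀ ≠ zpowers b₀ → b₀ ∉ zpowers a₀ := fun hne e =>
      hne (h.zpowers_eq_of_mem h3 ha₀.1 hb₀.2.1 ha₀.2.1 e).symm
    rcases key y hy hyP hy1 with e | e <;> rcases key y' hy' hy'P hy'1 with e' | e'
    · exact absurd (e'.trans e.symm) hne
    · exact ⟨hmem hy e, hmem hy' e', hnm fun c => hne (e'.trans (c.symm.trans e.symm))⟩
    · exact ⟨hmem hy' e', hmem hy e, hnm fun c => hne (e'.trans (c.trans e.symm))⟩
    · exact absurd (e'.trans e.symm) hne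
  obtain ⟨D₁, hD₁, hb₁⟩ := h.exists_bad h3 k.piv
  obtain ⟨ha₁, hb₁', hind⟩ := hboth D₁ hD₁ hb₁
  refine h.false_of_unique_bad h3 k D₁ fun D hD hbad => ?_
  exact eq_of_le_of_card_ge (h.plane_le hD (hboth D hD hbad).1 (hboth D hD hbad).2.1 ha₀.2.1 hind
    ha₁ hb₁') (by rw [h.plane_card hD₁, h.plane_card hD])

omit k in
/-- At least three primes are impossible. -/
theorem false_of_three_primes : False := by
  by_cases h4 : ∀ a b c : ℕ, ∃ t ∈ primes A θ, t ≠ a ∧ t ≠ b ∧ t ≠ c
  · exact h.false_of_four h4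
  push Not at h4
  obtain ⟨q, M, hP⟩ := h.exists_pivot h3
  obtain ⟨a, b, c, h4⟩ := h4
  obtain ⟨u, hu, huq, -⟩ := h3 q q
  obtain ⟨r, hr, hrq, hru⟩ := h3 q u
  have t : Ternary A θ q u r := ⟨hP.mem, hu, hr, huq, hrq, hru, fun x hx => by
    by_contra hcon
    push Not at hcon
    have h1 := fun y hy => Classical.or_iff_not_imp_left.mpr fun hy1 =>
      Classical.or_iff_not_imp_left.mpr fun hy2 => h4 y hy hy1 hy2
    rcases h1 x hx with e1 | e1 | e1 <;> rcases h1 q hP.mem with e2 | e2 | e2 <;>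
      rcases h1 u hu with e3 | e3 | e3 <;> rcases h1 r hr with e4 | e4 | e4 <;> simp_all⟩
  obtain ⟨P, hPl, hfP, -⟩ := h.weight_plane h3 hP
  exact h.false_of_caseII h3 ⟨t, hP, hPl, hfP, h.kernelAt_eq_bot_of_pivot h3 t hP,
    h.kernelAt_eq_bot_of_pivot h3 t.swap hP⟩

end Minimal

end CfsgLib.Signalizer74
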